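import Mathlib
import Cfsg.Agent.Lib.AbelianStar.Main
import Cfsg.Agent.Lib.AbelianStar.Trace
import Cfsg.Agent.Lib.NilBlock.Main
import Cfsg.Agent.Lib.BrauerPairs.LocalInertial

/-!
# The number of characters of a block with abelian defect group and free inertial action
-/

set_option autoImplicit false
set_option linter.unusedSectionVars false

namespace Cfsg.Agent.Lib.FreeInertia

open Finset Cfsg Cfsg.Agent.Lib Cfsg.Agent.Lib.BrauerPairs Cfsg.Agent.Lib.AbelianStar
open Cfsg.Agent.Lib.NilBlock (bu bu_fst)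
open scoped ComplexConjugate

universe u

attribute [local instance] Classical.propDecidable

variable {G : Type u} [Group G] [Fintype G] {p : ℕ} {M : Ideal AlgInt} [Fact p.Prime] [M.IsPrime]
  {B : Set (IrrCharacter G)} {b : BrauerPairIdx G}

/-- The inertial group acts freely on the nontrivial elements of the pair. -/
def IsFree (b : BrauerPairIdx G) : Prop :=
  ∀ y, InStab b y → ∀ x ∈ b.1, x ≠ 1 → y * x * y⁻¹ = x →
    y ∈ Subgroup.centralizer (b.1 : Set G)

variable (hM : IsPModular p M) (hmax : IsMaximalBrauerPair p M B b.1 b.2)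
  (hab : ∀ x ∈ b.1, ∀ y ∈ b.1, x * y = y * x)

include hM hmax hab in
/-- For free inertial action every nontrivial subsection has rank one. -/
theorem blockRank_bu_eq_one (hfree : IsFree b) {w : G} (hw : w ∈ b.1) (hw1 : w ≠ 1) :
    blockRank p (bu p M b w).2 = 1 := by
  have hQ : (bu p M b w).1 ≤ b.1 := by rw [bu_fst]; exact Subgroup.zpowers_le.2 hw
  refine NilBlock.blockRank_eq_one hM ((LocalInertial.isNilpotentBlock_iff hM hab hQ hmax
    (isInducedBlockIn_bu hM hmax hab hw)).2 fun g hgC hgN hst => ?_)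
  refine hfree g ((inStab_iff hmax.1.1.2).2
    ((mem_pairStab_iff_stabilizesBlock hmax.1.1.2).2 ⟨hgN, hst⟩)) w hw hw1 ?_
  rw [NilBlock.centralizer_bu, Subgroup.mem_centralizer_singleton_iff] at hgC
  rw [hgC, mul_inv_cancel_right]

include hM hmax hab in
/-- The characters are counted by the weighted ranks of the subsections. -/
theorem card_eq_sum :
    (B.toFinset.card : ℂ) =
      ∑ w : b.1, ((orb b w).card : ℂ)⁻¹ * (blockRank p (bu p M b w).2 : ℂ) := by
  have h : ∑ χ ∈ B.toFinset, ∑ w : b.1, frm p M b w χ χ = (B.toFinset.card : ℂ) := by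
    rw [Finset.sum_congr rfl fun χ hχ => sum_frm hM hmax hab (Set.mem_toFinset.1 hχ) χ]
    simp
  rw [← h, Finset.sum_comm]
  exact Finset.sum_congr rfl fun w _ => sum_frm_diag hM hmax w

include hM hmax hab in
/-- `k = l +` the number of nontrivial orbits, written as a weighted sum. -/
theorem card_eq_rank_add (hfree : IsFree b) :
    (B.toFinset.card : ℂ) =
      (blockRank p B : ℂ) + ∑ w ∈ univ.erase (1 : b.1), ((orb b w).card : ℂ)⁻¹ := by
  rw [card_eq_sum hM hmax hab, ← Finset.add_sum_erase _ _ (Finset.mem_univ (1 : b.1))]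
  congr 1
  · rw [card_orb_one hmax, Nat.cast_one, inv_one, one_mul]
    congr 1
    exact blockRank_bu_of_mem_center hM hmax b.1.one_mem (Subgroup.one_mem _)
  · refine Finset.sum_congr rfl fun w hw => ?_
    rw [blockRank_bu_eq_one hM hmax hab hfree w.2 (fun h => (Finset.mem_erase.1 hw).1 (Subtype.ext h)),
      Nat.cast_one, mul_one]

include hM hmax hab in
/-- A cyclic defect group has free inertial action. -/
theorem isFree_of_isCyclic (hcyc : IsCyclic b.1) : IsFree b := by
  intro y hy x hx hx1 hyx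
  have hyN := ((mem_pairStab_iff hmax.1.1.2).1 hy).1
  set α := Fusion.conjAut b.1 y hyN
  have hα : α ∈ autInducedBy (pairStab hmax.1.1.2) b.1 :=
    Fusion.mem_autInducedBy.2 ⟨y, hy, fun z => rfl⟩
  obtain ⟨m, hm⟩ := MonoidHom.map_cyclic (α : b.1 →* b.1)
  obtain ⟨n, hn⟩ := (hmax.1.1.1 : IsPGroup p b.1).exists_card_eq
  have hit : ∀ (N : ℕ) (z : b.1), (α ^ N) z = z ^ (m ^ N) := by
    intro N
    induction N with
    | zero => simp
    | succ N ih =>
      intro z
      rw [pow_succ', MulAut.mul_apply, ih, show α (z ^ m ^ N) = (z ^ m ^ N) ^ m from hm _, ← zpow_mul,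
        pow_succ]
  have hw : (⟨x, hx⟩ : b.1) ^ m = ⟨x, hx⟩ := by
    rw [← hm]
    exact Subtype.ext hyx
  have hdvd : (p : ℤ) ∣ m - 1 := by
    have h1 : ((orderOf (⟨x, hx⟩ : b.1) : ℕ) : ℤ) ∣ m - 1 := by
      rw [orderOf_dvd_iff_zpow_eq_one, zpow_sub, hw, zpow_one, mul_inv_cancel]
    obtain ⟨j, -, hj⟩ := (Nat.dvd_prime_pow (Fact.out : p.Prime)).1
      (hn ▸ orderOf_dvd_natCard (⟨x, hx⟩ : b.1))
    refine dvd_trans ?_ h1
    rw [hj]
    rcases j with _ | j
    · exact absurd (orderOf_eq_one_iff.1 (hj.trans (pow_zero p))) fun h => hx1 (congrArg Subtype.val h)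
    · exact_mod_cast dvd_pow_self p (Nat.succ_ne_zero j)
  have hpow : α ^ p ^ n = 1 := by
    refine MulEquiv.ext fun z => ?_
    rw [hit, MulAut.one_apply]
    have h2 : ((p : ℤ) ^ (n + 1)) ∣ m ^ p ^ n - 1 ^ p ^ n := dvd_sub_pow_of_dvd_sub hdvd n
    rw [one_pow] at h2
    have h3 : ((orderOf z : ℕ) : ℤ) ∣ m ^ p ^ n - 1 := by
      refine dvd_trans ?_ ((pow_dvd_pow (p : ℤ) n.le_succ).trans h2)
      exact_mod_cast hn ▸ orderOf_dvd_natCard z
    rw [orderOf_dvd_iff_zpow_eq_one, zpow_sub, zpow_one, mul_inv_eq_one] at h3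
    exact h3
  have hcard := not_dvd_card_aut hM hmax hab
  have hA : orderOf α ∣ Nat.card (autInducedBy (pairStab hmax.1.1.2) b.1) := by
    rw [← Subgroup.orderOf_mk α hα]
    exact orderOf_dvd_natCard _
  have hco : (p ^ n).Coprime (Nat.card (autInducedBy (pairStab hmax.1.1.2) b.1)) :=
    Nat.Coprime.pow_left _ ((Fact.out : p.Prime).coprime_iff_not_dvd.2 hcard)
  have h1 : α = 1 := orderOf_eq_one_iff.1 (Nat.eq_one_of_dvd_coprimes hco
    (orderOf_dvd_of_pow_eq_one hpow) hA)
  refine Subgroup.mem_centralizer_iff.2 fun z hz => ?_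
  have h := congrArg (fun f : MulAut b.1 => ((f ⟨z, hz⟩ : b.1) : G)) h1
  simp only [MulAut.one_apply] at h
  rw [show (α ⟨z, hz⟩ : G) = y * z * y⁻¹ from rfl, mul_inv_eq_iff_eq_mul] at h
  exact h.symm

end Cfsg.Agent.Lib.FreeInertia
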