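import Mathlib

/-!
# Integral rows with Gram matrix `e + δ`
-/

set_option autoImplicit false
set_option linter.unusedSectionVars false

namespace Cfsg.Agent.Lib.FreeInertia.Comb

open Finset

variable {ι J : Type*} [Fintype ι] [Fintype J] [DecidableEq ι] [DecidableEq J] {m : ι → J → ℤ}
  {e : ℕ}

theorem le_sum_sq (x : J → ℤ) (hx : ∃ j, x j ≠ 0) :
    (Fintype.card J : ℤ) ≤ (Fintype.card J + 1) * ∑ j, x j ^ 2 - (∑ j, x j) ^ 2 := by
  set t : ℤ := (Fintype.card J : ℤ) with ht
  set F := univ.filter fun j => x j ≠ 0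
  set s : ℤ := (F.card : ℤ) with hs
  have hs1 : 1 ≤ s := by
    obtain ⟨j, hj⟩ := hx
    have : 0 < F.card := Finset.card_pos.2 ⟨j, by simp [F, hj]⟩
    omega
  have hst : s ≤ t := by
    have := Finset.card_le_univ F
    omega
  have hsum : ∑ j, x j = ∑ j ∈ F, x j := (Finset.sum_filter_ne_zero univ).symm
  have hsq : ∑ j, x j ^ 2 = ∑ j ∈ F, x j ^ 2 := by
    refine (Finset.sum_subset (Finset.subset_univ F) fun j _ hj => ?_).symm
    simp only [F, Finset.mem_filter, Finset.mem_univ, true_and, not_not] at hj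
    rw [hj]; norm_num
  have hcs : (∑ j ∈ F, x j) ^ 2 ≤ s * ∑ j ∈ F, x j ^ 2 := sq_sum_le_card_mul_sum_sq
  have hS : s ≤ ∑ j ∈ F, x j ^ 2 := by
    rw [hs, Finset.card_eq_sum_ones, Nat.cast_sum]
    refine Finset.sum_le_sum fun j hj => ?_
    have hne : x j ≠ 0 := (Finset.mem_filter.1 hj).2
    have : 0 < x j ^ 2 := by positivity
    push_cast
    omega
  rw [hsum, hsq]
  nlinarith [mul_nonneg (show (0 : ℤ) ≤ t + 1 - s by linarith) (show (0 : ℤ) ≤
    ∑ j ∈ F, x j ^ 2 - s by linarith), mul_nonneg (show (0 : ℤ) ≤ s - 1 by linarith)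
    (show (0 : ℤ) ≤ t - s by linarith)]

variable (hG : ∀ i j, ∑ χ, m χ i * m χ j = (e : ℤ) + if i = j then 1 else 0)
  (hne : ∀ χ, ∃ j, m χ j ≠ 0)

include hG hne in
/-- There are at most `e + t` rows. -/
theorem card_le (hJ : 0 < Fintype.card J) : Fintype.card ι ≤ e + Fintype.card J := by
  set t : ℤ := (Fintype.card J : ℤ) with ht
  have h1 : (Fintype.card ι : ℤ) * t ≤
      ∑ χ, ((t + 1) * ∑ j, m χ j ^ 2 - (∑ j, m χ j) ^ 2) := by
    have := Finset.sum_le_sum (s := univ) fun χ _ => le_sum_sq (m χ) (hne χ)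
    simpa using this
  have h2 : ∑ χ, ∑ j, m χ j ^ 2 = t * ((e : ℤ) + 1) := by
    rw [Finset.sum_comm, Finset.sum_congr rfl (g := fun _ => (e : ℤ) + 1) fun j _ => by
      rw [← (show (e : ℤ) + (if j = j then 1 else 0) = e + 1 by simp), ← hG]
      exact Finset.sum_congr rfl fun χ _ => sq _]
    simp [ht]
  have h3 : ∑ χ, (∑ j, m χ j) ^ 2 = t * (t * e + 1) := by
    simp only [sq, Finset.sum_mul_sum]
    rw [Finset.sum_comm, Finset.sum_congr rfl fun i _ => by
      rw [Finset.sum_comm, Finset.sum_congr rfl fun j _ => hG i j]]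
    simp [Finset.sum_add_distrib, ht]
  rw [Finset.sum_sub_distrib, ← Finset.mul_sum, h2, h3] at h1
  have h4 : (Fintype.card ι : ℤ) * t ≤ ((e : ℤ) + t) * t := by linarith
  have := le_of_mul_le_mul_right h4 (show (0 : ℤ) < t by omega)
  omega

include hG hne in
/-- For `e ≤ 3` there are `e + t` rows, or `t ≥ 3` and there are `e + 2`. -/
theorem card_eq_or (hJ : 0 < Fintype.card J) (he : e ≤ 3)
    (hl : Fintype.card J < Fintype.card ι) :
    Fintype.card ι = e + Fintype.card J ∨
      (3 ≤ Fintype.card J ∧ Fintype.card ι = e + 2) := by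
  have hcol : ∀ j, ∑ χ, m χ j * m χ j = (e : ℤ) + 1 := fun j => by rw [hG]; simp
  have hsmall : ∀ χ j, m χ j = 0 ∨ m χ j = 1 ∨ m χ j = -1 := by
    intro χ j
    have hle : m χ j * m χ j ≤ (e : ℤ) + 1 := hcol j ▸
      Finset.single_le_sum (f := fun ψ => m ψ j * m ψ j) (fun ψ _ => mul_self_nonneg _)
        (Finset.mem_univ χ)
    by_contra hc
    have hb : m χ j = 2 ∨ m χ j = -2 := by
      have h1 : -2 ≤ m χ j := by nlinarith
      have h2 : m χ j ≤ 2 := by nlinarith
      omega
    have hsq : m χ j * m χ j = 4 := by rcases hb with h | h <;> rw [h] <;> norm_num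
    have he3 : e = 3 := by omega
    have hz : ∀ ψ, ψ ≠ χ → m ψ j = 0 := by
      intro ψ hψ
      have h := hcol j
      rw [← Finset.add_sum_erase _ _ (Finset.mem_univ χ), hsq, he3] at h
      have h0 : ∑ φ ∈ univ.erase χ, m φ j * m φ j = 0 := by push_cast at h; linarith
      exact mul_self_eq_zero.1 ((Finset.sum_eq_zero_iff_of_nonneg fun φ _ => mul_self_nonneg _).1 h0
        ψ (Finset.mem_erase.2 ⟨hψ, Finset.mem_univ _⟩))
    by_cases h1 : ∃ i, i ≠ j
    · obtain ⟨i, hi⟩ := h1
      have h := hG j i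
      rw [if_neg hi.symm, Finset.sum_eq_single χ (fun ψ _ hψ => by rw [hz ψ hψ, zero_mul])
        (by simp), he3] at h
      rcases hb with hb | hb <;> rw [hb] at h <;> omega
    · push Not at h1
      have hJ1 : Fintype.card J = 1 := Fintype.card_eq_one_iff.2 ⟨j, fun i => h1 i⟩
      have : Fintype.card ι ≤ 1 := Fintype.card_le_one_iff.2 fun φ ψ => by
        obtain ⟨i, hi⟩ := hne φ
        obtain ⟨i', hi'⟩ := hne ψ
        rw [h1 i] at hi
        rw [h1 i'] at hi'
        rw [(not_imp_comm.1 (hz φ)) hi, (not_imp_comm.1 (hz ψ)) hi']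
      omega
  let S : J → Finset ι := fun j => univ.filter fun χ => m χ j ≠ 0
  have hmemS : ∀ {χ j}, χ ∈ S j ↔ m χ j ≠ 0 := fun {χ j} => by simp [S]
  have hS : ∀ j, (S j).card = e + 1 := by
    intro j
    have h := hcol j
    rw [← Finset.sum_subset (Finset.subset_univ (S j)) (fun χ _ hχ => by
        rw [hmemS, not_not] at hχ; rw [hχ, zero_mul]),
      Finset.sum_congr rfl (g := fun _ => (1 : ℤ)) fun χ hχ => by
        rcases hsmall χ j with h | h | h
        · exact absurd h (hmemS.1 hχ)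
        all_goals rw [h]; norm_num] at h
    simp only [Finset.sum_const, nsmul_eq_mul, mul_one] at h
    omega
  have hInt : ∀ i j, i ≠ j → (S i ∩ S j).card = e := by
    intro i j hij
    have h := hG i j
    rw [if_neg hij, add_zero, ← Finset.sum_subset (Finset.subset_univ (S i ∩ S j)) (fun χ _ hχ => by
      rw [Finset.mem_inter, hmemS, hmemS, not_and_or, not_not, not_not] at hχ
      rcases hχ with h | h <;> rw [h] <;> simp)] at h
    have hpm : ∀ χ ∈ S i ∩ S j, m χ i * m χ j = 1 ∨ m χ i * m χ j = -1 := by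
      intro χ hχ
      obtain ⟨h1, h2⟩ := Finset.mem_inter.1 hχ
      rcases hsmall χ i with a | a | a <;> rcases hsmall χ j with c | c | c <;>
        first
          | exact absurd a (hmemS.1 h1)
          | exact absurd c (hmemS.1 h2)
          | (rw [a, c]; norm_num)
    have hle : (S i ∩ S j).card ≤ e + 1 :=
      hS i ▸ Finset.card_le_card Finset.inter_subset_left
    have hge : (e : ℤ) ≤ (S i ∩ S j).card := by
      rw [← h, Finset.card_eq_sum_ones, Nat.cast_sum]
      exact Finset.sum_le_sum fun χ hχ => by rcases hpm χ hχ with a | a <;> rw [a] <;> norm_num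
    have hpar : Even (((S i ∩ S j).card : ℤ) - e) := by
      rw [← h, Finset.card_eq_sum_ones, Nat.cast_sum, ← Finset.sum_sub_distrib]
      refine Finset.even_sum _ fun χ hχ => ?_
      rcases hpm χ hχ with a | a <;> rw [a] <;> decide
    obtain ⟨r, hr⟩ := hpar
    omega
  have hcover : ∀ χ, ∃ j, χ ∈ S j := fun χ => (hne χ).imp fun j => hmemS.2
  obtain ⟨i0⟩ := Fintype.card_pos_iff.1 hJ
  by_cases h1 : ∃ i, i ≠ i0
  swap
  · push Not at h1
    have hJ1 : Fintype.card J = 1 := Fintype.card_eq_one_iff.2 ⟨i0, fun i => h1 i⟩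
    left
    rw [hJ1, ← hS i0, ← Finset.card_univ]
    congr 1
    refine (Finset.eq_univ_of_forall fun χ => ?_).symm
    obtain ⟨j, hj⟩ := hcover χ
    rwa [h1 j] at hj
  obtain ⟨i1, hi1⟩ := h1
  set I := S i0 ∩ S i1 with hI
  have hIc : I.card = e := hInt i0 i1 hi1.symm
  by_cases hsun : ∀ i, I ⊆ S i
  · left
    have hpair : ∀ i j, i ≠ j → S i ∩ S j = I := fun i j hij =>
      (Finset.eq_of_subset_of_card_le (Finset.subset_inter (hsun i) (hsun j))
        (by rw [hInt i j hij, hIc])).symm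
    have huniv : (univ : Finset ι) \ I = univ.biUnion fun j => S j \ I := by
      ext χ
      simp only [Finset.mem_sdiff, Finset.mem_univ, true_and, Finset.mem_biUnion]
      exact ⟨fun h => (hcover χ).imp fun j hj => ⟨hj, h⟩, fun ⟨j, hj⟩ => hj.2⟩
    have hc := congrArg Finset.card huniv
    rw [Finset.card_sdiff_of_subset (Finset.subset_univ _), Finset.card_univ,
      Finset.card_biUnion (fun i _ j _ hij => Finset.disjoint_left.2 fun χ h h' => by
        have := hpair i j hij ▸ Finset.mem_inter.2 ⟨(Finset.mem_sdiff.1 h).1, (Finset.mem_sdiff.1 h').1⟩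
        exact (Finset.mem_sdiff.1 h).2 this),
      Finset.sum_congr rfl (g := fun _ => 1) fun j _ => by
        rw [Finset.card_sdiff_of_subset (hsun j), hS, hIc]; omega] at hc
    simp only [Finset.sum_const, smul_eq_mul, mul_one, Finset.card_univ, hIc] at hc
    omega
  · right
    push Not at hsun
    obtain ⟨i2, hi2⟩ := hsun
    have hne0 : i2 ≠ i0 := fun h => hi2 (h ▸ Finset.inter_subset_left)
    have hne1 : i2 ≠ i1 := fun h => hi2 (h ▸ Finset.inter_subset_right)
    refine ⟨?_, ?_⟩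
    · have : ({i0, i1, i2} : Finset J).card = 3 := by
        rw [Finset.card_insert_of_notMem (by simp [hi1.symm, hne0.symm]),
          Finset.card_insert_of_notMem (by simp [hne1.symm]), Finset.card_singleton]
      exact this ▸ Finset.card_le_univ _
    set U := S i0 ∪ S i1 with hU
    have hUc : U.card = e + 2 := by
      have h := Finset.card_union_add_card_inter (S i0) (S i1)
      rw [hS, hS, ← hI, hIc, ← hU] at h
      omega
    have hin : ∀ i, ¬ I ⊆ S i → S i ⊆ U := by
      intro i hi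
      have hi0' : i ≠ i0 := fun h => hi (h ▸ Finset.inter_subset_left)
      have hi1' : i ≠ i1 := fun h => hi (h ▸ Finset.inter_subset_right)
      have h := Finset.card_union_add_card_inter (S i ∩ S i0) (S i ∩ S i1)
      rw [hInt i i0 hi0', hInt i i1 hi1', ← Finset.inter_union_distrib_left,
        show S i ∩ S i0 ∩ (S i ∩ S i1) = S i ∩ I by ext; simp [hI]; tauto] at h
      have hlt : (S i ∩ I).card < e := by
        rw [← hIc]
        refine Finset.card_lt_card ⟨Finset.inter_subset_right, fun hss => hi fun χ hχ => ?_⟩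
        exact (Finset.mem_inter.1 (hss hχ)).1
      have heq : S i ∩ U = S i :=
        Finset.eq_of_subset_of_card_le Finset.inter_subset_left (by rw [hS, hU]; omega)
      exact Finset.inter_eq_left.1 heq
    have hall : ∀ i, S i ⊆ U := by
      intro i
      by_cases hi : I ⊆ S i
      swap
      · exact hin i hi
      intro c hc
      by_contra hcU
      have hii2 : i ≠ i2 := fun h => hi2 (h ▸ hi)
      have hcI : c ∉ I := fun h => hcU (Finset.mem_union_left _ (Finset.mem_inter.1 h).1)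
      have hone : (S i \ I).card = 1 := by
        rw [Finset.card_sdiff_of_subset hi, hS, hIc]; omega
      obtain ⟨d, hd⟩ := Finset.card_eq_one.1 hone
      have hcd : c = d := Finset.mem_singleton.1 (hd ▸ Finset.mem_sdiff.2 ⟨hc, hcI⟩)
      have hsub : S i ∩ S i2 ⊆ I ∩ S i2 := by
        intro χ hχ
        obtain ⟨h1, h2⟩ := Finset.mem_inter.1 hχ
        refine Finset.mem_inter.2 ⟨?_, h2⟩
        by_contra hno
        have : χ = c := hcd ▸ Finset.mem_singleton.1 (hd ▸ Finset.mem_sdiff.2 ⟨h1, hno⟩)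
        exact hcU (this ▸ hin i2 hi2 h2)
      have h3 : (I ∩ S i2).card < e := by
        rw [← hIc]
        exact Finset.card_lt_card ⟨Finset.inter_subset_left, fun hss => hi2 fun χ hχ =>
          (Finset.mem_inter.1 (hss hχ)).2⟩
      have := Finset.card_le_card hsub
      rw [hInt i i2 hii2] at this
      omega
    rw [← hUc, ← Finset.card_univ]
    congr 1
    refine (Finset.eq_univ_of_forall fun χ => ?_).symm
    obtain ⟨j, hj⟩ := hcover χ
    exact hall j hj

omit [DecidableEq ι] in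
/-- Rows attaining equality in `le_sum_sq`. -/
theorem shape_of_eq (x : J → ℤ) (hx : ∃ j, x j ≠ 0)
    (h : (Fintype.card J + 1) * ∑ j, x j ^ 2 - (∑ j, x j) ^ 2 = (Fintype.card J : ℤ)) :
    ∃ σ : ℤ, (σ = 1 ∨ σ = -1) ∧ ((∀ j, x j = σ) ∨ ∃ j, ∀ i, x i = if i = j then σ else 0) := by
  set t : ℤ := (Fintype.card J : ℤ) with ht
  set F := univ.filter fun j => x j ≠ 0 with hF
  have hmem : ∀ {j}, j ∈ F ↔ x j ≠ 0 := fun {j} => by simp [hF]
  set s : ℤ := (F.card : ℤ) with hs
  have hs1 : 1 ≤ s := by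
    obtain ⟨j, hj⟩ := hx
    have : 0 < F.card := Finset.card_pos.2 ⟨j, hmem.2 hj⟩
    omega
  have hst : s ≤ t := by
    have := Finset.card_le_univ F
    omega
  have hsum : ∑ j, x j = ∑ j ∈ F, x j := (Finset.sum_filter_ne_zero univ).symm
  have hsq : ∑ j, x j ^ 2 = ∑ j ∈ F, x j ^ 2 := by
    refine (Finset.sum_subset (Finset.subset_univ F) fun j _ hj => ?_).symm
    rw [hmem, not_not] at hj
    rw [hj]; norm_num
  have hcs : (∑ j ∈ F, x j) ^ 2 ≤ s * ∑ j ∈ F, x j ^ 2 := sq_sum_le_card_mul_sum_sq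
  have hge : ∀ j ∈ F, 1 ≤ x j ^ 2 := fun j hj => by
    have hne : x j ≠ 0 := hmem.1 hj
    have : 0 < x j ^ 2 := by positivity
    omega
  have hS : s ≤ ∑ j ∈ F, x j ^ 2 := by
    rw [hs, Finset.card_eq_sum_ones, Nat.cast_sum]
    exact Finset.sum_le_sum fun j hj => by push_cast; exact hge j hj
  rw [hsum, hsq] at h
  set Q := ∑ j ∈ F, x j ^ 2 with hQdef
  set S := ∑ j ∈ F, x j with hSdef
  have hb : 0 ≤ (t + 1 - s) * (Q - s) := mul_nonneg (by linarith) (by linarith)
  have hc : 0 ≤ (s - 1) * (t - s) := mul_nonneg (by linarith) (by linarith)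
  have hQs : Q = s := by
    have h0 : (t + 1 - s) * (Q - s) = 0 := by nlinarith
    rcases mul_eq_zero.1 h0 with h1 | h1 <;> linarith
  have hc0 : (s - 1) * (t - s) = 0 := by nlinarith
  have hSs : S ^ 2 = s * s := by rw [hQs] at hcs h; nlinarith
  obtain ⟨σ, hσ, hSσ⟩ : ∃ σ : ℤ, (σ = 1 ∨ σ = -1) ∧ S = σ * s := by
    rcases mul_self_eq_mul_self_iff.1 (by rw [← hSs]; ring : S * S = s * s) with h1 | h1
    · exact ⟨1, Or.inl rfl, by rw [h1]; ring⟩
    · exact ⟨-1, Or.inr rfl, by rw [h1]; ring⟩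
  have hσ2 : σ ^ 2 = 1 := by rcases hσ with h1 | h1 <;> rw [h1] <;> norm_num
  have hall : ∀ j ∈ F, x j = σ := by
    have h0 : ∑ j ∈ F, (x j - σ) ^ 2 = 0 := by
      simp only [sub_sq, Finset.sum_add_distrib, Finset.sum_sub_distrib, ← Finset.mul_sum,
        ← Finset.sum_mul, Finset.sum_const, nsmul_eq_mul, hσ2, mul_one]
      rw [← hQdef, ← hSdef, hQs, hSσ, ← hs]
      linear_combination (-2 * s) * hσ2
    intro j hj
    have := (Finset.sum_eq_zero_iff_of_nonneg fun i _ => sq_nonneg _).1 h0 j hj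
    exact sub_eq_zero.1 (pow_eq_zero_iff two_ne_zero |>.1 this)
  refine ⟨σ, hσ, ?_⟩
  rcases mul_eq_zero.1 hc0 with h1 | h1
  · right
    obtain ⟨j, hj⟩ := Finset.card_eq_one.1 (show F.card = 1 by omega)
    refine ⟨j, fun i => ?_⟩
    split_ifs with hij
    · exact hall i (by rw [hj, hij]; exact Finset.mem_singleton_self _)
    · by_contra hne
      exact hij (Finset.mem_singleton.1 (hj ▸ hmem.2 hne))
  · left
    intro j
    refine hall j ?_
    rw [Finset.eq_univ_of_card F (show F.card = Fintype.card J by omega)]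
    exact Finset.mem_univ _

include hG hne in
/-- With exactly `e + t` rows, `t` rows are signed unit vectors, one for each column, and the
others are signed all-one vectors. -/
theorem exists_shape (hJ : 0 < Fintype.card J) (hk : Fintype.card ι = e + Fintype.card J) :
    ∃ (σ : ι → ℤ) (ψ : J → ι), (∀ χ, σ χ = 1 ∨ σ χ = -1) ∧ Function.Injective ψ ∧
      (∀ i j, m (ψ j) i = if i = j then σ (ψ j) else 0) ∧
      (∀ χ, (∀ j, ψ j ≠ χ) → ∀ i, m χ i = σ χ) := by
  set t : ℤ := (Fintype.card J : ℤ) with ht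
  have h2 : ∑ χ, ∑ j, m χ j ^ 2 = t * ((e : ℤ) + 1) := by
    rw [Finset.sum_comm, Finset.sum_congr rfl (g := fun _ => (e : ℤ) + 1) fun j _ => by
      rw [← (show (e : ℤ) + (if j = j then 1 else 0) = e + 1 by simp), ← hG]
      exact Finset.sum_congr rfl fun χ _ => sq _]
    simp [ht]
  have h3 : ∑ χ, (∑ j, m χ j) ^ 2 = t * (t * e + 1) := by
    simp only [sq, Finset.sum_mul_sum]
    rw [Finset.sum_comm, Finset.sum_congr rfl fun i _ => by
      rw [Finset.sum_comm, Finset.sum_congr rfl fun j _ => hG i j]]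
    simp [Finset.sum_add_distrib, ht]
  have heq : ∀ χ, (Fintype.card J + 1) * ∑ j, m χ j ^ 2 - (∑ j, m χ j) ^ 2 =
      (Fintype.card J : ℤ) := by
    intro χ
    have h0 : ∑ φ, ((t + 1) * ∑ j, m φ j ^ 2 - (∑ j, m φ j) ^ 2 - t) = 0 := by
      rw [Finset.sum_sub_distrib, Finset.sum_sub_distrib, ← Finset.mul_sum, h2, h3]
      simp only [Finset.sum_const, Finset.card_univ, hk, nsmul_eq_mul]
      push_cast
      rw [← ht]
      ring
    have := (Finset.sum_eq_zero_iff_of_nonneg (fun φ _ => by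
      have := le_sum_sq (m φ) (hne φ)
      linarith)).1 h0 χ (Finset.mem_univ _)
    linarith
  choose σ hσ htype using fun χ => shape_of_eq (m χ) (hne χ) (heq χ)
  have hsq : ∀ χ, σ χ * σ χ = 1 := fun χ => by rcases hσ χ with h | h <;> rw [h] <;> norm_num
  rcases Nat.lt_or_ge (Fintype.card J) 2 with h1 | h1
  · haveI : Subsingleton J := Fintype.card_le_one_iff_subsingleton.1 (by omega)
    obtain ⟨j0⟩ := Fintype.card_pos_iff.1 hJ
    obtain ⟨r⟩ := Fintype.card_pos_iff.1 (show 0 < Fintype.card ι by omega)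
    have hval : ∀ χ i, m χ i = σ χ := by
      intro χ i
      rcases htype χ with h | ⟨j, h⟩
      · exact h i
      · rw [h i, if_pos (Subsingleton.elim _ _)]
    exact ⟨σ, fun _ => r, hσ, fun i j _ => Subsingleton.elim _ _,
      fun i j => by rw [hval, if_pos (Subsingleton.elim _ _)], fun χ _ i => hval χ i⟩
  have hexcl : ∀ χ, (∀ i, m χ i = σ χ) → ∀ j, ¬ ∀ i, m χ i = if i = j then σ χ else 0 := by
    intro χ h j h'
    obtain ⟨i, hi⟩ := Fintype.exists_ne_of_one_lt_card h1 j
    have := (h i).symm.trans (h' i)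
    rw [if_neg hi] at this
    exact one_ne_zero (by rw [← hsq χ, this, zero_mul])
  classical
  set A := univ.filter fun χ => ∀ i, m χ i = σ χ with hA
  have hnotA : ∀ χ, χ ∉ A → ∃ j, ∀ i, m χ i = if i = j then σ χ else 0 := fun χ h =>
    (htype χ).resolve_left fun h' => h (Finset.mem_filter.2 ⟨Finset.mem_univ _, h'⟩)
  have hprod : ∀ i j, i ≠ j → ∀ χ, m χ i * m χ j = if χ ∈ A then 1 else 0 := by
    intro i j hij χ
    split_ifs with h
    · rw [(Finset.mem_filter.1 h).2, (Finset.mem_filter.1 h).2, hsq]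
    · obtain ⟨l, hl⟩ := hnotA χ h
      rw [hl, hl]
      rcases eq_or_ne i l with rfl | hil
      · simp [hij.symm]
      · simp [hil]
  have hAc : (A.card : ℤ) = e := by
    obtain ⟨i⟩ := Fintype.card_pos_iff.1 hJ
    obtain ⟨j, hj⟩ := Fintype.exists_ne_of_one_lt_card h1 i
    have h := hG i j
    rw [if_neg hj.symm, add_zero, Finset.sum_congr rfl fun χ _ => hprod i j hj.symm χ] at h
    simpa [Finset.sum_ite_mem] using h
  have huniq : ∀ j, (univ.filter fun χ => χ ∉ A ∧ m χ j ≠ 0).card = 1 := by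
    intro j
    have hterm : ∀ χ, m χ j * m χ j = (if χ ∈ A then 1 else 0) + if χ ∉ A ∧ m χ j ≠ 0 then 1 else 0 := by
      intro χ
      by_cases h : χ ∈ A
      · rw [(Finset.mem_filter.1 h).2, if_pos h, if_neg fun h' => h'.1 h, hsq]; norm_num
      · obtain ⟨l, hl⟩ := hnotA χ h
        rw [if_neg h, hl j]
        rcases eq_or_ne j l with rfl | hjl
        · rw [if_pos rfl, hsq, if_pos ⟨h, fun h0 => one_ne_zero (by rw [← hsq χ, h0, zero_mul])⟩]
          norm_num
        · simp [hjl]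
    have hh := hG j j
    rw [if_pos rfl, Finset.sum_congr rfl fun χ _ => hterm χ, Finset.sum_add_distrib] at hh
    simp [Finset.sum_ite_mem, Finset.sum_boole, hAc] at hh
    exact_mod_cast (show ((univ.filter fun χ => χ ∉ A ∧ m χ j ≠ 0).card : ℤ) = 1 by linarith)
  choose ψ hψ using fun j => Finset.card_eq_one.1 (huniq j)
  have hψ' : ∀ j, ψ j ∉ A ∧ m (ψ j) j ≠ 0 := fun j =>
    (Finset.mem_filter.1 (show ψ j ∈ univ.filter fun χ => χ ∉ A ∧ m χ j ≠ 0 by
      rw [hψ j]; exact Finset.mem_singleton_self _)).2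
  have hrow : ∀ j i, m (ψ j) i = if i = j then σ (ψ j) else 0 := by
    intro j i
    obtain ⟨l, hl⟩ := hnotA _ (hψ' j).1
    obtain rfl : j = l := by
      by_contra hjl
      exact (hψ' j).2 (by rw [hl j, if_neg hjl])
    exact hl i
  refine ⟨σ, ψ, hσ, fun i j h => ?_, fun i j => hrow j i, fun χ hχ i => ?_⟩
  · by_contra hij
    refine (hψ' i).2 ?_
    rw [h, hrow j i, if_neg hij]
  · by_contra hne'
    have hχA : χ ∉ A := fun h => hne' ((Finset.mem_filter.1 h).2 i)
    obtain ⟨l, hl⟩ := hnotA χ hχA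
    refine hχ l ?_
    have : χ ∈ univ.filter fun χ => χ ∉ A ∧ m χ l ≠ 0 :=
      Finset.mem_filter.2 ⟨Finset.mem_univ _, hχA, by
        rw [hl l, if_pos rfl]; exact fun h0 => one_ne_zero (by rw [← hsq χ, h0, zero_mul])⟩
    rw [hψ l, Finset.mem_singleton] at this
    exact this.symm

end Cfsg.Agent.Lib.FreeInertia.Comb
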