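import Cfsg.Agent.Lib.Star.Basic
import Cfsg.Agent.Lib.Star.Galois
import Cfsg.Agent.Lib.Blocks.PPart
import Mathlib

/-!
# Functions on an abelian `p`-group modulo its order
-/

set_option autoImplicit false
set_option linter.unusedSectionVars false

namespace Cfsg.Agent.Lib.FreeInertia

open Finset Cfsg
open Cfsg.Agent.Lib
open Cfsg.Agent.Lib.Blocks (localRing residue mem_localRing)
open Cfsg.Agent.Lib.Star (Spn)
open scoped ComplexConjugate

universe u

variable {M : Ideal AlgInt} [M.IsPrime] {p : ℕ} [Fact p.Prime]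

/-- Congruence modulo `N` in the local ring. -/
def Cong (M : Ideal AlgInt) [M.IsPrime] (N : ℕ) (x y : ℂ) : Prop :=
  ∃ o ∈ localRing M, x - y = (N : ℂ) * o

theorem Cong.refl (N : ℕ) (x : ℂ) : Cong M N x x := ⟨0, zero_mem _, by simp⟩

theorem Cong.symm {N : ℕ} {x y : ℂ} (h : Cong M N x y) : Cong M N y x := by
  obtain ⟨o, ho, h⟩ := h
  exact ⟨-o, neg_mem ho, by linear_combination -h⟩

theorem Cong.trans {N : ℕ} {x y z : ℂ} (h : Cong M N x y) (h' : Cong M N y z) : Cong M N x z := by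
  obtain ⟨o, ho, h⟩ := h
  obtain ⟨o', ho', h'⟩ := h'
  exact ⟨o + o', add_mem ho ho', by linear_combination h + h'⟩

theorem Cong.mul_right {N : ℕ} {x y c : ℂ} (h : Cong M N x y) (hc : c ∈ localRing M) :
    Cong M N (x * c) (y * c) := by
  obtain ⟨o, ho, h⟩ := h
  exact ⟨o * c, mul_mem ho hc, by linear_combination c * h⟩

theorem Cong.mul_left {N : ℕ} {x y c : ℂ} (h : Cong M N x y) (hc : c ∈ localRing M) :
    Cong M N (c * x) (c * y) := by
  rw [mul_comm c x, mul_comm c y]
  exact h.mul_right hc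

theorem Cong.mul {N : ℕ} {x y x' y' : ℂ} (h : Cong M N x y) (h' : Cong M N x' y')
    (hy : y ∈ localRing M) (hx' : x' ∈ localRing M) : Cong M N (x * x') (y * y') :=
  (h.mul_right hx').trans (h'.mul_left hy)

theorem Cong.neg {N : ℕ} {x y : ℂ} (h : Cong M N x y) : Cong M N (-x) (-y) := by
  simpa using h.mul_left (c := -1) (neg_mem (one_mem _))

theorem Cong.prod {N : ℕ} {ι : Type*} (s : Finset ι) {f g : ι → ℂ}
    (h : ∀ i ∈ s, Cong M N (f i) (g i)) (hf : ∀ i ∈ s, f i ∈ localRing M)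
    (hg : ∀ i ∈ s, g i ∈ localRing M) : Cong M N (∏ i ∈ s, f i) (∏ i ∈ s, g i) := by
  classical
  induction s using Finset.induction_on with
  | empty => exact Cong.refl _ _
  | insert a t ha ih =>
    simp only [Finset.mem_insert, forall_eq_or_imp] at h hf hg
    rw [Finset.prod_insert ha, Finset.prod_insert ha]
    exact h.1.mul (ih h.2 hf.2 hg.2) hg.1 (prod_mem hf.2)

theorem Cong.memLocalIdeal (hM : IsPModular p M) {n : ℕ} (hn : n ≠ 0) {x y : ℂ}
    (h : Cong M (p ^ n) x y) : MemLocalIdeal M (x - y) := by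
  obtain ⟨o, ho, h⟩ := h
  rw [h]
  exact Blocks.memLocalIdeal_mul_right
    ((Blocks.memLocalIdeal_natCast_iff hM _).2 (dvd_pow_self p hn)) (mem_localRing.1 ho)

/-- Congruent elements have congruent high powers. -/
theorem exists_pow_cong (hM : IsPModular p M) {x y : ℂ} (hx : x ∈ localRing M)
    (hy : y ∈ localRing M) (h : MemLocalIdeal M (x - y)) (n : ℕ) :
    ∃ K, ∀ j, K ≤ j → Cong M (p ^ n) (x ^ p ^ j) (y ^ p ^ j) := by
  set X : localRing M := ⟨x, hx⟩
  set Y : localRing M := ⟨y, hy⟩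
  obtain ⟨N, hN⟩ := Star.exists_pow_mem_span hM (x := X - Y)
    ((Blocks.residue_eq_zero_iff).2 h) 1
  rw [pow_one, Ideal.mem_span_singleton] at hN
  obtain ⟨r, hr⟩ := exists_add_pow_prime_pow_eq (Fact.out : p.Prime) Y (X - Y) N
  rw [add_sub_cancel] at hr
  have h1 : (p : localRing M) ∣ X ^ p ^ N - Y ^ p ^ N := by
    rw [hr]
    obtain ⟨s, hs⟩ := hN.trans (pow_dvd_pow (X - Y) (Nat.lt_pow_self (Fact.out : p.Prime).one_lt).le)
    exact ⟨s + Y * (X - Y) * r, by rw [hs]; ring⟩
  refine ⟨N + n, fun j hj => ?_⟩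
  obtain ⟨s, hs⟩ := (pow_dvd_pow (p : localRing M) (show n ≤ j - N + 1 by omega)).trans
    (dvd_sub_pow_of_dvd_sub h1 (j - N))
  rw [← pow_mul, ← pow_mul, ← pow_add, show N + (j - N) = j by omega] at hs
  refine ⟨(s : ℂ), s.2, ?_⟩
  have := congrArg (fun z : localRing M => (z : ℂ)) hs
  push_cast at this ⊢
  exact this

variable {P : Type u} [Group P] [Finite P]

/-- The irreducible characters of a commutative group are linear. -/
theorem exists_eq_hom (hcomm : ∀ a b : P, a * b = b * a) (β : IrrCharacter P) :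
    ∃ l : P →* ℂˣ, (β : P → ℂ) = fun x => (l x : ℂ) := by
  haveI : Fintype P := Fintype.ofFinite P
  refine Chars.exists_hom_of_degree_one (Chars.irr_isCharacter β) ?_
  have hcard : Fintype.card (IrrCharacter P) = Nat.card P := by
    rw [← Nat.card_eq_fintype_card, Chars.card_irrCharacter]
    refine (Nat.card_congr (Equiv.ofBijective ConjClasses.mk
      ⟨fun a b h => ?_, ConjClasses.mk_surjective⟩)).symm
    obtain ⟨c, hc⟩ := isConj_iff.1 (ConjClasses.mk_eq_mk_iff_isConj.1 h)
    rw [← hc, hcomm c a, mul_inv_cancel_right]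
  choose d hd0 hd using fun γ : IrrCharacter P => Chars.isIrrCharacter_exists_degree_pos γ.2
  have hsq := Chars.sum_degree_sq (G := P)
  simp only [hd] at hsq
  have hsq' : ∑ γ : IrrCharacter P, d γ ^ 2 = ∑ _γ : IrrCharacter P, 1 := by
    rw [Finset.sum_const, Finset.card_univ, hcard, smul_eq_mul, mul_one]
    exact_mod_cast hsq
  have h := (Finset.sum_eq_sum_iff_of_le (fun γ _ => Nat.one_le_pow 2 _ (hd0 γ))).1 hsq'.symm β
    (Finset.mem_univ _)
  rw [hd]
  have : d β = 1 := by nlinarith [hd0 β]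
  rw [this, Nat.cast_one]

theorem isClassFunction_of_comm (hcomm : ∀ a b : P, a * b = b * a) (f : P → ℂ) :
    IsClassFunction P f := fun g h => by rw [hcomm h g, mul_inv_cancel_right]

theorem hom_mem_localRing (l : P →* ℂˣ) (v : P) : (l v : ℂ) ∈ localRing M :=
  Blocks.isIntegral_mem_localRing (IsIntegral.of_pow Nat.card_pos (n := Nat.card P) (by
    rw [← Units.val_pow_eq_pow_val, ← map_pow, pow_card_eq_one', map_one, Units.val_one]
    exact isIntegral_one))

theorem conj_hom (l : P →* ℂˣ) (v : P) : conj (l v : ℂ) = (l v⁻¹ : ℂ) := by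
  rw [map_inv, Units.val_inv_eq_inv_val, Complex.inv_def, Complex.normSq_eq_norm_sq,
    Chars.norm_hom_apply]
  simp

/-- Membership in the span, tested on linear characters. -/
theorem spn_of_hom [Fintype P] (hcomm : ∀ a b : P, a * b = b * a) {f : P → ℂ}
    (h : ∀ l : P →* ℂˣ, ∃ o ∈ localRing M, ∑ v : P, f v * (l v : ℂ) = (Nat.card P : ℂ) * o) :
    Spn (localRing M) f := by
  refine Star.spn_of_sum_apply (isClassFunction_of_comm hcomm f) fun ψ => ?_
  obtain ⟨l, hl⟩ := exists_eq_hom hcomm ψ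
  obtain ⟨o, ho, h⟩ := h l⁻¹
  refine ⟨o, ho, h ▸ Finset.sum_congr rfl fun v _ => ?_⟩
  rw [hl, conj_hom, MonoidHom.inv_apply, map_inv]

theorem spn_hom (l : P →* ℂˣ) : Spn (localRing M) fun v => (l v : ℂ) :=
  Star.spn_of_isCharacter (Chars.isCharacter_hom l)

theorem spn_apply_mem {f : P → ℂ} (hf : Spn (localRing M) f) (v : P) : f v ∈ localRing M := by
  cases nonempty_fintype P
  rw [Star.spn_iff] at hf
  rw [Chars.isClassFunction_apply_eq_sum_classInner hf.1 v]
  exact sum_mem fun ψ _ => mul_mem (hf.2 ψ)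
    (Blocks.isIntegral_mem_localRing (Chars.irr_isIntegral ψ v))

theorem spn_congr {N : ℕ} (hN : Nat.card P = N) (hcomm : ∀ a b : P, a * b = b * a) {f g : P → ℂ}
    (hg : Spn (localRing M) g) (h : ∀ v, Cong M N (f v) (g v)) : Spn (localRing M) f := by
  cases nonempty_fintype P
  choose o ho hfo using h
  refine spn_of_hom hcomm fun l => ?_
  obtain ⟨o₁, ho₁, hs⟩ := Star.spn_sum_apply (Star.spn_mul hg (spn_hom l))
  refine ⟨o₁ + ∑ v, o v * (l v : ℂ), add_mem ho₁ (sum_mem fun v _ => mul_mem (ho v)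
    (hom_mem_localRing l v)), ?_⟩
  rw [mul_add, ← hs, Finset.mul_sum, ← Finset.sum_add_distrib]
  refine Finset.sum_congr rfl fun v _ => ?_
  rw [hN, Pi.mul_apply]
  linear_combination (l v : ℂ) * hfo v

theorem spn_pow {f : P → ℂ} (hf : Spn (localRing M) f) (j : ℕ) :
    Spn (localRing M) fun v => f v ^ j := by
  induction j with
  | zero => simpa using Star.spn_const (K := P) (one_mem (localRing M))
  | succ j ih =>
    have : (fun v => f v ^ (j + 1)) = (fun v => f v ^ j) * f := funext fun v => pow_succ _ _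
    rw [this]
    exact Star.spn_mul ih hf

theorem spn_prod {ι : Type*} (s : Finset ι) {f : ι → P → ℂ}
    (h : ∀ i ∈ s, Spn (localRing M) (f i)) : Spn (localRing M) fun v => ∏ i ∈ s, f i v := by
  classical
  induction s using Finset.induction_on with
  | empty => simpa using Star.spn_const (K := P) (one_mem (localRing M))
  | insert a t ha ih =>
    simp only [Finset.mem_insert, forall_eq_or_imp] at h
    simp only [Finset.prod_insert ha]
    exact Star.spn_mul h.1 (ih h.2)

/-- Functions in the span are constant modulo the maximal ideal. -/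
theorem spn_sub_mem (hM : IsPModular p M) {n : ℕ} (hn : Nat.card P = p ^ n)
    (hcomm : ∀ a b : P, a * b = b * a) {f : P → ℂ} (hf : Spn (localRing M) f) (v : P) :
    MemLocalIdeal M (f v - f 1) := by
  cases nonempty_fintype P
  rw [Star.spn_iff] at hf
  rw [Chars.isClassFunction_apply_eq_sum_classInner hf.1 v,
    Chars.isClassFunction_apply_eq_sum_classInner hf.1 1, ← Finset.sum_sub_distrib]
  refine Blocks.memLocalIdeal_sum _ _ fun ψ _ => ?_
  obtain ⟨l, hl⟩ := exists_eq_hom hcomm ψ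
  rw [← mul_sub]
  refine Blocks.memLocalIdeal_mul_left (mem_localRing.1 (hf.2 ψ)) ?_
  simp only [hl, map_one, Units.val_one]
  refine Blocks.memLocalIdeal_sub_one_of_pow_eq_one hM (k := n) ?_
  rw [← Units.val_pow_eq_pow_val, ← map_pow, ← hn, pow_card_eq_one', map_one, Units.val_one]

/-- A function in the span with unit values has an inverse in the span modulo the order. -/
theorem exists_spn_inv (hM : IsPModular p M) {n : ℕ} (hn : Nat.card P = p ^ n)
    (hcomm : ∀ a b : P, a * b = b * a) {f : P → ℂ} (hf : Spn (localRing M) f)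
    (h1 : ¬ MemLocalIdeal M (f 1)) :
    ∃ g : P → ℂ, Spn (localRing M) g ∧ ∀ v, Cong M (p ^ n) (g v * f v) 1 := by
  have hR := spn_apply_mem hf
  choose K hK using fun v => exists_pow_cong hM (hR v) (hR 1) (spn_sub_mem hM hn hcomm hf v) n
  cases nonempty_fintype P
  set j := Finset.univ.sup K with hj
  set r := f 1 ^ p ^ j
  have hr : r⁻¹ ∈ localRing M := by
    rw [show r⁻¹ = (f 1)⁻¹ ^ p ^ j from (inv_pow _ _).symm]
    exact pow_mem (Blocks.inv_mem_localRing (mem_localRing.1 (hR 1)) h1) _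
  have hr0 : r ≠ 0 := pow_ne_zero _ fun h => h1 (h ▸ Blocks.memLocalIdeal_zero)
  refine ⟨fun v => r⁻¹ * f v ^ (p ^ j - 1), Star.spn_mul (Star.spn_const hr) (spn_pow hf _),
    fun v => ?_⟩
  have h := (hK v j (Finset.le_sup (Finset.mem_univ v))).mul_left (c := r⁻¹) hr
  rw [inv_mul_cancel₀ hr0] at h
  have e : r⁻¹ * f v ^ (p ^ j - 1) * f v = r⁻¹ * f v ^ p ^ j := by
    rw [mul_assoc, ← pow_succ, Nat.sub_add_cancel (Nat.one_le_pow _ _ (Fact.out : p.Prime).pos)]
  rw [e]
  exact h

omit [M.IsPrime] in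
/-- An exponent congruent to `t` on `p`-elements and to `1` on `p`-regular elements. -/
theorem exists_twist (G : Type*) [Group G] [Finite G] {t : ℕ} (ht : ¬ p ∣ t) :
    ∃ k : ℕ, k.Coprime (Nat.card G) ∧ (∀ v : G, (∃ j, orderOf v = p ^ j) → v ^ k = v ^ t) ∧
      ∀ y : G, ¬ p ∣ orderOf y → y ^ k = y := by
  obtain ⟨m', hm, hpm⟩ : ∃ m', Nat.card G = p ^ (Nat.card G).factorization p * m' ∧ ¬ p ∣ m' :=
    ⟨_, (Nat.ordProj_mul_ordCompl_eq_self _ p).symm,
      Nat.not_dvd_ordCompl (Fact.out : p.Prime) Nat.card_pos.ne'⟩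
  set a := (Nat.card G).factorization p
  have hcop : (p ^ a).Coprime m' :=
    Nat.Coprime.pow_left a ((Fact.out : p.Prime).coprime_iff_not_dvd.2 hpm)
  obtain ⟨k, hk1, hk2⟩ := Nat.chineseRemainder hcop t 1
  refine ⟨k, ?_, fun v hv => ?_, fun y hy => ?_⟩
  · rw [hm]
    refine Nat.Coprime.mul_right ?_ ?_
    · rcases Nat.eq_zero_or_pos a with ha | ha
      · rw [ha, pow_zero]; exact Nat.coprime_one_right _
      refine Nat.Coprime.pow_right a (Nat.Coprime.symm ?_)
      refine (Fact.out : p.Prime).coprime_iff_not_dvd.2 fun h => ht ?_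
      exact ((hk1.of_dvd (dvd_pow_self p ha.ne')).dvd_iff dvd_rfl).1 h
    · rw [Nat.Coprime, Nat.ModEq.gcd_eq hk2, Nat.gcd_one_left]
  · refine pow_eq_pow_iff_modEq.2 (hk1.of_dvd ?_)
    obtain ⟨j, hj⟩ := hv
    have h := orderOf_dvd_natCard v
    rw [hj, hm] at h
    rw [hj]
    exact (Nat.Coprime.pow_left j ((Fact.out : p.Prime).coprime_iff_not_dvd.2 hpm)).dvd_of_dvd_mul_right h
  · nth_rewrite 2 [← pow_one y]
    refine pow_eq_pow_iff_modEq.2 (hk2.of_dvd ?_)
    have h := orderOf_dvd_natCard y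
    rw [hm] at h
    exact (Nat.Coprime.pow_right a (((Fact.out : p.Prime).coprime_iff_not_dvd.2 hy).symm)
      ).dvd_of_dvd_mul_left h

end Cfsg.Agent.Lib.FreeInertia
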