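import Mathlib
import Cfsg.Agent.Lib.FreeInertia.Count
import Cfsg.Agent.Lib.FreeInertia.Congr
import Cfsg.Agent.Lib.PowMap.Basic

/-!
# The values of a subsection of rank one

For a `p`-element `v` of the maximal pair whose subsection is nilpotent, the column of the
subsection is one function `val` on the characters.
-/

set_option autoImplicit false
set_option linter.unusedSectionVars false

namespace Cfsg.Agent.Lib.FreeInertia

open Finset Cfsg Cfsg.Agent.Lib Cfsg.Agent.Lib.BrauerPairs Cfsg.Agent.Lib.AbelianStar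
open Cfsg.Agent.Lib.NilBlock (bu bu_fst centralizer_bu con)
open Cfsg.Agent.Lib.BrauerFeit (regCoef)
open Cfsg.Agent.Lib.Blocks (localRing mem_localRing)
open scoped ComplexConjugate

universe u

attribute [local instance] Classical.propDecidable

variable {G : Type u} [Group G] [Fintype G] {p : ℕ} {M : Ideal AlgInt} [Fact p.Prime] [M.IsPrime]
  {B : Set (IrrCharacter G)} {b : BrauerPairIdx G}

/-- The irreducible characters of a commutative group are as many as its elements. -/
theorem card_irr {P : Type u} [Group P] [Finite P] (hcomm : ∀ a b : P, a * b = b * a) :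
    Nat.card (IrrCharacter P) = Nat.card P := by
  rw [Chars.card_irrCharacter]
  refine (Nat.card_congr (Equiv.ofBijective ConjClasses.mk
    ⟨fun a b h => ?_, ConjClasses.mk_surjective⟩)).symm
  obtain ⟨c, hc⟩ := isConj_iff.1 (ConjClasses.mk_eq_mk_iff_isConj.1 h)
  rw [← hc, hcomm c a, mul_inv_cancel_right]

/-- The sum over the block of the pair `a` of the multiplicities times the scalars of `g`. -/
noncomputable def vAt (a : BrauerPairIdx G) (χ : IrrCharacter G) (g : G) : ℂ :=
  ∑ η ∈ a.2.toFinset,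
    classInner (fun c : Subgroup.centralizer (a.1 : Set G) => (χ : G → ℂ) c)
        (η : Subgroup.centralizer (a.1 : Set G) → ℂ) *
      (if h : g ∈ Subgroup.centralizer (a.1 : Set G) then
        (η : Subgroup.centralizer (a.1 : Set G) → ℂ) ⟨g, h⟩ /
          (η : Subgroup.centralizer (a.1 : Set G) → ℂ) 1 else 0)

/-- The column of the subsection of `v`. -/
noncomputable def val (p : ℕ) (M : Ideal AlgInt) (b : BrauerPairIdx G) (χ : IrrCharacter G)
    (v : G) : ℂ :=
  vAt (bu p M b v) χ v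

theorem self_mem_centralizer (v : G) :
    v ∈ Subgroup.centralizer ((bu p M b v).1 : Set G) := by
  rw [centralizer_bu]
  exact Subgroup.mem_centralizer_singleton_iff.2 rfl

theorem val_eq (χ : IrrCharacter G) (v : G) :
    val p M b χ v = ∑ η ∈ (bu p M b v).2.toFinset,
      Contrib.secMult (centralizer_bu (p := p) (M := M) (b := b) v) χ η := by
  refine Finset.sum_congr rfl fun η _ => ?_
  rw [dif_pos (self_mem_centralizer v)]
  rfl

variable (hM : IsPModular p M) (hmax : IsMaximalBrauerPair p M B b.1 b.2)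
  (hab : ∀ x ∈ b.1, ∀ y ∈ b.1, x * y = y * x)

include hM hmax hab in
/-- A nilpotent subsection has one regular part, shared by `|P|` characters. -/
theorem local_facts {v : G} (hv : v ∈ b.1) (hnil : IsNilpotentBlock p M (bu p M b v).2) :
    (∀ η ∈ (bu p M b v).2, ∀ ξ ∈ (bu p M b v).2, regCoef p η ξ = (Nat.card b.1 : ℂ)⁻¹) ∧
    (∀ η ∈ (bu p M b v).2, ∀ ξ ∈ (bu p M b v).2,
      pRegularPart p (η : Subgroup.centralizer ((bu p M b v).1 : Set G) → ℂ) =
        pRegularPart p (ξ : Subgroup.centralizer ((bu p M b v).1 : Set G) → ℂ)) ∧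
    (bu p M b v).2.toFinset.card = Nat.card b.1 := by
  have hmax' := isMaximal_locPair hM hmax hab hv
  have hrk : blockRank p (bu p M b v).2 = 1 := NilBlock.blockRank_eq_one hM hnil
  obtain ⟨χ₀, hχ₀, h0⟩ := Blocks.exists_height_zero (p := p) hnil.1
  obtain ⟨-, Φ, hΦ⟩ := NilBlock.exists_structure hM hmax' hnil
    (fun w hw _ => NilBlock.blockRank_bu hM hmax' hnil hw) hχ₀ h0
  have hcomm : ∀ x y : (locPair p M b hab hv).1, x * y = y * x := fun x y =>
    Subtype.ext (locPair_comm hab hv _ x.2 _ y.2)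
  have hreg : ∀ η ∈ (bu p M b v).2,
      pRegularPart p (η : Subgroup.centralizer ((bu p M b v).1 : Set G) → ℂ) =
        pRegularPart p (χ₀ : Subgroup.centralizer ((bu p M b v).1 : Set G) → ℂ) := by
    intro η hη
    funext x
    rw [(hΦ ⟨η, hη⟩).1 x]
    obtain ⟨l, hl⟩ := exists_eq_hom hcomm (Φ ⟨η, hη⟩)
    have h1 : (charDegree ((Φ ⟨η, hη⟩ : IrrCharacter _) : (locPair p M b hab hv).1 → ℂ) : ℂ) = 1 := by
      rw [(Blocks.HeightZero.charDegree_eq (Φ ⟨η, hη⟩)).1, hl]
      simp
    rw [h1, one_mul]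
  have hcard : (bu p M b v).2.toFinset.card = Nat.card b.1 := by
    rw [← Nat.card_eq_card_toFinset, Nat.card_congr Φ, card_irr hcomm]
    exact Nat.card_congr (Subgroup.subgroupOfEquivOfLe (le_cent hab hv)).toEquiv
  have hall : ∀ η ∈ (bu p M b v).2, ∀ ξ ∈ (bu p M b v).2, regCoef p η ξ = regCoef p χ₀ χ₀ := by
    intro η hη ξ hξ
    have h : ∀ η ∈ (bu p M b v).2, ∀ ξ, regCoef p η ξ = regCoef p χ₀ ξ := fun η hη ξ => by
      rw [regCoef, regCoef, hreg η hη]
    rw [h η hη ξ, BrauerFeit.regCoef_comm, h ξ hξ χ₀]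
  have hsum := BrauerFeit.blockRank_eq_sum_regCoef hM hnil.1
  rw [hrk, Finset.sum_congr rfl fun η hη =>
    hall η (Set.mem_toFinset.1 hη) η (Set.mem_toFinset.1 hη), Finset.sum_const, nsmul_eq_mul,
    hcard, Nat.cast_one] at hsum
  refine ⟨fun η hη ξ hξ => ?_, fun η hη ξ hξ => (hreg η hη).trans (hreg ξ hξ).symm, hcard⟩
  rw [hall η hη ξ hξ]
  exact eq_inv_of_mul_eq_one_right hsum.symm

include hM hmax hab in
theorem secCoef_eq_val {v : G} (hv : v ∈ b.1) (hnil : IsNilpotentBlock p M (bu p M b v).2)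
    (χ : IrrCharacter G) {ξ : IrrCharacter (Subgroup.centralizer ((bu p M b v).1 : Set G))}
    (hξ : ξ ∈ (bu p M b v).2) :
    Contrib.secCoef p v χ ξ = val p M b χ v / (Nat.card b.1 : ℂ) := by
  rw [Contrib.secCoef_eq_block hM (centralizer_bu v) hnil.1 χ hξ, val_eq, Finset.sum_div]
  refine Finset.sum_congr rfl fun η hη => ?_
  rw [(local_facts hM hmax hab hv hnil).1 η (Set.mem_toFinset.1 hη) ξ hξ, div_eq_mul_inv]

include hM hmax hab in
theorem con_eq_val {v : G} (hv : v ∈ b.1) (hnil : IsNilpotentBlock p M (bu p M b v).2)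
    (χ ψ : IrrCharacter G) :
    con p v (bu p M b v) χ ψ =
      val p M b χ v * conj (val p M b ψ v) / (Nat.card b.1 : ℂ) := by
  rw [con, Contrib.contrib, Finset.sum_congr rfl fun ξ hξ => by
    rw [secCoef_eq_val hM hmax hab hv hnil χ (Set.mem_toFinset.1 hξ),
      secCoef_eq_val hM hmax hab hv hnil ψ (Set.mem_toFinset.1 hξ)],
    Finset.sum_const, nsmul_eq_mul, (local_facts hM hmax hab hv hnil).2.2, map_div₀,
    Complex.conj_natCast]
  have : (Nat.card b.1 : ℂ) ≠ 0 := Chars.natCard_ne_zero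
  field_simp

include hM hmax hab in
theorem vAt_inv {v : G} (χ : IrrCharacter G) :
    vAt (bu p M b v) χ v⁻¹ = conj (val p M b χ v) := by
  rw [val, vAt, vAt, map_sum]
  refine Finset.sum_congr rfl fun η _ => ?_
  rw [dif_pos (self_mem_centralizer v), dif_pos (inv_mem (self_mem_centralizer v)), map_mul,
    map_div₀]
  obtain ⟨n, hn⟩ := Chars.isCharacter_classInner_nat
    (Chars.isCharacter_restrict _ (Chars.irr_isCharacter χ)) (Chars.irr_isCharacter η)
  rw [hn, Complex.conj_natCast, ← Chars.isCharacter_inv_apply (Chars.irr_isCharacter η),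
    ← (Blocks.HeightZero.charDegree_eq η).1, Complex.conj_natCast]
  rfl

include hM hmax hab in
/-- Twisting by an exponent that inverts `p`-elements conjugates the column. -/
theorem val_powIrr {v : G} (hv : v ∈ b.1) (hnil : IsNilpotentBlock p M (bu p M b v).2) {k : ℕ}
    (hk : k.Coprime (Nat.card G)) (hkp : v ^ k = v⁻¹)
    (hkr : ∀ y : G, ¬ p ∣ orderOf y → y ^ k = y) (χ : IrrCharacter G) :
    val p M b (PowMap.powIrr hk χ) v = conj (val p M b χ v) := by
  obtain ⟨ξ, hξ⟩ := Blocks.isPBlock_nonempty hnil.1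
  have hC : Subgroup.centralizer ((bu p M b v).1 : Set G) =
      Subgroup.centralizer ({v⁻¹} : Set G) := by
    rw [centralizer_bu]
    ext c
    simp only [Subgroup.mem_centralizer_singleton_iff]
    exact ⟨fun h => (show Commute c v from h).inv_right.eq,
      fun h => by simpa using ((show Commute c v⁻¹ from h).inv_right).eq⟩
  have h1 : Contrib.secCoef p v (PowMap.powIrr hk χ) ξ = Contrib.secCoef p v⁻¹ χ ξ := by
    simp only [Contrib.secCoef]
    congr 1
    funext c
    simp only [BrauerFeit.pRegularPart_apply]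
    split_ifs with h
    · rfl
    · have hc : Commute v (c : G) :=
        (Subgroup.mem_centralizer_singleton_iff.1 ((centralizer_bu (p := p) (M := M) (b := b) v).le c.2)).symm
      rw [PowMap.powIrr_apply, hc.mul_pow, hkp, hkr (c : G) (by rwa [Subgroup.orderOf_coe])]
  rw [secCoef_eq_val hM hmax hab hv hnil _ hξ, Contrib.secCoef_eq_block hM hC hnil.1 χ hξ,
    Finset.sum_congr rfl fun η hη => by
      rw [(local_facts hM hmax hab hv hnil).1 η (Set.mem_toFinset.1 hη) ξ hξ],
    ← Finset.sum_mul, div_eq_mul_inv] at h1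
  rw [mul_right_cancel₀ (inv_ne_zero (Chars.natCard_ne_zero (G := b.1))) h1,
    ← vAt_inv hM hmax hab χ, vAt]
  refine Finset.sum_congr rfl fun η _ => ?_
  rw [dif_pos (inv_mem (self_mem_centralizer v))]
  rfl

theorem isIntegral_val (χ : IrrCharacter G) {v : G} {j : ℕ} (hv : orderOf v = p ^ j) :
    IsIntegral ℤ (val p M b χ v) := by
  rw [val_eq]
  refine IsIntegral.sum _ fun η _ => ?_
  rw [Contrib.secMult]
  obtain ⟨n, hn⟩ := Chars.isCharacter_classInner_nat
    (Chars.isCharacter_restrict _ (Chars.irr_isCharacter χ)) (Chars.irr_isCharacter η)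
  rw [hn]
  exact ((by simpa using isIntegral_algebraMap (R := ℤ) (A := ℂ) (x := (n : ℤ))) :
      IsIntegral ℤ (n : ℂ)).mul
    (IsIntegral.of_pow (pow_pos (Fact.out : p.Prime).pos j) (by
      rw [Contrib.secScalar_pow_eq_one _ η (hv ▸ pow_orderOf_eq_one v)]; exact isIntegral_one))

include hM hmax in
/-- Modulo `M` the column depends only on the subsection's block. -/
theorem val_pow_sub_mem {v : G} (hv : v ∈ b.1) {t : ℕ} (ht : (orderOf v).Coprime t)
    (χ : IrrCharacter G) :
    MemLocalIdeal M (val p M b χ (v ^ t) - val p M b χ v) := by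
  obtain ⟨j, hj⟩ := NilBlock.exists_orderOf_eq hM hmax hv
  rw [val, val, NilBlock.bu_pow hM hmax.1.1 hv ht, vAt, vAt, ← Finset.sum_sub_distrib]
  refine Blocks.memLocalIdeal_sum _ _ fun η _ => ?_
  have hC := centralizer_bu (p := p) (M := M) (b := b) v
  rw [dif_pos (self_mem_centralizer v), dif_pos (pow_mem (self_mem_centralizer v) t), ← mul_sub]
  refine Blocks.memLocalIdeal_mul_left
    (Contrib.memLocalRing_classInner (Chars.isCharacter_restrict _ (Chars.irr_isCharacter χ)) η) ?_
  have e : (η : Subgroup.centralizer ((bu p M b v).1 : Set G) → ℂ)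
      ⟨v ^ t, pow_mem (self_mem_centralizer v) t⟩ /
      (η : Subgroup.centralizer ((bu p M b v).1 : Set G) → ℂ) 1 =
      Contrib.secScalar hC η ^ t := by
    rw [Contrib.secScalar_pow]
    rfl
  have e' : (η : Subgroup.centralizer ((bu p M b v).1 : Set G) → ℂ) ⟨v, self_mem_centralizer v⟩ /
      (η : Subgroup.centralizer ((bu p M b v).1 : Set G) → ℂ) 1 = Contrib.secScalar hC η := rfl
  rw [e, e', show Contrib.secScalar hC η ^ t - Contrib.secScalar hC η =
    (Contrib.secScalar hC η ^ t - 1) - (Contrib.secScalar hC η - 1) by ring]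
  have h1 := Contrib.secScalar_pow_eq_one hC η (hj ▸ pow_orderOf_eq_one v)
  refine Blocks.memLocalIdeal_sub (Blocks.memLocalIdeal_sub_one_of_pow_eq_one hM (k := j) ?_)
    (Blocks.memLocalIdeal_sub_one_of_pow_eq_one hM h1)
  rw [← pow_mul, mul_comm, pow_mul, h1, one_pow]

/-- Galois automorphisms act on the column through exponents. -/
theorem maps_vAt {σ : GaloisPos.QBar →ₐ[ℚ] ℂ} {k : ℕ}
    (hkK : ∀ (K : Subgroup G) (η : K → ℂ), IsCharacter K η → ∀ g : K,
      Star.Maps σ (η g) (η (g ^ k)))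
    (a : BrauerPairIdx G) (χ : IrrCharacter G) {g : G}
    (hg : g ∈ Subgroup.centralizer (a.1 : Set G)) :
    Star.Maps σ (vAt a χ g) (vAt a χ (g ^ k)) := by
  refine Star.maps_sum _ fun η _ => ?_
  rw [dif_pos hg, dif_pos (pow_mem hg k)]
  obtain ⟨n, hn⟩ := Chars.isCharacter_classInner_nat
    (Chars.isCharacter_restrict (Subgroup.centralizer (a.1 : Set G)) (Chars.irr_isCharacter χ))
    (Chars.irr_isCharacter η)
  rw [hn]
  refine Star.maps_mul (Star.maps_natCast n) ?_
  obtain ⟨h1, h2⟩ := hkK _ _ (Chars.irr_isCharacter η) ⟨g, hg⟩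
  have hd := (Blocks.HeightZero.charDegree_eq η).1
  have hd' : (η : Subgroup.centralizer (a.1 : Set G) → ℂ) 1 ∈ GaloisPos.QBar := hd ▸ natCast_mem _ _
  refine ⟨div_mem h1 hd', ?_⟩
  have hd2 : σ ⟨(η : Subgroup.centralizer (a.1 : Set G) → ℂ) 1, hd'⟩ = (η : Subgroup.centralizer (a.1 : Set G) → ℂ) 1 := by
    obtain ⟨h3, h4⟩ := Star.maps_natCast (ψ := σ) (charDegree (η : Subgroup.centralizer (a.1 : Set G) → ℂ))
    rw [show (⟨(η : Subgroup.centralizer (a.1 : Set G) → ℂ) 1, hd'⟩ : GaloisPos.QBar) =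
      ⟨(charDegree (η : Subgroup.centralizer (a.1 : Set G) → ℂ) : ℂ), h3⟩ from Subtype.ext hd.symm, h4, hd]
  rw [show (⟨_, div_mem h1 hd'⟩ : GaloisPos.QBar) =
    ⟨_, h1⟩ / ⟨(η : Subgroup.centralizer (a.1 : Set G) → ℂ) 1, hd'⟩ from Subtype.ext rfl, map_div₀, h2, hd2]
  rfl

include hM hmax in
theorem maps_val {σ : GaloisPos.QBar →ₐ[ℚ] ℂ} {k : ℕ} (hk : k.Coprime (Nat.card G))
    (hkK : ∀ (K : Subgroup G) (η : K → ℂ), IsCharacter K η → ∀ g : K,
      Star.Maps σ (η g) (η (g ^ k)))
    (χ : IrrCharacter G) {v : G} (hv : v ∈ b.1) :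
    Star.Maps σ (val p M b χ v) (val p M b χ (v ^ k)) := by
  rw [val, val, NilBlock.bu_pow hM hmax.1.1 hv
    (Nat.Coprime.coprime_dvd_right (orderOf_dvd_natCard v) hk).symm]
  exact maps_vAt hkK _ χ (self_mem_centralizer v)

end Cfsg.Agent.Lib.FreeInertia
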