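import Mathlib
import Cfsg.Agent.Lib.FreeInertia.Local

/-!
# The columns of a block with abelian defect group and free inertial action
-/

set_option autoImplicit false
set_option linter.unusedSectionVars false

namespace Cfsg.Agent.Lib.FreeInertia

open Finset Cfsg Cfsg.Agent.Lib Cfsg.Agent.Lib.BrauerPairs Cfsg.Agent.Lib.AbelianStar
open Cfsg.Agent.Lib.NilBlock (bu bu_fst centralizer_bu con)
open Cfsg.Agent.Lib.BrauerFeit (regCoef)
open Cfsg.Agent.Lib.Blocks (localRing mem_localRing)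
open Cfsg.Agent.Lib.Star (Spn)
open scoped ComplexConjugate

universe u

attribute [local instance] Classical.propDecidable

variable {G : Type u} [Group G] [Fintype G] {p : ℕ} {M : Ideal AlgInt} [Fact p.Prime] [M.IsPrime]
  {B : Set (IrrCharacter G)} {b : BrauerPairIdx G}

/-- The automorphisms of the pair induced by the inertial group. -/
abbrev iner (h : IsPBlock M b.2) : Subgroup (MulAut b.1) := autInducedBy (pairStab h) b.1

/-- The form scaled by the inertial index and the order of the pair. -/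
noncomputable def W (p : ℕ) (M : Ideal AlgInt) (b : BrauerPairIdx G) (e : ℕ)
    (χ ψ : IrrCharacter G) (w : b.1) : ℂ :=
  (e : ℂ) * (Nat.card b.1 : ℂ) * frm p M b w χ ψ

variable (hM : IsPModular p M) (hmax : IsMaximalBrauerPair p M B b.1 b.2)
  (hab : ∀ x ∈ b.1, ∀ y ∈ b.1, x * y = y * x) (hfree : IsFree b)

include hmax in
theorem exists_inStab_of_iner {α : MulAut b.1} (hα : α ∈ iner hmax.1.1.2) :
    ∃ y, InStab b y ∧ ∀ x : b.1, (α x : G) = y * (x : G) * y⁻¹ := by
  obtain ⟨y, hy, hyα⟩ := Fusion.mem_autInducedBy.1 hα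
  exact ⟨y, (inStab_iff hmax.1.1.2).2 hy, hyα⟩

include hmax hfree in
/-- The inertial automorphisms act freely. -/
theorem eq_one_of_fixed {α : MulAut b.1} (hα : α ∈ iner hmax.1.1.2) {x : b.1} (hx : x ≠ 1)
    (h : α x = x) : α = 1 := by
  obtain ⟨y, hy, hyα⟩ := exists_inStab_of_iner hmax hα
  have hc := hfree y hy x x.2 (fun h' => hx (Subtype.ext h')) (by rw [← hyα, h])
  refine MulEquiv.ext fun z => Subtype.ext ?_
  rw [hyα, MulAut.one_apply]
  rw [← Subgroup.mem_centralizer_iff.1 hc z z.2, mul_inv_cancel_right]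

include hmax in
theorem mem_orb_iff {w v : b.1} : v ∈ orb b w ↔ ∃ α ∈ iner hmax.1.1.2, α w = v := by
  rw [mem_orb]
  constructor
  · rintro ⟨y, hy, hyv⟩
    exact ⟨Fusion.conjAut b.1 y ((mem_pairStab_iff hmax.1.1.2).1 hy).1,
      Fusion.mem_autInducedBy.2 ⟨y, hy, fun z => rfl⟩, Subtype.ext hyv⟩
  · rintro ⟨α, hα, rfl⟩
    obtain ⟨y, hy, hyα⟩ := exists_inStab_of_iner hmax hα
    exact ⟨y, hy, (hyα w).symm⟩

include hmax in
theorem card_iner_pos : 0 < Nat.card (iner hmax.1.1.2) := by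
  haveI : Finite (MulAut b.1) := Finite.of_injective _ DFunLike.coe_injective
  exact Nat.card_pos

include hmax hfree in
theorem card_orb {w : b.1} (hw : w ≠ 1) : (orb b w).card = Nat.card (iner hmax.1.1.2) := by
  rw [← Nat.card_eq_finsetCard]
  refine (Nat.card_congr (Equiv.ofBijective (fun α : iner hmax.1.1.2 =>
    (⟨(α : MulAut b.1) w, (mem_orb_iff hmax).2 ⟨α, α.2, rfl⟩⟩ : orb b w))
    ⟨fun α β h => Subtype.ext ?_, fun v => ?_⟩)).symm
  · have h' : (α : MulAut b.1) w = (β : MulAut b.1) w := congrArg Subtype.val h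
    refine (inv_mul_eq_one.1 (eq_one_of_fixed hmax hfree (mul_mem (inv_mem α.2) β.2) hw ?_))
    rw [MulAut.mul_apply, ← h', MulAut.inv_apply_self]
  · obtain ⟨α, hα, h⟩ := (mem_orb_iff hmax).1 v.2
    exact ⟨⟨α, hα⟩, Subtype.ext h⟩

include hM hmax hab hfree in
/-- The nontrivial subsections are nilpotent. -/
theorem isNilpotent_bu {w : G} (hw : w ∈ b.1) (hw1 : w ≠ 1) :
    IsNilpotentBlock p M (bu p M b w).2 := by
  have hQ : (bu p M b w).1 ≤ b.1 := by rw [bu_fst]; exact Subgroup.zpowers_le.2 hw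
  refine (LocalInertial.isNilpotentBlock_iff hM hab hQ hmax
    (isInducedBlockIn_bu hM hmax hab hw)).2 fun g hgC hgN hst => ?_
  refine hfree g ((inStab_iff hmax.1.1.2).2
    ((mem_pairStab_iff_stabilizesBlock hmax.1.1.2).2 ⟨hgN, hst⟩)) w hw hw1 ?_
  rw [centralizer_bu, Subgroup.mem_centralizer_singleton_iff] at hgC
  rw [hgC, mul_inv_cancel_right]

include hM hmax hab in
theorem secCoef_eq_val' {v : G} (hv : v ∈ b.1) (hnil : IsNilpotentBlock p M (bu p M b v).2)
    (χ : IrrCharacter G) (a : BrauerPairIdx G) (ha : a = bu p M b v)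
    {ξ : IrrCharacter (Subgroup.centralizer (a.1 : Set G))} (hξ : ξ ∈ a.2) :
    Contrib.secCoef p v χ ξ = val p M b χ v / (Nat.card b.1 : ℂ) := by
  subst ha
  exact secCoef_eq_val hM hmax hab hv hnil χ hξ

include hM hmax hab hfree in
/-- The columns are invariant. -/
theorem val_iner {α : MulAut b.1} (hα : α ∈ iner hmax.1.1.2) {w : b.1} (hw : w ≠ 1)
    (χ : IrrCharacter G) : val p M b χ (α w : G) = val p M b χ (w : G) := by
  obtain ⟨y, hy, hyα⟩ := exists_inStab_of_iner hmax hα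
  have hw1 : (w : G) ≠ 1 := fun h => hw (Subtype.ext h)
  have hnil := isNilpotent_bu hM hmax hab hfree w.2 hw1
  have hyw : y * (w : G) * y⁻¹ ∈ b.1 := hy.conj_mem w.2
  have hnil' := isNilpotent_bu hM hmax hab hfree hyw (fun h => hw1 (conj_eq_one_iff.1 h))
  obtain ⟨ξ, hξ⟩ := Blocks.isPBlock_nonempty hnil.1
  have h1 := secCoef_eq_val hM hmax hab w.2 hnil χ hξ
  have h2 := secCoef_eq_val' hM hmax hab hyw hnil' χ (conjPair y (bu p M b w))
    (conjPair_bu_stab hM hmax hy w.2)
    (ξ := Chars.irrCongr (centEquiv (bu p M b w).1 y).symm ξ) (by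
      show _ ∈ conjBlock _ y _
      rw [conjBlock_eq_image]
      exact ⟨ξ, hξ, rfl⟩)
  rw [hyα, ← div_left_inj' (Chars.natCard_ne_zero (G := b.1)), ← h2, ← h1]
  exact NilBlock.secCoef_conj χ _ _ ξ

variable {e : ℕ} (he : Nat.card (iner hmax.1.1.2) = e)

include hM hmax hab hfree he in
theorem W_eq_val {w : b.1} (hw : w ≠ 1) (χ ψ : IrrCharacter G) :
    W p M b e χ ψ w = val p M b χ w * conj (val p M b ψ w) := by
  have hnil := isNilpotent_bu hM hmax hab hfree w.2 (fun h => hw (Subtype.ext h))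
  rw [W, frm, card_orb hmax hfree hw, he, con_eq_val hM hmax hab w.2 hnil]
  have : (Nat.card b.1 : ℂ) ≠ 0 := Chars.natCard_ne_zero
  have : (e : ℂ) ≠ 0 := Nat.cast_ne_zero.2 (he ▸ (card_iner_pos hmax).ne')
  field_simp

include hM hmax hab in
theorem W_one {χ : IrrCharacter G} (hχ : χ ∈ B) (ψ : IrrCharacter G) :
    W p M b e χ ψ 1 = (e : ℂ) * ((Nat.card b.1 : ℂ) * regCoef p χ ψ) := by
  rw [W, frm, card_orb_one hmax, Nat.cast_one, inv_one, one_mul, mul_assoc,
    ← NilBlock.wt_one hM hmax hχ ψ, NilBlock.wt]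
  congr 2
  have : b.1 ⊓ Subgroup.centralizer ({((1 : b.1) : G)} : Set G) = b.1 :=
    inf_eq_left.2 fun g _ => Subgroup.mem_centralizer_singleton_iff.2 (by simp)
  norm_cast
  rw [show Nat.card (b.1 ⊓ Subgroup.centralizer ({(1 : G)} : Set G) : Subgroup G) = Nat.card b.1
    from congrArg (fun H : Subgroup G => Nat.card H) this]

include hM hmax hab hfree he in
theorem W_mem {χ : IrrCharacter G} (hχ : χ ∈ B) (ψ : IrrCharacter G) (w : b.1) :
    W p M b e χ ψ w ∈ localRing M := by
  by_cases hw : w = 1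
  · subst hw
    obtain ⟨n, hn⟩ := NilBlock.exists_int_wt_one hM hmax hχ ψ
    rw [W_one hM hmax hab hχ, ← NilBlock.wt_one hM hmax hχ ψ, hn]
    exact mul_mem (natCast_mem _ _) (intCast_mem _ _)
  · obtain ⟨j, hj⟩ := NilBlock.exists_orderOf_eq hM hmax w.2
    rw [W_eq_val hM hmax hab hfree he hw]
    exact Blocks.isIntegral_mem_localRing
      ((isIntegral_val χ hj).mul (Chars.isIntegral_conj (isIntegral_val ψ hj)))

include hM hmax hab hfree he in
/-- The scaled forms lie in the span. -/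
theorem spn_W {χ : IrrCharacter G} (hχ : χ ∈ B) (ψ : IrrCharacter G) :
    Spn (localRing M) (W p M b e χ ψ) := by
  haveI : Finite (MulAut b.1) := Finite.of_injective _ DFunLike.coe_injective
  haveI := Fintype.ofFinite (iner hmax.1.1.2)
  refine spn_of_hom (fun x y => Subtype.ext (hab _ x.2 _ y.2)) fun l => ?_
  set θ : b.1 → ℂ := fun w => ∑ α : iner hmax.1.1.2, (l ((α : MulAut b.1) w) : ℂ)
  have hθi : IsInv b θ := by
    intro y hy w v hwv
    obtain ⟨β, hβ, hβw⟩ := (mem_orb_iff hmax).1 (mem_orb.2 ⟨y, hy, hwv⟩)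
    simp only [θ, ← hβw]
    exact Fintype.sum_equiv (Equiv.mulRight (⟨β, hβ⟩ : iner hmax.1.1.2)) _ _ fun α => rfl
  have hθc : IsCharacter b.1 θ := by
    have heq : θ = ∑ α : iner hmax.1.1.2,
        fun w => ((l.comp (α : MulAut b.1).toMonoidHom) w : ℂ) := by
      funext w
      simp [θ]
    rw [heq]
    exact Chars.isCharacter_sum _ fun α _ => Chars.isCharacter_hom _
  obtain ⟨z, hz⟩ := Chars.isGeneralizedCharacter_classInner_int
    (isGeneralizedCharacter_star hM hmax hab hθc hθi (Chars.irr_isCharacter χ))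
    (Chars.isGeneralizedCharacter_of_isCharacter (Chars.irr_isCharacter ψ))
  rw [classInner_star hM hmax hab hθi hχ ψ] at hz
  refine ⟨z, intCast_mem _ _, ?_⟩
  have hne : (e : ℂ) ≠ 0 := Nat.cast_ne_zero.2 (he ▸ (card_iner_pos hmax).ne')
  refine mul_left_cancel₀ hne ?_
  calc (e : ℂ) * ∑ v : b.1, W p M b e χ ψ v * (l v : ℂ)
      = ∑ α : iner hmax.1.1.2, ∑ v : b.1, W p M b e χ ψ v * (l ((α : MulAut b.1) v) : ℂ) := by
        rw [Finset.sum_congr rfl (g := fun _ : iner hmax.1.1.2 =>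
          ∑ v : b.1, W p M b e χ ψ v * (l v : ℂ)) fun α _ => ?_, Finset.sum_const, Finset.card_univ,
          nsmul_eq_mul, Fintype.card_eq_nat_card, he]
        refine Fintype.sum_equiv (α : MulAut b.1).toEquiv _ _ fun v => ?_
        simp only [MulEquiv.toEquiv_eq_coe, EquivLike.coe_coe]
        rw [W, W, frm_of_mem_orb hM hmax ((mem_orb_iff hmax).2 ⟨α, α.2, rfl⟩)]
    _ = (e : ℂ) * ((Nat.card b.1 : ℂ) * z) := by
        rw [← hz, Finset.sum_comm, Finset.mul_sum, Finset.mul_sum]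
        refine Finset.sum_congr rfl fun v _ => ?_
        rw [← Finset.mul_sum, W]
        ring

include hM hmax hab he in
/-- At the identity a height zero character has a unit. -/
theorem W_one_not_mem {ψ : IrrCharacter G} (hψ : ψ ∈ B)
    (h0 : blockHeight p B (ψ : G → ℂ) = 0) : ¬ MemLocalIdeal M (W p M b e ψ ψ 1) := by
  rw [W_one hM hmax hab hψ, BrauerFeit.regCoef_eq_regPairing, ← mul_assoc (Nat.card b.1 : ℂ),
    mul_div_assoc', ← Nat.cast_mul]
  have hfact := Blocks.factorization_degree_add_blockDefect hM hmax.1.2.1 hψ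
  rw [h0, add_zero] at hfact
  have hd := (Blocks.HeightZero.charDegree_eq ψ).2
  have hnum : (Nat.card b.1 * charDegree (ψ : G → ℂ)).factorization p =
      (Nat.card G).factorization p := by
    rw [Nat.factorization_mul Nat.card_pos.ne' hd, Finsupp.add_apply, NilBlock.card_eq hM hmax,
      (Fact.out : p.Prime).factorization_pow, Finsupp.single_eq_same, hfact]
    omega
  have hR := Blocks.natCast_div_mem_localRing hM (a := Nat.card b.1 * charDegree (ψ : G → ℂ))
    Nat.card_pos.ne' (Or.inl (le_of_eq hnum.symm))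
  have hU : ¬ MemLocalIdeal M (((Nat.card b.1 * charDegree (ψ : G → ℂ) : ℕ) : ℂ) / (Nat.card G : ℂ)) := by
    intro hbad
    refine Blocks.not_memLocalIdeal_one (M := M) ?_
    have h := Blocks.memLocalIdeal_mul_right hbad (mem_localRing.1 (Blocks.natCast_div_mem_localRing hM
      (a := Nat.card G) (mul_ne_zero Nat.card_pos.ne' hd) (Or.inl hnum.le)))
    rwa [div_mul_div_cancel₀ (Nat.cast_ne_zero.2 Nat.card_pos.ne'),
      div_self (Nat.cast_ne_zero.2 (mul_ne_zero Nat.card_pos.ne' hd))] at h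
  refine Blocks.not_memLocalIdeal_mul (mem_localRing.1 (natCast_mem _ _))
    (mem_localRing.1 (mul_mem hR (mem_localRing.2 (Blocks.HeightZero.memLocalRing_regPairing
      (fun χ g => mem_localRing.1 (Blocks.centralChar_mem_localRing χ g)) p ψ
      (Chars.irr_isCharacter ψ))))) ?_ ?_
  · rw [Blocks.memLocalIdeal_natCast_iff hM, ← he]
    exact not_dvd_card_aut hM hmax hab
  · refine Blocks.not_memLocalIdeal_mul (mem_localRing.1 hR)
      (Blocks.HeightZero.memLocalRing_regPairing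
        (fun χ g => mem_localRing.1 (Blocks.centralChar_mem_localRing χ g)) p ψ
        (Chars.irr_isCharacter ψ)) hU ?_
    exact Blocks.HeightZero.not_memLocalIdeal_regPairing hM (BrauerFeit.regOrth hM)
      (by rwa [← Blocks.eq_blockOf_of_mem hmax.1.2.1 hψ]) (Blocks.sameBlock_refl _)

include hM hmax hab hfree he in
/-- A height zero character has unit values on every column. -/
theorem val_not_mem {ψ : IrrCharacter G} (hψ : ψ ∈ B) (h0 : blockHeight p B (ψ : G → ℂ) = 0)
    {w : b.1} (hw : w ≠ 1) : ¬ MemLocalIdeal M (val p M b ψ w) := by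
  obtain ⟨j, hj⟩ := NilBlock.exists_orderOf_eq hM hmax w.2
  intro hbad
  have h1 := spn_sub_mem hM (NilBlock.card_eq hM hmax) (fun x y => Subtype.ext (hab _ x.2 _ y.2))
    (spn_W hM hmax hab hfree he hψ ψ) w
  rw [W_eq_val hM hmax hab hfree he hw] at h1
  refine W_one_not_mem hM hmax hab he hψ h0 ?_
  have h2 := Blocks.memLocalIdeal_sub (Blocks.memLocalIdeal_mul_right hbad
    (mem_localRing.1 (Blocks.isIntegral_mem_localRing
      (M := M) (Chars.isIntegral_conj (isIntegral_val (p := p) (M := M) (b := b) ψ hj))))) h1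
  rwa [sub_sub_cancel] at h2

include hM hmax hab hfree he in
/-- Orthogonality of the columns. -/
theorem sum_val_mul_conj {w v : b.1} (hw : w ≠ 1) (hv : v ≠ 1) :
    ∑ φ ∈ B.toFinset, val p M b φ v * conj (val p M b φ w) =
      if v ∈ orb b w then (Nat.card b.1 : ℂ) else 0 := by
  obtain ⟨χ, hχ⟩ := Blocks.isPBlock_nonempty hmax.1.2.1
  have hwne : ∀ {x : b.1}, x ≠ 1 → val p M b χ x ≠ 0 := fun {x} hx h => by
    obtain ⟨r, hr, hr'⟩ := exists_pos_frm_self hM hmax hab x hχ
    have h' := W_eq_val hM hmax hab hfree he hx χ χ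
    rw [W, hr', h, zero_mul, mul_eq_zero, mul_eq_zero] at h'
    rcases h' with (h' | h') | h'
    · exact (card_iner_pos hmax).ne' (by rw [he]; exact_mod_cast h')
    · exact Chars.natCard_ne_zero h'
    · exact hr.ne' (by exact_mod_cast h')
  have key : ∀ x : b.1, x ≠ 1 → ∀ α β, (e : ℂ) * (Nat.card b.1 : ℂ) * frm p M b x α β =
      val p M b α x * conj (val p M b β x) := fun x hx α β =>
    W_eq_val hM hmax hab hfree he hx α β
  have hprod : ((e : ℂ) * (Nat.card b.1 : ℂ)) ^ 2 *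
      ∑ φ ∈ B.toFinset, frm p M b w χ φ * frm p M b v φ χ =
      val p M b χ w * conj (val p M b χ v) *
        ∑ φ ∈ B.toFinset, val p M b φ v * conj (val p M b φ w) := by
    rw [Finset.mul_sum, Finset.mul_sum]
    refine Finset.sum_congr rfl fun φ _ => ?_
    have h1 := key w hw χ φ
    have h2 := key v hv φ χ
    calc ((e : ℂ) * (Nat.card b.1 : ℂ)) ^ 2 * (frm p M b w χ φ * frm p M b v φ χ)
        = ((e : ℂ) * (Nat.card b.1 : ℂ) * frm p M b w χ φ) *
            ((e : ℂ) * (Nat.card b.1 : ℂ) * frm p M b v φ χ) := by ring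
      _ = _ := by rw [h1, h2]; ring
  have hne : val p M b χ w * conj (val p M b χ v) ≠ 0 :=
    mul_ne_zero (hwne hw) fun h => hwne hv (star_eq_zero.1 h)
  refine mul_left_cancel₀ hne (hprod.symm.trans ?_)
  split_ifs with h
  · obtain ⟨α, hα, rfl⟩ := (mem_orb_iff hmax).1 h
    rw [val_iner hM hmax hab hfree hα hw, ← key w hw χ χ,
      Finset.sum_congr rfl fun φ _ => by rw [frm_of_mem_orb hM hmax h],
      sum_frm_mul hM hmax hab, card_orb hmax hfree hw, he]
    have : (e : ℂ) ≠ 0 := Nat.cast_ne_zero.2 (he ▸ (card_iner_pos hmax).ne')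
    field_simp
  · rw [sum_frm_mul_eq_zero hM hmax hab h, mul_zero, mul_zero]

include hM hmax hab in
/-- The exponent `-1` on the pair and `1` on `p`-regular elements. -/
theorem exists_conj_twist : ∃ k : ℕ, ∃ hk : k.Coprime (Nat.card G),
    ∀ (χ : IrrCharacter G) {v : G}, v ∈ b.1 → IsNilpotentBlock p M (bu p M b v).2 →
      val p M b (PowMap.powIrr hk χ) v = conj (val p M b χ v) := by
  set a := (Nat.card G).factorization p + 1
  have hpa : 1 < p ^ a := Nat.one_lt_pow (Nat.succ_ne_zero _) (Fact.out : p.Prime).one_lt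
  obtain ⟨k, hk, hk1, hk2⟩ := exists_twist (p := p) G (t := p ^ a - 1) fun h => by
    have h1 : p ∣ 1 := by
      have := Nat.dvd_sub (dvd_pow_self p (Nat.succ_ne_zero ((Nat.card G).factorization p))) h
      rwa [Nat.sub_sub_self hpa.le] at this
    exact (Fact.out : p.Prime).ne_one (Nat.dvd_one.1 h1)
  refine ⟨k, hk, fun χ v hv hnil => val_powIrr hM hmax hab hv hnil hk ?_ hk2 χ⟩
  obtain ⟨j, hj⟩ := NilBlock.exists_orderOf_eq hM hmax hv
  rw [hk1 v ⟨j, hj⟩, eq_inv_iff_mul_eq_one, ← pow_succ, Nat.sub_add_cancel hpa.le]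
  refine orderOf_dvd_iff_pow_eq_one.1 ((Blocks.orderOf_pElement_dvd ⟨j, hj⟩).trans ?_)
  exact pow_dvd_pow p (Nat.le_succ _)

end Cfsg.Agent.Lib.FreeInertia
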