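import Mathlib
import Cfsg.Agent.Lib.FreeInertia.Columns

/-!
# Signs making the columns a function in the span: odd primes
-/

set_option autoImplicit false
set_option linter.unusedSectionVars false

namespace Cfsg.Agent.Lib.FreeInertia

open Finset Cfsg Cfsg.Agent.Lib Cfsg.Agent.Lib.BrauerPairs Cfsg.Agent.Lib.AbelianStar
open Cfsg.Agent.Lib.NilBlock (bu bu_fst centralizer_bu con)
open Cfsg.Agent.Lib.Blocks (localRing mem_localRing)
open Cfsg.Agent.Lib.Star (Spn)
open scoped ComplexConjugate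

universe u

attribute [local instance] Classical.propDecidable

variable {G : Type u} [Group G] [Fintype G] {p : ℕ} {M : Ideal AlgInt} [Fact p.Prime] [M.IsPrime]
  {B : Set (IrrCharacter G)} {b : BrauerPairIdx G}

/-- Invariant signs turning every column into a function in the span. -/
def HasSigns (p : ℕ) [Fact p.Prime] (M : Ideal AlgInt) [M.IsPrime] (B : Set (IrrCharacter G))
    (b : BrauerPairIdx G) (h : IsPBlock M b.2) : Prop :=
  ∃ ε : b.1 → ℤ, (∀ w, ε w = 1 ∨ ε w = -1) ∧ (∀ α ∈ iner h, ∀ w, ε (α w) = ε w) ∧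
    (∀ (k : ℕ), k.Coprime (Nat.card G) → ∀ w, ε (w ^ k) = ε w) ∧
    ∀ χ ∈ B, ∃ F : b.1 → ℂ, Spn (localRing M) F ∧
      ∀ w : b.1, w ≠ 1 → Cong M (Nat.card b.1) ((ε w : ℂ) * val p M b χ w) (F w)

variable (hM : IsPModular p M) (hmax : IsMaximalBrauerPair p M B b.1 b.2)
  (hab : ∀ x ∈ b.1, ∀ y ∈ b.1, x * y = y * x) (hfree : IsFree b)

include hM hmax hab hfree in
theorem hasSigns_odd (hp : p ≠ 2) (hP1 : ∃ w : b.1, w ≠ 1) :
    HasSigns p M B b hmax.1.1.2 := by
  obtain ⟨w₀, hw₀⟩ := hP1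
  obtain ⟨ψ, hψ, h0⟩ := Blocks.exists_height_zero (p := p) hmax.1.2.1
  obtain ⟨k, hk, hkv⟩ := exists_conj_twist hM hmax hab
  set ψ' := PowMap.powIrr hk ψ
  set e := Nat.card (iner hmax.1.1.2) with he
  have hW : ∀ (χ : IrrCharacter G) (w : b.1), w ≠ 1 →
      W p M b e χ ψ' w = val p M b χ w * val p M b ψ w := fun χ w hw => by
    rw [W_eq_val hM hmax hab hfree he.symm hw, hkv ψ w.2
      (isNilpotent_bu hM hmax hab hfree w.2 fun h => hw (Subtype.ext h)), Complex.conj_conj]
  have hR : ∀ (χ : IrrCharacter G) (w : b.1), val p M b χ w ∈ localRing M := fun χ w => by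
    obtain ⟨j, hj⟩ := NilBlock.exists_orderOf_eq hM hmax w.2
    exact Blocks.isIntegral_mem_localRing (isIntegral_val χ hj)
  set r := val p M b ψ w₀
  have hrU := val_not_mem hM hmax hab hfree he.symm hψ h0 hw₀
  have hcomm : ∀ x y : b.1, x * y = y * x := fun x y => Subtype.ext (hab _ x.2 _ y.2)
  have hn := NilBlock.card_eq hM hmax
  have hV := spn_W hM hmax hab hfree he.symm hψ ψ'
  have hpm : ∀ w : b.1, w ≠ 1 →
      MemLocalIdeal M (val p M b ψ w - r) ∨ MemLocalIdeal M (val p M b ψ w + r) := by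
    intro w hw
    by_contra hc
    push Not at hc
    have h1 := Blocks.memLocalIdeal_sub (spn_sub_mem hM hn hcomm hV w) (spn_sub_mem hM hn hcomm hV w₀)
    rw [sub_sub_sub_cancel_right, hW ψ w hw, hW ψ w₀ hw₀] at h1
    refine Blocks.not_memLocalIdeal_mul (mem_localRing.1 (sub_mem (hR ψ w) (hR ψ w₀)))
      (mem_localRing.1 (add_mem (hR ψ w) (hR ψ w₀))) hc.1 hc.2 ?_
    convert h1 using 1
    ring
  set ε : b.1 → ℤ := fun w =>
    if w = 1 ∨ MemLocalIdeal M (val p M b ψ w - r) then 1 else -1 with hε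
  have hεv : ∀ w, ε w = 1 ∨ ε w = -1 := fun w => by simp only [hε]; split_ifs <;> simp
  refine ⟨ε, hεv, fun α hα w => ?_, fun t ht w => ?_, fun χ hχ => ?_⟩
  · simp only [hε]
    by_cases hw : w = 1
    · subst hw; simp
    · have hαw : α w ≠ 1 := fun h => hw (α.injective (h.trans (map_one α).symm))
      simp only [hw, hαw, false_or, val_iner hM hmax hab hfree hα hw]
  · simp only [hε]
    have hco : (Nat.card b.1).Coprime t :=
      (Nat.Coprime.coprime_dvd_right (Subgroup.card_subgroup_dvd_card b.1) ht).symm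
    have hiff : w ^ t = 1 ↔ w = 1 := by
      refine ⟨fun h => (powCoprime hco).injective ?_, fun h => by rw [h, one_pow]⟩
      simpa using h
    have h1 := val_pow_sub_mem hM hmax w.2 (t := t) (by
      rw [Subgroup.orderOf_coe]
      exact Nat.Coprime.coprime_dvd_left (orderOf_dvd_natCard w) hco) ψ
    simp only [hiff, SubmonoidClass.coe_pow]
    congr 1
    refine propext (or_congr Iff.rfl ⟨fun h => ?_, fun h => ?_⟩)
    · have := Blocks.memLocalIdeal_sub h h1
      rwa [sub_sub_sub_cancel_left] at this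
    · have := Blocks.memLocalIdeal_add h1 h
      rwa [sub_add_sub_cancel] at this
  · -- the inverse of the signed column of `ψ`
    have hxr : ∀ w : b.1, w ≠ 1 → MemLocalIdeal M ((ε w : ℂ) * val p M b ψ w - r) := by
      intro w hw
      simp only [hε]
      split_ifs with h
      · simpa using h.resolve_left hw
      · have h2 := Blocks.memLocalIdeal_neg ((hpm w hw).resolve_left fun h' => h (Or.inr h'))
        push_cast
        convert h2 using 1
        ring
    choose K hK using fun w : b.1 => if hw : w = 1 then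
        (⟨0, fun j _ hne => absurd hw hne⟩ : ∃ K, ∀ j, K ≤ j → w ≠ 1 →
          Cong M (p ^ blockDefect p B) (((ε w : ℂ) * val p M b ψ w) ^ p ^ j) (r ^ p ^ j))
      else (exists_pow_cong hM (mul_mem (intCast_mem _ _) (hR ψ w)) (hR ψ w₀) (hxr w hw)
        (blockDefect p B)).imp fun K h j hj _ => h j hj
    set j := Finset.univ.sup K
    obtain ⟨c, hc⟩ : ∃ c, p ^ j = 2 * c + 1 := ((Fact.out : p.Prime).odd_of_ne_two hp).pow
    set q := r ^ p ^ j
    have hq0 : q ≠ 0 := pow_ne_zero _ fun h => hrU (by rw [show val p M b ψ (w₀ : G) = 0 from h]; exact Blocks.memLocalIdeal_zero)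
    have hqi : q⁻¹ ∈ localRing M := by
      rw [show q⁻¹ = r⁻¹ ^ p ^ j from (inv_pow _ _).symm]
      exact pow_mem (Blocks.inv_mem_localRing (mem_localRing.1 (hR ψ w₀)) hrU) _
    refine ⟨fun w => W p M b e χ ψ' w * (q⁻¹ * W p M b e ψ ψ' w ^ c),
      Star.spn_mul (spn_W hM hmax hab hfree he.symm hχ ψ')
        (Star.spn_mul (Star.spn_const hqi) (spn_pow hV c)), fun w hw => ?_⟩
    have h1 := ((hK w j (Finset.le_sup (Finset.mem_univ w)) hw).mul_left hqi).mul_left
      (c := (ε w : ℂ) * val p M b χ w) (mul_mem (intCast_mem _ _) (hR χ w))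
    rw [inv_mul_cancel₀ hq0, mul_one] at h1
    rw [hn]
    refine h1.symm.trans ?_
    have hsq : (ε w : ℂ) * (ε w : ℂ) = 1 := by rcases hεv w with h | h <;> simp [h]
    have hpow : ((ε w : ℂ) * val p M b ψ w) ^ (2 * c) = (val p M b ψ w * val p M b ψ w) ^ c := by
      rw [pow_mul, mul_pow, sq, sq, hsq, one_mul]
    simp only [hW χ w hw, hW ψ w hw, hc, pow_succ]
    rw [hpow]
    refine (congrArg (fun z => Cong M (p ^ blockDefect p B) z _) ?_).mpr (Cong.refl _ _)
    linear_combination (val p M b χ w * q⁻¹ * (val p M b ψ w * val p M b ψ w) ^ c *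
      val p M b ψ w) * hsq

end Cfsg.Agent.Lib.FreeInertia
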