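import Mathlib
import Cfsg.Agent.Lib.FreeInertia.SignsOdd
import Cfsg.Agent.Lib.KleinBlock.Basic

/-!
# The integral coefficients of the signed columns at the linear characters of the pair
-/

set_option autoImplicit false
set_option linter.unusedSectionVars false

namespace Cfsg.Agent.Lib.FreeInertia

open Finset Cfsg Cfsg.Agent.Lib Cfsg.Agent.Lib.BrauerPairs Cfsg.Agent.Lib.AbelianStar
open Cfsg.Agent.Lib.NilBlock (bu bu_fst centralizer_bu con)
open Cfsg.Agent.Lib.Blocks (localRing mem_localRing)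
open Cfsg.Agent.Lib.Star (Spn)
open scoped ComplexConjugate

universe u

attribute [local instance] Classical.propDecidable

variable {G : Type u} [Group G] [Fintype G] {p : ℕ} {M : Ideal AlgInt} [Fact p.Prime] [M.IsPrime]
  {B : Set (IrrCharacter G)} {b : BrauerPairIdx G}

theorem sum_hom_apply {P : Type u} [Group P] [Fintype P] (l : P →* ℂˣ) :
    ∑ v : P, (l v : ℂ) = if l = 1 then (Nat.card P : ℂ) else 0 := by
  split_ifs with h
  · subst h; simp [Nat.card_eq_fintype_card]
  · obtain ⟨x, hx⟩ : ∃ x, l x ≠ 1 := not_forall.1 fun h' => h (MonoidHom.ext h')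
    refine eq_zero_of_mul_eq_self_left (b := (l x : ℂ)) (fun h' => hx (Units.ext h')) ?_
    rw [Finset.mul_sum]
    exact Fintype.sum_bijective (x * ·) (Group.mulLeft_bijective x) _ _ fun v => by simp

theorem maps_intCast {σ : GaloisPos.QBar →ₐ[ℚ] ℂ} (n : ℤ) : Star.Maps σ (n : ℂ) n :=
  ⟨intCast_mem _ n, (congrArg σ (show (⟨(n : ℂ), intCast_mem GaloisPos.QBar n⟩ : GaloisPos.QBar) =
    ((n : ℤ) : GaloisPos.QBar) from rfl)).trans (map_intCast σ n)⟩

theorem maps_sub {σ : GaloisPos.QBar →ₐ[ℚ] ℂ} {z w z' w' : ℂ} (h : Star.Maps σ z w)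
    (h' : Star.Maps σ z' w') : Star.Maps σ (z - z') (w - w') := by
  obtain ⟨hz, rfl⟩ := h
  obtain ⟨hz', rfl⟩ := h'
  exact ⟨sub_mem hz hz', by rw [← map_sub]; rfl⟩

variable (hM : IsPModular p M) (hmax : IsMaximalBrauerPair p M B b.1 b.2)
  (hab : ∀ x ∈ b.1, ∀ y ∈ b.1, x * y = y * x) (hfree : IsFree b)

include hM hmax hab hfree in
theorem val_ne_zero {χ : IrrCharacter G} (hχ : χ ∈ B) {w : b.1} (hw : w ≠ 1) :
    val p M b χ w ≠ 0 := fun h => by
  obtain ⟨r, hr, hr'⟩ := exists_pos_frm_self hM hmax hab w hχ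
  have h' := W_eq_val hM hmax hab hfree rfl hw χ χ
  rw [W, hr', h, zero_mul, mul_eq_zero, mul_eq_zero] at h'
  rcases h' with (h' | h') | h'
  · exact (card_iner_pos hmax).ne' (by exact_mod_cast h')
  · exact Chars.natCard_ne_zero h'
  · exact hr.ne' (by exact_mod_cast h')

include hM hmax hab hfree in

/-- The action of automorphisms on linear characters. -/
def act {P : Type u} [Group P] (l : P →* ℂˣ) (α : MulAut P) : P →* ℂˣ := l.comp α.toMonoidHom

@[simp] theorem act_apply {P : Type u} [Group P] (l : P →* ℂˣ) (α : MulAut P) (x : P) :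
    act l α x = l (α x) := rfl

theorem act_act {P : Type u} [Group P] (l : P →* ℂˣ) (α β : MulAut P) :
    act (act l α) β = act l (α * β) := MonoidHom.ext fun _ => rfl

@[simp] theorem act_one {P : Type u} [Group P] (l : P →* ℂˣ) : act l 1 = l :=
  MonoidHom.ext fun _ => rfl

theorem act_ne_one {P : Type u} [Group P] {l : P →* ℂˣ} (hl : l ≠ 1) (α : MulAut P) :
    act l α ≠ 1 := fun h => hl (by
  have h' := congrArg (fun l => act l α⁻¹) h
  simp only [act_act, mul_inv_cancel, act_one] at h'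
  rw [h']
  exact MonoidHom.ext fun x => rfl)

/-- The coefficient of a signed column at a linear character. -/
noncomputable def mCoef (p : ℕ) (M : Ideal AlgInt) (b : BrauerPairIdx G) (ε : b.1 → ℤ)
    (χ : IrrCharacter G) (l : b.1 →* ℂˣ) : ℂ :=
  (Nat.card b.1 : ℂ)⁻¹ *
    ∑ v ∈ univ.erase (1 : b.1), (ε v : ℂ) * val p M b χ v * ((l v⁻¹ : ℂ) - 1)

theorem mCoef_one (ε : b.1 → ℤ) (χ : IrrCharacter G) : mCoef p M b ε χ 1 = 0 := by
  simp [mCoef]

include hM hmax hab in
/-- The coefficients are integers. -/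
theorem exists_int_mCoef {ε : b.1 → ℤ}
    (hεG : ∀ (k : ℕ), k.Coprime (Nat.card G) → ∀ w, ε (w ^ k) = ε w) {χ : IrrCharacter G}
    (hF : ∃ F : b.1 → ℂ, Spn (localRing M) F ∧
      ∀ w : b.1, w ≠ 1 → Cong M (Nat.card b.1) ((ε w : ℂ) * val p M b χ w) (F w))
    (l : b.1 →* ℂˣ) : ∃ n : ℤ, mCoef p M b ε χ l = n := by
  letI : CommGroup b.1 :=
    { (inferInstance : Group b.1) with mul_comm := fun x y => Subtype.ext (hab _ x.2 _ y.2) }
  have hcomm : ∀ x y : b.1, x * y = y * x := mul_comm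
  have hPne : (Nat.card b.1 : ℂ) ≠ 0 := Chars.natCard_ne_zero
  have hn := NilBlock.card_eq hM hmax
  set D : IrrCharacter G → b.1 → ℂ := fun χ v => (ε v : ℂ) * val p M b χ v with hD
  obtain ⟨F, hF, hFc⟩ := hF
  have hDs : Spn (localRing M) fun v => if v = 1 then F 1 else D χ v :=
    spn_congr rfl hcomm hF fun v => by
      split_ifs with h
      · subst h; exact Cong.refl _ _
      · exact hFc v h
  obtain ⟨o₁, ho₁, hs₁⟩ := Star.spn_sum_apply (Star.spn_mul hDs (spn_hom l⁻¹))
  obtain ⟨o₂, ho₂, hs₂⟩ := Star.spn_sum_apply hDs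
  have hmR : mCoef p M b ε χ l = o₁ - o₂ := by
    refine mul_left_cancel₀ hPne ?_
    rw [mCoef, mul_inv_cancel_left₀ hPne, mul_sub, ← hs₁, ← hs₂, ← Finset.sum_sub_distrib,
      ← Finset.add_sum_erase _ _ (Finset.mem_univ (1 : b.1))]
    simp only [Pi.mul_apply, if_pos, MonoidHom.inv_apply, map_one, map_inv, inv_one,
      Units.val_one, mul_one, sub_self, zero_add]
    refine Finset.sum_congr rfl fun v hv => ?_
    rw [if_neg (Finset.mem_erase.1 hv).1]
    ring
  obtain ⟨z, hz⟩ := Star.exists_int_of_maps (z := (Nat.card b.1 : ℂ) * mCoef p M b ε χ l) (by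
    rw [mCoef, mul_inv_cancel_left₀ hPne]
    refine IsIntegral.sum _ fun v _ => IsIntegral.mul ?_ (IsIntegral.sub ?_ isIntegral_one)
    · obtain ⟨j, hj⟩ := NilBlock.exists_orderOf_eq hM hmax v.2
      exact ((by simpa using isIntegral_algebraMap (R := ℤ) (A := ℂ) (x := ε v)) :
        IsIntegral ℤ ((ε v : ℂ))).mul (isIntegral_val χ hj)
    · refine IsIntegral.of_pow (n := Nat.card b.1) Nat.card_pos ?_
      rw [← Units.val_pow_eq_pow_val, ← map_pow, pow_card_eq_one', map_one, Units.val_one]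
      exact isIntegral_one) fun σ => by
    obtain ⟨k, hk, hkK⟩ := Star.exists_pow_char_subgroup (G := G) σ
    rw [mCoef, mul_inv_cancel_left₀ hPne]
    have hstep : ∀ v : b.1, Star.Maps σ (D χ v * ((l v⁻¹ : ℂ) - 1))
        (D χ (v ^ k) * ((l (v ^ k)⁻¹ : ℂ) - 1)) := by
      intro v
      refine Star.maps_mul (Star.maps_mul ?_ ?_) (maps_sub ?_ ?_)
      · show Star.Maps σ (ε v : ℂ) (ε (v ^ k) : ℂ); rw [hεG k hk v]; exact maps_intCast _
      · rw [SubmonoidClass.coe_pow]; exact maps_val hM hmax hk hkK χ v.2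
      · rw [← inv_pow]; exact hkK b.1 _ (Chars.isCharacter_hom l) v⁻¹
      · simpa using Star.maps_natCast (ψ := σ) 1
    have h := Star.maps_sum (ψ := σ) (univ.erase (1 : b.1)) fun v _ => hstep v
    have hco : (Nat.card b.1).Coprime k :=
      (Nat.Coprime.coprime_dvd_right (Subgroup.card_subgroup_dvd_card b.1) hk).symm
    have hre : ∑ v ∈ univ.erase (1 : b.1), D χ (v ^ k) * ((l (v ^ k)⁻¹ : ℂ) - 1) =
        ∑ v ∈ univ.erase (1 : b.1), D χ v * ((l v⁻¹ : ℂ) - 1) := by
      refine Finset.sum_equiv (powCoprime hco) (fun v => ?_) fun v _ => rfl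
      simp only [Finset.mem_erase, Finset.mem_univ, and_true, ne_eq]
      refine not_congr ⟨fun h => by rw [h]; simp, fun h => (powCoprime hco).injective ?_⟩
      rw [h]; simp
    rw [hre] at h
    exact h
  rw [hmR, hn, Nat.cast_pow] at hz
  obtain ⟨q, hq⟩ := Star.pow_dvd_of_eq_mul hM _ (sub_mem ho₁ ho₂) hz.symm
  refine ⟨q, mul_left_cancel₀ (pow_ne_zero _ (Nat.cast_ne_zero.2 (Fact.out : p.Prime).ne_zero) :
    ((p : ℂ) ^ blockDefect p B) ≠ 0) ?_⟩
  rw [hmR, hz, hq]
  push_cast
  rfl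

include hM hmax hab hfree in
/-- The coefficients are invariant under the inertial automorphisms. -/
theorem mCoef_act {ε : b.1 → ℤ} (hεA : ∀ α ∈ iner hmax.1.1.2, ∀ w, ε (α w) = ε w)
    (χ : IrrCharacter G) (l : b.1 →* ℂˣ) {α : MulAut b.1} (hα : α ∈ iner hmax.1.1.2) :
    mCoef p M b ε χ (act l α) = mCoef p M b ε χ l := by
  simp only [mCoef]
  congr 1
  refine Finset.sum_equiv α.toEquiv (fun v => ?_) fun v hv => ?_
  · simp
  · show _ = (ε (α v) : ℂ) * val p M b χ (α v) * ((l (α v)⁻¹ : ℂ) - 1)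
    rw [hεA α hα, val_iner hM hmax hab hfree hα (Finset.mem_erase.1 hv).1, act_apply, map_inv α]

include hM hmax hab hfree in
/-- The Gram matrix of the coefficients. -/
theorem gram_mCoef {ε : b.1 → ℤ} (hεv : ∀ w, ε w = 1 ∨ ε w = -1)
    (hεA : ∀ α ∈ iner hmax.1.1.2, ∀ w, ε (α w) = ε w) [Fintype (iner hmax.1.1.2)]
    {l l' : b.1 →* ℂˣ} (hl : l ≠ 1) (hl' : l' ≠ 1) :
    ∑ χ ∈ B.toFinset, mCoef p M b ε χ l * conj (mCoef p M b ε χ l') =
      ∑ α : iner hmax.1.1.2, ((if act l' α = l then (1 : ℂ) else 0) + 1) := by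
  letI : CommGroup b.1 :=
    { (inferInstance : Group b.1) with mul_comm := fun x y => Subtype.ext (hab _ x.2 _ y.2) }
  have hPne : (Nat.card b.1 : ℂ) ≠ 0 := Chars.natCard_ne_zero
  have hne1 : ∀ {α : MulAut b.1} {x : b.1}, x ≠ 1 → α x ≠ 1 := fun {α x} hx h =>
    hx (α.injective (h.trans (map_one α).symm))
  set D : IrrCharacter G → b.1 → ℂ := fun χ v => (ε v : ℂ) * val p M b χ v with hD
  set m : IrrCharacter G → (b.1 →* ℂˣ) → ℂ := mCoef p M b ε with hm
  have hinner : ∀ v ∈ univ.erase (1 : b.1), ∀ w ∈ univ.erase (1 : b.1),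
      ∑ χ ∈ B.toFinset, D χ v * conj (D χ w) =
        if w ∈ orb b v then (Nat.card b.1 : ℂ) else 0 := by
    intro v hv w hw
    have hv1 := (Finset.mem_erase.1 hv).1
    have hw1 := (Finset.mem_erase.1 hw).1
    simp only [hD, map_mul, map_intCast]
    rw [Finset.sum_congr rfl (g := fun χ => ((ε v : ℂ) * (ε w : ℂ)) *
      (val p M b χ v * conj (val p M b χ w))) fun χ _ => by ring, ← Finset.mul_sum,
      sum_val_mul_conj hM hmax hab hfree rfl hw1 hv1]
    by_cases h : w ∈ orb b v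
    · obtain ⟨α, hα, rfl⟩ := (mem_orb_iff hmax).1 h
      rw [if_pos h, if_pos ((mem_orb_iff hmax).2 ⟨α⁻¹, inv_mem hα, MulAut.inv_apply_self _ _ _⟩),
        hεA α hα]
      rcases hεv v with h | h <;> simp [h]
    · rw [if_neg h, if_neg fun h' => h ?_, mul_zero]
      obtain ⟨α, hα, rfl⟩ := (mem_orb_iff hmax).1 h'
      exact (mem_orb_iff hmax).2 ⟨α⁻¹, inv_mem hα, MulAut.inv_apply_self _ _ _⟩
  calc ∑ χ ∈ B.toFinset, m χ l * conj (m χ l')
      = (Nat.card b.1 : ℂ)⁻¹ * (Nat.card b.1 : ℂ)⁻¹ * ∑ v ∈ univ.erase (1 : b.1),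
          ∑ w ∈ univ.erase (1 : b.1), (((l v⁻¹ : ℂ) - 1) * ((l' w : ℂ) - 1)) *
            ∑ χ ∈ B.toFinset, D χ v * conj (D χ w) := by
        simp only [hm, mCoef, map_mul, map_inv₀, Complex.conj_natCast, map_sum, map_sub, map_one, conj_hom,
          inv_inv, Finset.mul_sum, Finset.sum_mul]
        conv_lhs => arg 2; ext χ; rw [Finset.sum_comm]
        rw [Finset.sum_comm]
        refine Finset.sum_congr rfl fun v _ => ?_
        rw [Finset.sum_comm]
        refine Finset.sum_congr rfl fun w _ => Finset.sum_congr rfl fun χ _ => ?_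
        simp only [hD, map_mul]
        ring
    _ = (Nat.card b.1 : ℂ)⁻¹ * ∑ v : b.1, ∑ α : iner hmax.1.1.2,
          ((l v⁻¹ : ℂ) - 1) * ((l' ((α : MulAut b.1) v) : ℂ) - 1) := by
        rw [mul_assoc, ← Finset.add_sum_erase univ
          (fun v : b.1 => ∑ α : iner hmax.1.1.2, _) (Finset.mem_univ (1 : b.1))]
        congr 1
        rw [Finset.mul_sum]
        simp only [inv_one, map_one, Units.val_one, sub_self, zero_mul, Finset.sum_const_zero,
          zero_add]
        refine Finset.sum_congr rfl fun v hv => ?_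
        have hv1 := (Finset.mem_erase.1 hv).1
        rw [Finset.sum_congr rfl fun w hw => by rw [hinner v hv w hw, mul_ite, mul_zero],
          ← Finset.sum_filter, Finset.mul_sum,
          show (univ.erase (1 : b.1)).filter (fun w => w ∈ orb b v) =
            univ.image fun α : iner hmax.1.1.2 => (α : MulAut b.1) v from ?_,
          Finset.sum_image fun α _ β _ h => Subtype.ext (inv_mul_eq_one.1 (eq_one_of_fixed hmax
            hfree (mul_mem (inv_mem α.2) β.2) hv1 (by
              show (α : MulAut b.1)⁻¹ ((β : MulAut b.1) v) = v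
              rw [← show (α : MulAut b.1) v = (β : MulAut b.1) v from h, MulAut.inv_apply_self])))]
        · refine Finset.sum_congr rfl fun α _ => ?_
          field_simp
        · ext w
          simp only [Finset.mem_filter, Finset.mem_erase, Finset.mem_univ, and_true,
            Finset.mem_image, true_and]
          constructor
          · rintro ⟨-, h⟩
            obtain ⟨α, hα, h⟩ := (mem_orb_iff hmax).1 h
            exact ⟨⟨α, hα⟩, h⟩
          · rintro ⟨α, rfl⟩
            exact ⟨hne1 hv1, (mem_orb_iff hmax).2 ⟨α, α.2, rfl⟩⟩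
    _ = _ := by
        rw [Finset.sum_comm, Finset.mul_sum]
        refine Finset.sum_congr rfl fun α _ => ?_
        have hexp : ∀ v : b.1, ((l v⁻¹ : ℂ) - 1) * ((l' ((α : MulAut b.1) v) : ℂ) - 1) =
            ((l⁻¹ * act l' α) v : ℂ) - ((l⁻¹) v : ℂ) - ((act l' α) v : ℂ) + 1 := fun v => by
          simp only [MonoidHom.mul_apply, MonoidHom.inv_apply, act_apply, map_inv, Units.val_mul]
          ring
        have hl'α : act l' α ≠ 1 := fun h => hl' (by
          have := congrArg (fun x => act x ((α : MulAut b.1)⁻¹)) h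
          simp only [act_act, mul_inv_cancel, act_one] at this
          rw [this]; exact MonoidHom.ext fun x => rfl)
        simp only [hexp, Finset.sum_add_distrib, Finset.sum_sub_distrib, sum_hom_apply,
          if_neg hl'α, if_neg (fun h => hl (MonoidHom.ext fun x => by
            simpa using DFunLike.congr_fun h x) : ¬ l⁻¹ = 1), Finset.sum_const, Finset.card_univ,
          nsmul_eq_mul, mul_one, sub_zero, Fintype.card_eq_nat_card, inv_mul_eq_one]
        rw [mul_add, inv_mul_cancel₀ hPne]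
        congr 1
        by_cases h : act l' α = l
        · rw [if_pos h, if_pos (show l⁻¹ * act l' α = 1 from MonoidHom.ext fun x => by rw [h]; simp),
            inv_mul_cancel₀ hPne]
        · rw [if_neg h, if_neg (fun h' => h (MonoidHom.ext fun x =>
            (inv_mul_eq_one.1 (DFunLike.congr_fun h' x : (l x)⁻¹ * act l' α x = 1)).symm)), mul_zero]

include hM hmax hab in
/-- The signed column is recovered from the coefficients. -/
theorem sum_hom_mul_mCoef (ε : b.1 → ℤ) (χ : IrrCharacter G) [Fintype (b.1 →* ℂˣ)] {u : b.1}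
    (hu : u ≠ 1) :
    ∑ l : b.1 →* ℂˣ, (l u : ℂ) * mCoef p M b ε χ l = (ε u : ℂ) * val p M b χ u := by
  letI : CommGroup b.1 :=
    { (inferInstance : Group b.1) with mul_comm := fun x y => Subtype.ext (hab _ x.2 _ y.2) }
  have hcardL : Fintype.card (b.1 →* ℂˣ) = Nat.card b.1 := by
    rw [← Nat.card_eq_fintype_card, Chars.card_monoidHom_units,
      show commutator b.1 = ⊥ from (commutator_eq_bot_iff_center_eq_top _).2
        CommGroup.center_eq_top, Subgroup.index_bot]
  set D : IrrCharacter G → b.1 → ℂ := fun χ v => (ε v : ℂ) * val p M b χ v with hD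
  have hm : ∀ l, mCoef p M b ε χ l = (Nat.card b.1 : ℂ)⁻¹ *
      ∑ v ∈ univ.erase (1 : b.1), D χ v * ((l v⁻¹ : ℂ) - 1) := fun l => rfl
  simp only [hm, Finset.mul_sum]
  rw [Finset.sum_comm, Finset.sum_eq_single u (fun v hv hne => ?_) (fun h => absurd
    (Finset.mem_erase.2 ⟨hu, Finset.mem_univ _⟩) h)]
  · rw [Finset.sum_congr rfl (g := fun l : b.1 →* ℂˣ => (Nat.card b.1 : ℂ)⁻¹ * D χ u *
      (1 - (l u : ℂ))) fun l _ => by
        rw [map_inv, Units.val_inv_eq_inv_val]
        field_simp [Units.ne_zero (l u)], ← Finset.mul_sum, Finset.sum_sub_distrib,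
      sum_monoidHom_units, if_neg hu, Finset.sum_const, Finset.card_univ, hcardL]
    simp only [nsmul_eq_mul, mul_one, sub_zero, hD]
    field_simp
  · rw [Finset.sum_congr rfl (g := fun l : b.1 →* ℂˣ => (Nat.card b.1 : ℂ)⁻¹ * D χ v *
      ((l (u * v⁻¹) : ℂ) - (l u : ℂ))) fun l _ => by rw [map_mul, Units.val_mul]; ring,
      ← Finset.mul_sum, Finset.sum_sub_distrib, sum_monoidHom_units, sum_monoidHom_units,
      if_neg hu, if_neg fun h => hne (mul_inv_eq_one.1 h).symm, sub_zero, mul_zero]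

include hM hmax hab hfree in
/-- Representatives of the orbits of the inertial automorphisms on nontrivial linear
characters. -/
theorem exists_reps : ∃ (J : Type u) (_ : Fintype J) (rep : J → (b.1 →* ℂˣ)),
    (∀ j, rep j ≠ 1) ∧
    (∀ l, l ≠ 1 → ∃ j, ∃ α ∈ iner hmax.1.1.2, act (rep j) α = l) ∧
    (∀ i j, ∀ α ∈ iner hmax.1.1.2, act (rep j) α = rep i → i = j ∧ α = 1) ∧
    Fintype.card J * Nat.card (iner hmax.1.1.2) = Nat.card b.1 - 1 := by
  letI : CommGroup b.1 :=
    { (inferInstance : Group b.1) with mul_comm := fun x y => Subtype.ext (hab _ x.2 _ y.2) }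
  haveI : Finite (b.1 →* ℂˣ) := Finite.of_injective _ Chars.linIrr_injective
  haveI := Fintype.ofFinite (b.1 →* ℂˣ)
  haveI : Finite (MulAut b.1) := Finite.of_injective _ DFunLike.coe_injective
  haveI := Fintype.ofFinite (iner hmax.1.1.2)
  have hcardL : Fintype.card (b.1 →* ℂˣ) = Nat.card b.1 := by
    rw [← Nat.card_eq_fintype_card, Chars.card_monoidHom_units,
      show commutator b.1 = ⊥ from (commutator_eq_bot_iff_center_eq_top _).2
        CommGroup.center_eq_top, Subgroup.index_bot]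
  have hfreeL : ∀ {l : b.1 →* ℂˣ}, l ≠ 1 → ∀ {α : MulAut b.1}, α ∈ iner hmax.1.1.2 →
      act l α = l → α = 1 := by
    intro l hl α hα h
    by_contra hne
    let φ : b.1 →* b.1 := α.toMonoidHom / MonoidHom.id b.1
    have hinj : Function.Injective φ := (injective_iff_map_eq_one φ).2 fun x hx => by
      by_contra hx1
      exact hne (eq_one_of_fixed hmax hfree hα hx1 (div_eq_one.1 hx))
    refine hl (MonoidHom.ext fun y => ?_)
    obtain ⟨x, rfl⟩ := (Finite.injective_iff_surjective.1 hinj) y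
    have hx := DFunLike.congr_fun h x
    rw [act_apply] at hx
    rw [show φ x = α x / x from rfl, map_div, hx, div_self', MonoidHom.one_apply]
  let L := {l : b.1 →* ℂˣ // l ≠ 1}
  have hrel : Equivalence fun l l' : L => ∃ α ∈ iner hmax.1.1.2, act l.1 α = l'.1 := by
    refine ⟨fun l => ⟨1, one_mem _, act_one _⟩, ?_, ?_⟩
    · rintro l l' ⟨α, hα, h⟩
      exact ⟨α⁻¹, inv_mem hα, by rw [← h, act_act, mul_inv_cancel, act_one]⟩
    · rintro l l' l'' ⟨α, hα, h⟩ ⟨β, hβ, h'⟩
      exact ⟨α * β, mul_mem hα hβ, by rw [← act_act, h, h']⟩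
  let S : Setoid L := ⟨_, hrel⟩
  haveI : Fintype (Quotient S) := Fintype.ofFinite _
  let rep : Quotient S → L := fun j => j.out
  refine ⟨Quotient S, inferInstance, fun j => (rep j).1, fun j => (rep j).2, fun l hl => ?_,
    fun i j α hα h => ?_, ?_⟩
  · obtain ⟨α, hα, h⟩ := Quotient.exact (Quotient.out_eq (Quotient.mk S (⟨l, hl⟩ : L)))
    exact ⟨Quotient.mk S ⟨l, hl⟩, α, hα, h⟩
  · have hij : i = j := by
      rw [← i.out_eq, ← j.out_eq]
      exact (Quotient.sound (s := S) (show ∃ β ∈ iner hmax.1.1.2, act (rep j).1 β = (rep i).1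
        from ⟨α, hα, h⟩)).symm
    subst hij
    exact ⟨rfl, hfreeL (rep i).2 hα h⟩
  · have hfib : ∀ j : Quotient S,
        (univ.filter fun l : L => Quotient.mk S l = j).card = Nat.card (iner hmax.1.1.2) := by
      intro j
      rw [Nat.card_eq_fintype_card, ← Finset.card_univ]
      refine (Finset.card_bij (s := (univ : Finset (iner hmax.1.1.2)))
        (t := univ.filter fun l : L => Quotient.mk S l = j)
        (fun α _ => (⟨act (rep j).1 α, act_ne_one (rep j).2 _⟩ : L)) (fun α _ => ?_)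
        (fun α _ β _ h => ?_) fun l hl => ?_).symm
      · refine Finset.mem_filter.2 ⟨Finset.mem_univ _, ?_⟩
        exact (Quotient.sound (s := S) (b := rep j) (hrel.symm ⟨α, α.2, rfl⟩)).trans j.out_eq
      · have h' : act (rep j).1 α = act (rep j).1 β := congrArg Subtype.val h
        refine Subtype.ext (mul_inv_eq_one.1 (hfreeL (rep j).2 (mul_mem α.2 (inv_mem β.2)) ?_))
        rw [← act_act, h', act_act, mul_inv_cancel, act_one]
      · have h1 : Quotient.mk S l = Quotient.mk S (rep j) :=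
          (Finset.mem_filter.1 hl).2.trans j.out_eq.symm
        obtain ⟨α, hα, h⟩ := hrel.symm (Quotient.exact h1)
        exact ⟨⟨α, hα⟩, Finset.mem_univ _, Subtype.ext h⟩
    have h := Finset.card_eq_sum_card_fiberwise (s := (univ : Finset L)) (t := univ)
      (f := Quotient.mk S) fun x _ => Finset.mem_univ _
    rw [Finset.sum_congr rfl fun j _ => hfib j, Finset.sum_const, smul_eq_mul, Finset.card_univ,
      Finset.card_univ, Fintype.card_subtype_compl, Fintype.card_subtype_eq, hcardL] at h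
    exact h.symm

include hM hmax hab hfree in
/-- The Gram matrix at representatives of the orbits. -/
theorem gram_rep {ε : b.1 → ℤ} (hεv : ∀ w, ε w = 1 ∨ ε w = -1)
    (hεA : ∀ α ∈ iner hmax.1.1.2, ∀ w, ε (α w) = ε w) {J : Type u} [Fintype J]
    {rep : J → (b.1 →* ℂˣ)} (hr1 : ∀ j, rep j ≠ 1)
    (hrinj : ∀ i j, ∀ α ∈ iner hmax.1.1.2, act (rep j) α = rep i → i = j ∧ α = 1)
    (N : B → J → ℤ) (hN : ∀ χ j, (N χ j : ℂ) = mCoef p M b ε (χ : IrrCharacter G) (rep j))
    (i j : J) :
    ∑ χ : B, N χ i * N χ j = (Nat.card (iner hmax.1.1.2) : ℤ) + if i = j then 1 else 0 := by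
  haveI : Finite (MulAut b.1) := Finite.of_injective _ DFunLike.coe_injective
  haveI := Fintype.ofFinite (iner hmax.1.1.2)
  have h := gram_mCoef hM hmax hab hfree hεv hεA (hr1 i) (hr1 j)
  rw [Finset.sum_subtype B.toFinset (p := fun χ => χ ∈ B) (fun χ => Set.mem_toFinset),
    Finset.sum_congr rfl fun χ _ => by rw [← hN χ i, ← hN χ j, map_intCast],
    Finset.sum_add_distrib, Finset.sum_const, Finset.card_univ, nsmul_eq_mul, mul_one,
    Fintype.card_eq_nat_card] at h
  have hcount : ∑ α : iner hmax.1.1.2, (if act (rep j) α = rep i then (1 : ℂ) else 0) =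
      if i = j then 1 else 0 := by
    split_ifs with hij
    · subst hij
      rw [Finset.sum_eq_single (1 : iner hmax.1.1.2) (fun α _ hα => if_neg fun h' =>
        hα (Subtype.ext (hrinj i i α α.2 h').2)) (by simp), if_pos]
      exact act_one _
    · exact Finset.sum_eq_zero fun α _ => if_neg fun h' => hij (hrinj i j α α.2 h').1
  rw [hcount] at h
  have h' : ((∑ χ : B, N χ i * N χ j : ℤ) : ℂ) =
      (((Nat.card (iner hmax.1.1.2) : ℤ) + if i = j then 1 else 0 : ℤ) : ℂ) := by
    push_cast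
    exact h.trans (by split_ifs <;> ring)
  exact_mod_cast h'

include hM hmax hab hfree in
/-- Every row has a nonzero coefficient at a representative. -/
theorem exists_mCoef_ne_zero {ε : b.1 → ℤ} (hεv : ∀ w, ε w = 1 ∨ ε w = -1)
    (hεA : ∀ α ∈ iner hmax.1.1.2, ∀ w, ε (α w) = ε w) (hP1 : ∃ w : b.1, w ≠ 1) {J : Type u}
    {rep : J → (b.1 →* ℂˣ)}
    (hrsur : ∀ l, l ≠ 1 → ∃ j, ∃ α ∈ iner hmax.1.1.2, act (rep j) α = l)
    {χ : IrrCharacter G} (hχ : χ ∈ B) : ∃ j, mCoef p M b ε χ (rep j) ≠ 0 := by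
  by_contra hc
  push Not at hc
  obtain ⟨u, hu⟩ := hP1
  haveI : Finite (b.1 →* ℂˣ) := Finite.of_injective _ Chars.linIrr_injective
  haveI := Fintype.ofFinite (b.1 →* ℂˣ)
  have hall : ∀ l : b.1 →* ℂˣ, mCoef p M b ε χ l = 0 := by
    intro l
    by_cases hl : l = 1
    · subst hl; exact mCoef_one ε χ
    · obtain ⟨j, α, hα, h⟩ := hrsur l hl
      rw [← h, mCoef_act hM hmax hab hfree hεA χ _ hα, hc j]
  have h0 := sum_hom_mul_mCoef hM hmax hab ε χ hu
  simp only [hall, mul_zero, Finset.sum_const_zero] at h0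
  refine val_ne_zero hM hmax hab hfree hχ hu ?_
  rcases hεv u with h' | h' <;> rw [h'] at h0 <;> simpa using h0.symm

end Cfsg.Agent.Lib.FreeInertia
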