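import Mathlib
import Cfsg.Agent.Lib.FreeInertia.Lattice
import Cfsg.Agent.Lib.FreeInertia.Comb
import Cfsg.Agent.Lib.KleinBlock.Basic
import Cfsg.Agent.Lib.CyclicBlock.RankOne

/-!
# The integral rows of a block with free inertial action and the count of its characters
-/

set_option autoImplicit false
set_option linter.unusedSectionVars false

namespace Cfsg.Agent.Lib.FreeInertia

open Finset Cfsg Cfsg.Agent.Lib Cfsg.Agent.Lib.BrauerPairs Cfsg.Agent.Lib.AbelianStar
open Cfsg.Agent.Lib.NilBlock (bu bu_fst centralizer_bu con)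
open Cfsg.Agent.Lib.Blocks (localRing mem_localRing)
open Cfsg.Agent.Lib.Star (Spn)
open scoped ComplexConjugate

universe u

attribute [local instance] Classical.propDecidable

variable {G : Type u} [Group G] [Fintype G] {p : ℕ} {M : Ideal AlgInt} [Fact p.Prime] [M.IsPrime]
  {B : Set (IrrCharacter G)} {b : BrauerPairIdx G}

variable (hM : IsPModular p M) (hmax : IsMaximalBrauerPair p M B b.1 b.2)
  (hab : ∀ x ∈ b.1, ∀ y ∈ b.1, x * y = y * x) (hfree : IsFree b)

include hM hmax hab hfree in
/-- The counts of a block with signs. -/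
theorem counts (hS : HasSigns p M B b hmax.1.1.2) (hP1 : ∃ w : b.1, w ≠ 1) :
    Nat.card B ≤ Nat.card (iner hmax.1.1.2) + (Nat.card b.1 - 1) / Nat.card (iner hmax.1.1.2) ∧
    Nat.card B = blockRank p B + (Nat.card b.1 - 1) / Nat.card (iner hmax.1.1.2) ∧
    (Nat.card (iner hmax.1.1.2) ≤ 3 →
      Nat.card B = Nat.card (iner hmax.1.1.2) + (Nat.card b.1 - 1) / Nat.card (iner hmax.1.1.2)) := by
  obtain ⟨ε, hεv, hεA, hεG, hεS⟩ := hS
  obtain ⟨J, _, rep, hr1, hrsur, hrinj, ht⟩ := exists_reps hM hmax hab hfree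
  set e := Nat.card (iner hmax.1.1.2) with he
  have hepos : 0 < e := card_iner_pos hmax
  set t := Fintype.card J with htdef
  have hdiv : (Nat.card b.1 - 1) / e = t := by rw [← ht, Nat.mul_div_cancel _ hepos]
  choose n hn' using fun (χ : B) (j : J) =>
    exists_int_mCoef hM hmax hab hεG (hεS χ χ.2) (rep j)
  let N : B → J → ℤ := n
  have hG : ∀ i j, ∑ χ : B, N χ i * N χ j = (e : ℤ) + if i = j then 1 else 0 := fun i j => gram_rep hM hmax hab hfree hεv hεA hr1 hrinj N
    (fun χ j => (hn' χ j).symm) i j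
  have hrow : ∀ χ : B, ∃ j, N χ j ≠ 0 := fun χ =>
    (exists_mCoef_ne_zero hM hmax hab hfree hεv hεA hP1 hrsur χ.2).imp fun j hj h =>
      hj (by rw [hn' χ j, show n χ j = 0 from h, Int.cast_zero])
  have htpos : 0 < t := by
    rcases Nat.eq_zero_or_pos t with h | h
    · exfalso
      rw [h, zero_mul] at ht
      obtain ⟨u, hu⟩ := hP1
      haveI : Nontrivial b.1 := ⟨u, 1, hu⟩
      have := (Finite.one_lt_card : 1 < Nat.card b.1)
      omega
    · exact h
  have hk : Nat.card B = blockRank p B + t := by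
    have h := card_eq_rank_add hM hmax hab hfree
    rw [Finset.sum_congr rfl (g := fun _ => ((e : ℂ))⁻¹) fun w hw => by
      rw [card_orb hmax hfree (Finset.mem_erase.1 hw).1], Finset.sum_const, nsmul_eq_mul,
      Finset.card_erase_of_mem (Finset.mem_univ _), Finset.card_univ, Fintype.card_eq_nat_card,
      ← ht, Nat.cast_mul, mul_assoc, mul_inv_cancel₀ (Nat.cast_ne_zero.2 hepos.ne'), mul_one,
      ← Nat.card_eq_card_toFinset] at h
    exact_mod_cast h
  have hBcard : Fintype.card B = Nat.card B := Fintype.card_eq_nat_card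
  refine ⟨?_, by rw [hdiv, hk], fun he3 => ?_⟩
  · rw [hdiv, ← hBcard]
    exact Comb.card_le hG hrow htpos
  · rw [hdiv]
    have hl : 0 < blockRank p B := KleinBlock.blockRank_pos (Fact.out : p.Prime) hmax.1.2.1
    rcases Comb.card_eq_or hG hrow htpos he3 (by rw [hBcard, hk]; omega) with h | ⟨h3, h⟩
    · rw [← hBcard, h]
    exfalso
    rw [hBcard, hk] at h
    change 3 ≤ t at h3
    -- only `(e, |P|)` equal to `(2, 7)` or `(3, 13)` remain
    have hP : Nat.card b.1 = t * e + 1 := by
      have := (Nat.card_pos : 0 < Nat.card b.1)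
      omega
    obtain ⟨d, hd⟩ := (hmax.1.1.1 : IsPGroup p b.1).exists_card_eq
    have hcases : (e = 2 ∧ t = 3) ∨ (e = 3 ∧ t = 4) ∨ (e = 3 ∧ t = 3) := by
      interval_cases e <;> omega
    have hprime : (Nat.card b.1).Prime ∧ blockRank p B = 1 ∧ 1 < e := by
      rcases hcases with ⟨a, c⟩ | ⟨a, c⟩ | ⟨a, c⟩ <;> rw [a, c] at hP h
      · exact ⟨by rw [hP]; norm_num, by omega, by omega⟩
      · exact ⟨by rw [hP]; norm_num, by omega, by omega⟩
      · exfalso
        rw [hP] at hd
        have h2 : 2 = p := (Nat.prime_dvd_prime_iff_eq Nat.prime_two Fact.out).1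
          (Nat.prime_two.dvd_of_dvd_pow (hd ▸ by norm_num : 2 ∣ p ^ d))
        have h5 : 5 = p := (Nat.prime_dvd_prime_iff_eq (by norm_num) Fact.out).1
          ((show Nat.Prime 5 by norm_num).dvd_of_dvd_pow (hd ▸ by norm_num : 5 ∣ p ^ d))
        omega
    haveI : Fact (Nat.card b.1).Prime := ⟨hprime.1⟩
    have hcyc : IsCyclic b.1 := isCyclic_of_prime_card rfl
    have hall : ∀ α ∈ iner hmax.1.1.2, α = 1 := by
      intro α hα
      obtain ⟨y, hy, hyα⟩ := exists_inStab_of_iner hmax hα
      have hc := CyclicBlock.mem_centralizer_of_rank_one hM hmax (isDefectGroup_of_isMaximal hM hmax)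
        hcyc hprime.2.1 hy
      refine MulEquiv.ext fun z => Subtype.ext ?_
      rw [hyα, MulAut.one_apply, ← Subgroup.mem_centralizer_iff.1 hc z z.2, mul_inv_cancel_right]
    have : e = 1 := by
      rw [he, show iner hmax.1.1.2 = ⊥ from (Subgroup.eq_bot_iff_forall _).2 hall]
      exact Subgroup.card_bot
    omega

end Cfsg.Agent.Lib.FreeInertia
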