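import Mathlib
import Cfsg.Agent.Lib.FreeInertia.Local
import Cfsg.Agent.Lib.NilBlock.Main
import Cfsg.Agent.Lib.AbelianStar.Nested
import Cfsg.Agent.Lib.Star.Family
import Cfsg.Agent.Lib.Contrib.BlockTwo

/-!
# The rank of a local idempotent on a nilpotent block, modulo a power of two

An idempotent modulo `2 ^ N` of the group algebra, absorbed by the idempotent of a nilpotent block,
takes one value on all the characters of the block, a unit congruent to `±1` modulo `4`.
-/

set_option autoImplicit false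
set_option linter.unusedSectionVars false

namespace Cfsg.Agent.Lib.FreeInertia

open Finset Cfsg MonoidAlgebra Cfsg.Agent.Lib Cfsg.Agent.Lib.BrauerPairs
open Cfsg.Agent.Lib.Blocks (localRing residue mem_localRing toF toC blockIdem RCenter)
open scoped ComplexConjugate

universe u v

attribute [local instance] Classical.propDecidable

/-- An idempotent has vanishing sum over the conjugates of an element of even order, up to the
factor two. -/
theorem two_mul_sum_conj_eq_zero {R : Type v} [CommRing R] (h2 : IsNilpotent (2 : R)) {K : Type u}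
    [Group K] [Fintype K] {e : MonoidAlgebra R K} (he : e * e = e) {y : K} (hy : 2 ∣ orderOf y) :
    2 * ∑ x : K, e.coeff (x * y * x⁻¹) = 0 := by
  set F : Matrix K K R := Contrib.regMatrix e
  set T : Matrix K K R := Matrix.of fun g h => if g * y = h then 1 else 0
  have hFT : F * T = T * F := by
    ext g h
    simp only [F, T, Matrix.mul_apply, Matrix.of_apply, Contrib.regMatrix, mul_ite, mul_one,
      mul_zero, ite_mul, one_mul, zero_mul, Finset.sum_ite_eq, Finset.mem_univ, if_true]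
    rw [Finset.sum_eq_single (h * y⁻¹) (fun b _ hb => if_neg fun hh => hb (by rw [← hh]; group))
      (fun hh => absurd (Finset.mem_univ _) hh), if_pos (inv_mul_cancel_right h y)]
    congr 1
    group
  set Y := Subgroup.zpowers y
  set Y2 := Subgroup.zpowers (y ^ 2)
  have hstep : ∀ z ∈ Y, (z * y ∈ Y2 ↔ z ∉ Y2) := by
    intro z hz
    have hmem : ∀ i : ℤ, y ^ i ∈ Y2 ↔ (2 : ℤ) ∣ i := by
      intro i
      constructor
      · intro h
        obtain ⟨j, hj⟩ := Subgroup.mem_zpowers_iff.1 h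
        rw [← zpow_natCast, ← zpow_mul, zpow_eq_zpow_iff_modEq, Int.modEq_iff_dvd] at hj
        have h2 : (2 : ℤ) ∣ (orderOf y : ℤ) := by exact_mod_cast hy
        have h3 := h2.trans hj
        omega
      · rintro ⟨j, rfl⟩
        exact Subgroup.mem_zpowers_iff.2 ⟨j, by rw [← zpow_natCast, ← zpow_mul]; norm_num⟩
    obtain ⟨i, rfl⟩ := Subgroup.mem_zpowers_iff.1 hz
    rw [← zpow_add_one, hmem, hmem]
    omega
  set S : K → R := fun g => if ((g : K ⧸ Y).out)⁻¹ * g ∈ Y2 then 0 else 1
  have hS : ∀ g, S (g * y) + S g = 1 := by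
    intro g
    have hq : ((g * y : K) : K ⧸ Y) = (g : K ⧸ Y) :=
      QuotientGroup.eq.2 (by simp [Y, Subgroup.mem_zpowers])
    have hz : ((g : K ⧸ Y).out)⁻¹ * g ∈ Y := QuotientGroup.eq.1 (QuotientGroup.out_eq' _)
    simp only [S, hq, ← mul_assoc, hstep _ hz]
    split_ifs <;> simp
  set D : Matrix K K R := Matrix.diagonal S
  set A : Matrix K K R := 1 - (2 : R) • D
  have hAT : A * T = -(T * A) := by
    ext g h
    rw [show A = Matrix.diagonal (fun a => 1 - 2 * S a) by
      rw [show A = 1 - (2 : R) • D from rfl, show D = Matrix.diagonal S from rfl,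
        ← Matrix.diagonal_one, ← Matrix.diagonal_smul, Matrix.diagonal_sub]
      rfl]
    rw [Matrix.neg_apply, Matrix.diagonal_mul, Matrix.mul_diagonal]
    simp only [T, Matrix.of_apply]
    split_ifs with hg
    · subst hg
      linear_combination (-2 : R) * hS g
    · simp
  have hF : F * F = F := Contrib.regMatrix_mul_self he
  set u : Matrix K K R := 1 - F + F * A * F
  have hu : IsUnit u := by
    have : u = 1 - (2 : R) • (F * D * F) := by
      simp only [u, A, mul_sub, sub_mul, mul_one, hF, Algebra.mul_smul_comm, Algebra.smul_mul_assoc]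
      abel
    rw [this]
    obtain ⟨k, hk⟩ := h2
    exact IsNilpotent.isUnit_one_sub ⟨k, by rw [smul_pow, hk, zero_smul]⟩
  obtain ⟨w, hw⟩ := hu
  have h1 : u * (T * F) = -(T * F * u) := by
    have hA : ∀ X : Matrix K K R, F * (A * (T * X)) = -(F * (T * (A * X))) := fun X => by
      rw [← mul_assoc A, hAT, neg_mul, mul_assoc, mul_neg]
    have hTF : ∀ X : Matrix K K R, T * (F * X) = F * (T * X) := fun X => by
      rw [← mul_assoc, ← hFT, mul_assoc]
    have hFF : ∀ X : Matrix K K R, F * (F * X) = F * X := fun X => by rw [← mul_assoc, hF]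
    have e1 : (1 - F) * (T * F) = 0 := by
      rw [sub_mul, one_mul, ← hTF, hF, sub_self]
    have e2 : T * F * (1 - F) = 0 := by
      rw [mul_sub, mul_one, mul_assoc, hF, sub_self]
    calc u * (T * F) = F * A * F * (T * F) := by rw [show u = (1 - F) + F * A * F from rfl,
            add_mul, e1, zero_add]
      _ = F * (A * (T * F)) := by rw [mul_assoc, mul_assoc, ← hTF, hF]
      _ = -(F * (T * (A * F))) := hA F
      _ = -(T * F * (F * A * F)) := by
            simp only [mul_assoc, hTF, hFF]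
      _ = -(T * F * u) := by
            rw [show u = (1 - F) + F * A * F from rfl, mul_add, e2, zero_add]
  have h3 : (T * F).trace = -(T * F).trace := by
    conv_lhs => rw [← Matrix.trace_units_conj w (T * F)]
    rw [hw, h1, neg_mul, Matrix.trace_neg, mul_assoc, ← hw, w.mul_inv, mul_one]
  have h4 : (T * F).trace = ∑ x : K, e.coeff (x * y * x⁻¹) := by
    simp only [Matrix.trace, Matrix.diag, F, T, Matrix.mul_apply, Matrix.of_apply, Contrib.regMatrix, ite_mul,
      one_mul, zero_mul, Finset.sum_ite_eq, Finset.mem_univ, if_true]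
  rw [← h4, two_mul]
  exact eq_neg_iff_add_eq_zero.1 h3

variable {M : Ideal AlgInt} [M.IsPrime]

theorem Cong.of_dvd {N N' : ℕ} (h : N' ∣ N) {x y : ℂ} (hc : Cong M N x y) : Cong M N' x y := by
  obtain ⟨o, ho, e⟩ := hc
  obtain ⟨c, rfl⟩ := h
  exact ⟨(c : ℂ) * o, mul_mem (natCast_mem _ _) ho, by rw [e]; push_cast; ring⟩

theorem Cong.mono {a b : ℕ} (h : b ≤ a) {x y : ℂ} (hc : Cong M (2 ^ a) x y) :
    Cong M (2 ^ b) x y :=
  hc.of_dvd (pow_dvd_pow 2 h)

theorem Cong.add {N : ℕ} {x y x' y' : ℂ} (h : Cong M N x y) (h' : Cong M N x' y') :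
    Cong M N (x + x') (y + y') := by
  obtain ⟨o, ho, e⟩ := h
  obtain ⟨o', ho', e'⟩ := h'
  exact ⟨o + o', add_mem ho ho', by linear_combination e + e'⟩

theorem Cong.sum {N : ℕ} {ι : Type*} (s : Finset ι) {f g : ι → ℂ}
    (h : ∀ i ∈ s, Cong M N (f i) (g i)) : Cong M N (∑ i ∈ s, f i) (∑ i ∈ s, g i) := by
  classical
  induction s using Finset.induction_on with
  | empty => exact Cong.refl _ _
  | insert a t ha ih =>
    simp only [Finset.mem_insert, forall_eq_or_imp] at h
    rw [Finset.sum_insert ha, Finset.sum_insert ha]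
    exact h.1.add (ih h.2)

/-- Dividing a congruence by a natural number. -/
theorem Cong.div_natCast (hM : IsPModular 2 M) [Fact (Nat.Prime 2)] {N a : ℕ} (haN : a ≤ N) {c : ℕ}
    (hc : c ≠ 0) (ha : c.factorization 2 ≤ a) {x y : ℂ}
    (h : Cong M (2 ^ N) ((c : ℂ) * x) ((c : ℂ) * y)) : Cong M (2 ^ (N - a)) x y := by
  obtain ⟨o, ho, e⟩ := h
  refine ⟨((2 ^ a : ℕ) : ℂ) / c * o, mul_mem (Blocks.natCast_div_mem_localRing hM hc (Or.inl (by
    rw [Nat.Prime.factorization_pow Nat.prime_two, Finsupp.single_eq_same]; exact ha))) ho, ?_⟩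
  have hc' : (c : ℂ) ≠ 0 := Nat.cast_ne_zero.2 hc
  field_simp
  push_cast at e ⊢
  rw [show (2 : ℂ) ^ N = 2 ^ (N - a) * 2 ^ a by rw [← pow_add, Nat.sub_add_cancel haN]] at e
  linear_combination e

/-- The value of the coefficient vector `E` on a function. -/
noncomputable def evalAt {K : Type u} [Group K] [Fintype K] (E : MonoidAlgebra (localRing M) K)
    (θ : K → ℂ) : ℂ :=
  ∑ k : K, ((E.coeff k : localRing M) : ℂ) * θ k

theorem exists_coeff_eq {K : Type u} [Group K] [Finite K] {N : ℕ}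
    {a b : MonoidAlgebra (localRing M) K}
    (h : Star.toMod M 2 N K a = Star.toMod M 2 N K b) (g : K) :
    Cong M (2 ^ N) (a.coeff g : ℂ) (b.coeff g : ℂ) := by
  obtain ⟨o, ho⟩ := Star.coeff_sub_mem_of_toMod_eq h g
  refine ⟨o, o.2, ?_⟩
  rw [ho]
  simp only [Subring.coe_add, Subring.coe_mul, SubmonoidClass.coe_pow, Subring.coe_natCast,
    Nat.cast_pow]
  ring

variable [Fact (Nat.Prime 2)] {K : Type u} [Group K] [Fintype K]
  {f : Set (IrrCharacter K)} {b : BrauerPairIdx K}

/-- The rank of an idempotent modulo `2 ^ N` on a nilpotent block. -/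
theorem exists_rank (hM : IsPModular 2 M) (hmax : IsMaximalBrauerPair 2 M f b.1 b.2)
    (hcomm : ∀ x ∈ b.1, ∀ y ∈ b.1, x * y = y * x) (hnil : IsNilpotentBlock 2 M f) {a m N : ℕ}
    (ha : (Nat.card K).factorization 2 ≤ a) (hN : m + 2 * a + 3 ≤ N)
    {E : MonoidAlgebra (localRing M) K}
    (hidem : IsIdempotentElem (Star.toMod M 2 N K E))
    (hblk : ∀ hf : IsPBlock M f, Star.toMod M 2 N K (E * (blockIdem M hf : MonoidAlgebra (localRing M) K)) =
      Star.toMod M 2 N K E)
    (h1 : residue M (E.coeff 1) ≠ 0) :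
    ∃ n ∈ localRing M, (∃ σ : ℤ, (σ = 1 ∨ σ = -1) ∧ Cong M 4 n (σ : ℂ)) ∧
      ∀ θ : IrrCharacter K, Cong M (2 ^ m) (evalAt E (θ : K → ℂ)) (if θ ∈ f then n else 0) := by
  have hf := hmax.1.2.1
  set R' := Star.LocalMod M 2 N
  have h2nil : IsNilpotent (2 : R') := ⟨N, by
    rw [← map_ofNat (Ideal.Quotient.mk _) 2, ← map_pow, Ideal.Quotient.eq_zero_iff_mem]
    simp [Ideal.mem_span_singleton]⟩
  set Ē := Star.toMod M 2 N K E with hEbar
  have hθint : ∀ (θ : IrrCharacter K) (k : K), (θ : K → ℂ) k ∈ localRing M := fun θ k =>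
    Blocks.isIntegral_mem_localRing (Chars.irr_isIntegral θ k)
  set S : IrrCharacter K → ℂ := fun θ => evalAt E (θ : K → ℂ) with hS
  have hSint : ∀ θ, S θ ∈ localRing M := fun θ =>
    sum_mem fun k _ => mul_mem (E.coeff k).2 (hθint θ k)
  -- outside the block
  have hout : ∀ θ, θ ∉ f → Cong M (2 ^ N) (S θ) 0 := by
    intro θ hθ
    set eR : MonoidAlgebra (localRing M) K := (blockIdem M hf : MonoidAlgebra (localRing M) K)
    have h0 : evalAt (E * eR) (θ : K → ℂ) = 0 := by
      have hz : Blocks.omega (θ : K → ℂ) (toC M K eR) = 0 := by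
        have h := congrArg (fun x : localRing M => (x : ℂ)) (Blocks.omegaR_blockIdem hf θ)
        rwa [Blocks.coe_omegaR, if_neg hθ] at h
      have hc : toC M K eR ∈ Subalgebra.center ℂ (MonoidAlgebra ℂ K) :=
        Blocks.map_mem_center (localRing M).subtype (blockIdem M hf).2
      have h : Blocks.omega (θ : K → ℂ) (toC M K (E * eR)) = 0 := by
        rw [map_mul, Subalgebra.mem_center_iff.1 hc, Blocks.omega_mul θ hc, hz, zero_mul]
      rw [Blocks.omega_eq_sum] at h
      rw [evalAt]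
      have hne := Chars.irr_apply_one_ne_zero θ
      calc _ = (θ : K → ℂ) 1 * ∑ g, (toC M K (E * eR)).coeff g *
            ((θ : K → ℂ) g / (θ : K → ℂ) 1) := by
              rw [Finset.mul_sum]
              refine Finset.sum_congr rfl fun g _ => ?_
              simp only [toC, coeff_mapRingHom, Subring.coe_subtype]
              field_simp
        _ = 0 := by rw [h, mul_zero]
    rw [← h0]
    exact Cong.sum _ fun k _ => (exists_coeff_eq (hblk hf).symm k).mul_right (hθint θ k)
  -- the common regular part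
  have hrk : blockRank 2 f = 1 := NilBlock.blockRank_eq_one hM hnil
  obtain ⟨χ₀, hχ₀, hh0⟩ := Blocks.exists_height_zero (p := 2) hf
  obtain ⟨-, Φ, hΦ⟩ := NilBlock.exists_structure hM hmax hnil
    (fun w hw _ => NilBlock.blockRank_bu hM hmax hnil hw) hχ₀ hh0
  have hcomm' : ∀ x y : b.1, x * y = y * x := fun x y => Subtype.ext (hcomm _ x.2 _ y.2)
  have hreg : ∀ η ∈ f, ∀ x : K, ¬ 2 ∣ orderOf x → (η : K → ℂ) x = (χ₀ : K → ℂ) x := by
    intro η hη x hx
    have h := (hΦ ⟨η, hη⟩).1 x
    obtain ⟨l, hl⟩ := exists_eq_hom hcomm' (Φ ⟨η, hη⟩)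
    have h1 : (charDegree ((Φ ⟨η, hη⟩ : IrrCharacter _) : b.1 → ℂ) : ℂ) = 1 := by
      rw [(Blocks.HeightZero.charDegree_eq (Φ ⟨η, hη⟩)).1, hl]; simp
    rw [h1, one_mul, BrauerFeit.pRegularPart_apply, BrauerFeit.pRegularPart_apply, if_neg hx,
      if_neg hx] at h
    exact h
  -- singular elements do not count
  have hin : ∀ θ ∈ f, Cong M (2 ^ (N - 1 - a)) (S θ) (S χ₀) := by
    intro θ hθ
    have hsing : ∀ η : IrrCharacter K, Cong M (2 ^ (N - 1 - a))
        (∑ k : K, if 2 ∣ orderOf k then ((E.coeff k : localRing M) : ℂ) * (η : K → ℂ) k else 0) 0 := by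
      intro η
      refine Cong.div_natCast hM (c := Nat.card K) (by omega) Nat.card_pos.ne' ha ?_
      have hconj : ∀ y : K, 2 ∣ orderOf y →
          Cong M (2 ^ (N - 1)) (∑ x : K, ((E.coeff (x * y * x⁻¹) : localRing M) : ℂ)) 0 := by
        intro y hy
        have h := two_mul_sum_conj_eq_zero h2nil hidem.eq hy
        simp only [Ē, hEbar, coeff_mapRingHom] at h
        rw [← map_ofNat (Ideal.Quotient.mk _) 2, ← map_sum, ← map_mul,
          Ideal.Quotient.eq_zero_iff_mem, Ideal.mem_span_singleton] at h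
        obtain ⟨o, ho⟩ := h
        have ho' := congrArg (fun z : localRing M => (z : ℂ)) ho
        refine ⟨o, o.2, ?_⟩
        push_cast at ho' ⊢
        rw [sub_zero]
        refine mul_left_cancel₀ (two_ne_zero (α := ℂ)) ?_
        have e2 : ((OfNat.ofNat 2 : localRing M) : ℂ) = 2 := rfl
        simp only [e2] at ho'
        rw [ho', ← mul_assoc, ← pow_succ', Nat.sub_add_cancel (by omega : 1 ≤ N)]
      have hsum : (Nat.card K : ℂ) *
          ∑ k : K, (if 2 ∣ orderOf k then ((E.coeff k : localRing M) : ℂ) * (η : K → ℂ) k else 0) =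
          ∑ y : K, if 2 ∣ orderOf y then
            (η : K → ℂ) y * ∑ x : K, ((E.coeff (x * y * x⁻¹) : localRing M) : ℂ) else 0 := by
        rw [Nat.card_eq_fintype_card, ← nsmul_eq_mul, ← Finset.card_univ, ← Finset.sum_const]
        simp only [Finset.mul_sum, ← Finset.sum_filter]
        simp only [Finset.sum_filter]
        rw [Finset.sum_congr rfl (g := fun x : K => ∑ y : K, if 2 ∣ orderOf y then
          (η : K → ℂ) y * ((E.coeff (x * y * x⁻¹) : localRing M) : ℂ) else 0) fun x _ => ?_,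
          Finset.sum_comm]
        · exact Finset.sum_congr rfl fun y _ => by split_ifs <;> simp
        refine (Fintype.sum_equiv (MulAut.conj x).toEquiv _ _ fun y => ?_).symm
        simp only [MulEquiv.toEquiv_eq_coe, MulEquiv.coe_toEquiv, MulAut.conj_apply]
        refine if_congr (by rw [show orderOf (x * y * x⁻¹) = orderOf y from
          orderOf_injective (MulAut.conj x).toMonoidHom (MulAut.conj x).injective y]) ?_ rfl
        rw [Chars.irr_isClassFunction η y x, mul_comm]
      rw [hsum, mul_zero]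
      have h' := Cong.sum (M := M) (N := 2 ^ (N - 1)) univ (f := fun y : K => if 2 ∣ orderOf y then
          (η : K → ℂ) y * ∑ x : K, ((E.coeff (x * y * x⁻¹) : localRing M) : ℂ) else 0)
        (g := fun _ => 0) fun y _ => by
          split_ifs with hy
          · simpa using (hconj y hy).mul_left (hθint η y)
          · exact Cong.refl _ _
      simpa using h'
    have hsplit : ∀ η : IrrCharacter K, S η =
        (∑ k : K, if 2 ∣ orderOf k then ((E.coeff k : localRing M) : ℂ) * (η : K → ℂ) k else 0) +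
          ∑ k : K, if 2 ∣ orderOf k then 0 else ((E.coeff k : localRing M) : ℂ) * (η : K → ℂ) k := by
      intro η
      rw [← Finset.sum_add_distrib]
      exact Finset.sum_congr rfl fun k _ => by split_ifs <;> simp
    rw [hsplit θ, hsplit χ₀]
    refine ((hsing θ).trans (hsing χ₀).symm).add ?_
    rw [Finset.sum_congr rfl fun k _ => ?_]
    · exact Cong.refl _ _
    split_ifs with hk
    · rfl
    · rw [hreg θ hθ k hk]
  -- the rank
  set n := S χ₀
  set d := charDegree (χ₀ : K → ℂ)
  set v := (Nat.card K).factorization 2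
  have hd := Blocks.HeightZero.charDegree_eq χ₀
  have hdeg : ∀ θ ∈ f, (θ : K → ℂ) 1 = (d : ℂ) := fun θ hθ => by
    rw [hreg θ hθ 1 (by rw [orderOf_one]; norm_num), hd.1]
  have hcardf : f.toFinset.card = Nat.card b.1 := by
    rw [← Nat.card_eq_card_toFinset, Nat.card_congr Φ, card_irr hcomm']
  have hqv : (Nat.card b.1 * d).factorization 2 = v := by
    have h := BrauerFeit.factorization_add_defect (p := 2) hχ₀
    rw [hh0, add_zero] at h
    rw [Nat.factorization_mul Nat.card_pos.ne' hd.2, Finsupp.add_apply, NilBlock.card_eq hM hmax,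
      Nat.Prime.factorization_pow Nat.prime_two, Finsupp.single_eq_same]
    omega
  obtain ⟨u, hu, hu2⟩ : ∃ u, Nat.card b.1 * d = 2 ^ v * u ∧ ¬ 2 ∣ u :=
    ⟨_, by rw [← hqv]; exact (Nat.ordProj_mul_ordCompl_eq_self _ 2).symm,
      Nat.not_dvd_ordCompl Nat.prime_two (mul_ne_zero Nat.card_pos.ne' hd.2)⟩
  obtain ⟨w, hw, hw2⟩ : ∃ w, Nat.card K = 2 ^ v * w ∧ ¬ 2 ∣ w :=
    ⟨_, (Nat.ordProj_mul_ordCompl_eq_self _ 2).symm,
      Nat.not_dvd_ordCompl Nat.prime_two Nat.card_pos.ne'⟩
  have hone : Cong M (2 ^ (N - 1 - a)) ((Nat.card K : ℂ) * (E.coeff 1 : ℂ))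
      (((Nat.card b.1 * d : ℕ) : ℂ) * n) := by
    have hreg1 : (Nat.card K : ℂ) * (E.coeff 1 : ℂ) =
        ∑ θ : IrrCharacter K, (θ : K → ℂ) 1 * S θ := by
      simp only [hS, evalAt, Finset.mul_sum]
      rw [Finset.sum_comm, Finset.sum_congr rfl (g := fun k : K =>
        ((E.coeff k : localRing M) : ℂ) * (if k = 1 then (Nat.card K : ℂ) else 0)) fun k _ => ?_]
      · simp [mul_comm]
      rw [← Chars.sum_degree_mul_irr k, Finset.mul_sum]
      exact Finset.sum_congr rfl fun θ _ => by ring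
    rw [hreg1]
    refine (Cong.sum (N := 2 ^ (N - 1 - a)) univ (g := fun θ : IrrCharacter K =>
      if θ ∈ f then (d : ℂ) * n else 0) fun θ _ => ?_).trans ?_
    · split_ifs with h
      · rw [hdeg θ h]
        exact (hin θ h).mul_left (natCast_mem _ _)
      · simpa using ((hout θ h).mono (by omega : N - 1 - a ≤ N)).mul_left (hθint θ 1)
    · rw [← Finset.sum_filter, Finset.sum_const, nsmul_eq_mul,
        show (univ.filter fun θ => θ ∈ f) = f.toFinset by ext; simp, hcardf, Nat.cast_mul, mul_assoc]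
      exact Cong.refl _ _
  have hun : Cong M (2 ^ (N - 1 - a - v)) ((w : ℂ) * (E.coeff 1 : ℂ)) ((u : ℂ) * n) := by
    refine Cong.div_natCast hM (c := 2 ^ v) (by omega) (by positivity)
      (by rw [Nat.Prime.factorization_pow Nat.prime_two, Finsupp.single_eq_same]) ?_
    rw [← mul_assoc, ← mul_assoc, ← Nat.cast_mul, ← Nat.cast_mul, ← hw, ← hu]
    exact hone
  -- the trace is a natural number
  haveI : Nontrivial R' := Ideal.Quotient.nontrivial_iff.2 fun htop => by
    rw [Ideal.span_singleton_eq_top, isUnit_pow_iff (by omega : N ≠ 0)] at htop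
    have h := htop.map (residue M)
    rw [map_natCast] at h
    haveI := Blocks.charP_residue hM
    rw [CharP.cast_eq_zero] at h
    exact not_isUnit_zero h
  haveI : IsLocalRing R' := IsLocalRing.of_surjective' (Ideal.Quotient.mk _) Ideal.Quotient.mk_surjective
  obtain ⟨r, hr, -⟩ := Contrib.exists_rank_bound (IsLocalRing.residue R')
    (Contrib.regMatrix_mul_self (e := Ē) hidem.eq)
  have hrK : Cong M (2 ^ N) ((Nat.card K : ℂ) * (E.coeff 1 : ℂ)) (r : ℂ) := by
    rw [Contrib.trace_regMatrix] at hr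
    simp only [Ē, hEbar, coeff_mapRingHom] at hr
    rw [← map_natCast (Ideal.Quotient.mk _), ← map_natCast (Ideal.Quotient.mk _) r, ← map_mul,
      Ideal.Quotient.eq, Ideal.mem_span_singleton] at hr
    obtain ⟨o, ho⟩ := hr
    have ho' := congrArg (fun z : localRing M => (z : ℂ)) ho
    refine ⟨o, o.2, ?_⟩
    push_cast at ho' ⊢
    exact ho'
  obtain ⟨r', rfl⟩ : 2 ^ v ∣ r := by
    obtain ⟨o, ho, e⟩ := hrK
    have h := Star.pow_dvd_of_eq_mul hM v (m := (r : ℤ))
      (o := (w : ℂ) * (E.coeff 1 : ℂ) - ((2 ^ (N - v) : ℕ) : ℂ) * o)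
      (sub_mem (mul_mem (natCast_mem _ _) (E.coeff 1).2) (mul_mem (natCast_mem _ _) ho)) (by
        have hw' : (Nat.card K : ℂ) = (2 : ℂ) ^ v * (w : ℂ) := by exact_mod_cast hw
        have h2N : (2 : ℂ) ^ N = 2 ^ v * 2 ^ (N - v) := by
          rw [← pow_add, Nat.add_sub_cancel' (by omega : v ≤ N)]
        push_cast at e ⊢
        rw [hw', h2N] at e
        linear_combination -e)
    exact_mod_cast h
  have hwr : Cong M (2 ^ (N - v)) ((w : ℂ) * (E.coeff 1 : ℂ)) (r' : ℂ) := by
    refine Cong.div_natCast hM (c := 2 ^ v) (by omega) (by positivity)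
      (by rw [Nat.Prime.factorization_pow Nat.prime_two, Finsupp.single_eq_same]) ?_
    rw [← mul_assoc, ← Nat.cast_mul, ← hw, ← Nat.cast_mul]
    exact hrK
  have hE1 : ¬ MemLocalIdeal M (E.coeff 1 : ℂ) := fun h => h1 (Blocks.residue_eq_zero_iff.2 h)
  have hw' : ¬ MemLocalIdeal M (w : ℂ) := fun h => hw2 ((Blocks.memLocalIdeal_natCast_iff hM w).1 h)
  have hodd : ¬ 2 ∣ r' := fun h => by
    obtain ⟨o, ho, e⟩ := hwr
    refine Blocks.not_memLocalIdeal_mul (mem_localRing.1 (natCast_mem _ w)) (mem_localRing.1 (E.coeff 1).2)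
      hw' hE1 ?_
    rw [← sub_add_cancel ((w : ℂ) * (E.coeff 1 : ℂ)) (r' : ℂ)]
    refine Blocks.memLocalIdeal_add ?_ ((Blocks.memLocalIdeal_natCast_iff hM _).2 h)
    rw [e]
    exact Blocks.memLocalIdeal_mul_right ((Blocks.memLocalIdeal_natCast_iff hM _).2
      (dvd_pow_self 2 (by omega : N - v ≠ 0))) (mem_localRing.1 ho)
  refine ⟨n, hSint χ₀, ?_, fun θ => ?_⟩
  · have h4 : Cong M 4 ((u : ℂ) * n) (r' : ℂ) :=
      ((hun.symm.mono (by omega : (2 : ℕ) ≤ N - 1 - a - v)).trans
        (hwr.mono (by omega : (2 : ℕ) ≤ N - v)) : Cong M (2 ^ 2) _ _)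
    have huu : Cong M 4 (((u * u : ℕ) : ℂ) * n) n := by
      obtain ⟨c, hc⟩ : 4 ∣ u * u - 1 := by
        obtain ⟨k, rfl⟩ : ∃ k, u = 2 * k + 1 := ⟨u / 2, by omega⟩
        exact ⟨k * k + k, by ring_nf; omega⟩
      have hpos : 0 < u * u := Nat.mul_pos (by omega) (by omega)
      rw [show u * u = 4 * c + 1 by omega]
      exact ⟨(c : ℂ) * n, mul_mem (natCast_mem _ _) (hSint χ₀), by push_cast; ring⟩
    have hn4 : Cong M 4 n ((u * r' : ℕ) : ℂ) := by
      refine huu.symm.trans ?_
      push_cast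
      rw [mul_assoc]
      exact h4.mul_left (natCast_mem _ _)
    have hodd' : ¬ 2 ∣ u * r' := fun h => (Nat.prime_two.dvd_mul.1 h).elim hu2 hodd
    set z := u * r'
    rcases (show z % 4 = 1 ∨ z % 4 = 3 by omega) with hz | hz
    · refine ⟨1, Or.inl rfl, hn4.trans ⟨((z / 4 : ℕ) : ℂ), natCast_mem _ _, ?_⟩⟩
      conv_lhs => rw [show z = 4 * (z / 4) + 1 by omega]
      push_cast; ring
    · refine ⟨-1, Or.inr rfl, hn4.trans ⟨((z / 4 + 1 : ℕ) : ℂ), natCast_mem _ _, ?_⟩⟩
      conv_lhs => rw [show z = 4 * (z / 4) + 3 by omega]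
      push_cast; ring
  · split_ifs with h
    · exact (hin θ h).mono (by omega)
    · exact (hout θ h).mono (by omega)

end Cfsg.Agent.Lib.FreeInertia
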