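import Mathlib
import Cfsg.Agent.Lib.FreeInertia.TwoRank
import Cfsg.Agent.Lib.FreeInertia.Columns
import Cfsg.Agent.Lib.NilBlock.Main

/-!
# The sign function of a nilpotent block and Galois invariant functions modulo four

The columns of a nilpotent block with abelian defect group are a sign times a linear character, and
a Galois invariant function in the span on an abelian two-group has vanishing four-term sums
modulo four.
-/

set_option autoImplicit false
set_option linter.unusedSectionVars false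

namespace Cfsg.Agent.Lib.FreeInertia

open Finset Cfsg Cfsg.Agent.Lib Cfsg.Agent.Lib.BrauerPairs Cfsg.Agent.Lib.AbelianStar
open Cfsg.Agent.Lib.NilBlock (bu bu_fst centralizer_bu con wt)
open Cfsg.Agent.Lib.Blocks (localRing mem_localRing)
open Cfsg.Agent.Lib.Star (Spn)
open scoped ComplexConjugate

universe u

attribute [local instance] Classical.propDecidable

/-- A function on a two-group summing to zero over the cyclic subgroups, weighted by a function of
the generated subgroup, sums to zero. -/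
theorem cong_sum_of_cyclic {A : Type u} [CommGroup A] [Finite A] [Fintype A] {M : Ideal AlgInt}
    [M.IsPrime] (hord : ∀ g : A, ∃ j, orderOf g = 2 ^ j) {a F : A → ℂ} (haR : ∀ l, a l ∈ localRing M)
    (horb : ∀ (l : A) (k : ℕ), k.Coprime 2 → a (l ^ k) = a l) (hF1 : Cong M 4 (F 1) 0)
    (hA : ∀ g : A, Cong M 4 (∑ m : Subgroup.zpowers g, F (m : A)) 0) :
    Cong M 4 (∑ l, a l * F l) 0 := by
  haveI : Finite (Subgroup A) := Finite.of_injective _ SetLike.coe_injective
  haveI := Fintype.ofFinite (Subgroup A)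
  rw [← Finset.sum_fiberwise univ (fun l : A => Subgroup.zpowers l) fun l => a l * F l]
  have h := Cong.sum (M := M) (N := 4) univ
    (f := fun H : Subgroup A => ∑ l ∈ univ.filter (fun l => Subgroup.zpowers l = H), a l * F l)
    (g := fun _ => 0) fun H _ => ?_
  · simpa using h
  by_cases hne : (univ.filter fun l : A => Subgroup.zpowers l = H).Nonempty
  swap
  · rw [Finset.not_nonempty_iff_eq_empty.1 hne, Finset.sum_empty]; exact Cong.refl _ _
  obtain ⟨g, hg⟩ := hne
  obtain rfl := (Finset.mem_filter.1 hg).2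
  obtain ⟨j, hj⟩ := hord g
  rcases eq_or_ne g 1 with rfl | hg1
  · rw [show (univ.filter fun l : A => Subgroup.zpowers l = Subgroup.zpowers 1) = {1} by
      ext l; simp [Subgroup.zpowers_one_eq_bot], Finset.sum_singleton]
    simpa using hF1.mul_left (haR 1)
  have hj0 : j ≠ 0 := fun h => hg1 (orderOf_eq_one_iff.1 (by rw [hj, h, pow_zero]))
  have hgen : ∀ k : ℕ, Subgroup.zpowers (g ^ k) = Subgroup.zpowers g ↔ k.Coprime 2 := by
    intro k
    constructor
    · intro h
      refine Nat.Coprime.symm (Nat.prime_two.coprime_iff_not_dvd.2 fun ⟨c, hc⟩ => ?_)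
      have hle : Subgroup.zpowers g ≤ Subgroup.zpowers (g ^ 2) := by
        rw [← h, hc, pow_mul]
        exact Subgroup.zpowers_le.2 (pow_mem (Subgroup.mem_zpowers _) c)
      have := Subgroup.card_le_of_le hle
      rw [Nat.card_zpowers, Nat.card_zpowers, orderOf_pow, hj,
        Nat.gcd_eq_right (dvd_pow_self 2 hj0)] at this
      have : 0 < 2 ^ j := by positivity
      omega
    · intro hk
      refine Subgroup.eq_of_le_of_card_ge
        (Subgroup.zpowers_le.2 (pow_mem (Subgroup.mem_zpowers g) k)) ?_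
      rw [Nat.card_zpowers, Nat.card_zpowers, orderOf_pow, hj,
        (Nat.Coprime.pow_left j hk.symm).gcd_eq_one, Nat.div_one]
  have hfilter : (univ.filter fun l : A => Subgroup.zpowers l = Subgroup.zpowers g) =
      (univ.filter fun l => l ∈ Subgroup.zpowers g) \
        (univ.filter fun l => l ∈ Subgroup.zpowers (g ^ 2)) := by
    ext l
    simp only [Finset.mem_filter, Finset.mem_univ, true_and, Finset.mem_sdiff]
    constructor
    · intro hl
      refine ⟨hl ▸ Subgroup.mem_zpowers l, fun h => ?_⟩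
      obtain ⟨c, hc⟩ := (mem_powers_iff_mem_zpowers (x := g ^ 2) (y := l)).2 h
      simp only at hc
      rw [← hc, ← pow_mul] at hl
      exact (Nat.prime_two.coprime_iff_not_dvd.1 ((hgen _).1 hl).symm) (dvd_mul_right 2 c)
    · rintro ⟨hlH, hl2⟩
      obtain ⟨k, hk⟩ := (mem_powers_iff_mem_zpowers (x := g) (y := l)).2 hlH
      simp only at hk
      subst hk
      refine (hgen k).2 (Nat.Coprime.symm (Nat.prime_two.coprime_iff_not_dvd.2 fun ⟨c, hc⟩ => hl2 ?_))
      rw [hc, pow_mul]
      exact pow_mem (Subgroup.mem_zpowers _) c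
  rw [Finset.sum_congr rfl (g := fun l => a g * F l) fun l hl => ?_, ← Finset.mul_sum]
  swap
  · obtain ⟨k, hk⟩ := (mem_powers_iff_mem_zpowers (x := g) (y := l)).2
      ((Finset.mem_filter.1 hl).2 ▸ Subgroup.mem_zpowers l)
    simp only at hk
    subst hk
    rw [horb g k ((hgen k).1 (Finset.mem_filter.1 hl).2)]
  have hsub : ∀ K : Subgroup A, ∑ l ∈ univ.filter (fun l => l ∈ K), F l = ∑ m : K, F (m : A) :=
    fun K => Finset.sum_subtype _ (fun l => by simp) F
  suffices hg4 : Cong M 4 (∑ l ∈ univ.filter (fun l => Subgroup.zpowers l = Subgroup.zpowers g), F l) 0 by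
    simpa using hg4.mul_left (haR g)
  rw [hfilter, Finset.sum_sdiff_eq_sub (fun l hl => Finset.mem_filter.2 ⟨Finset.mem_univ _,
    (Subgroup.zpowers_le.2 (pow_mem (Subgroup.mem_zpowers g) 2) : Subgroup.zpowers (g ^ 2) ≤ _)
      (Finset.mem_filter.1 hl).2⟩), hsub, hsub]
  simpa [sub_eq_add_neg] using (hA g).add (hA (g ^ 2)).neg

/-- Galois invariant functions in the span have four-term sums divisible by four. -/
theorem spn_four {P : Type u} [CommGroup P] [Finite P] {M : Ideal AlgInt} [M.IsPrime] {n : ℕ}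
    (hn : Nat.card P = 2 ^ n) {w : P → ℂ} (hw : Spn (localRing M) w)
    (hgal : ∀ k : ℕ, k.Coprime 2 → ∀ v, w (v ^ k) = w v) (x y : P) :
    Cong M 4 (w 1 + w x + w y + w (x * y)) 0 := by
  cases nonempty_fintype P
  haveI : Finite (P →* ℂˣ) := Finite.of_injective _ Chars.linIrr_injective
  haveI := Fintype.ofFinite (P →* ℂˣ)
  rw [Star.spn_iff] at hw
  set a : (P →* ℂˣ) → ℂ := fun l => classInner w (fun v => (l v : ℂ)) with ha
  have haR : ∀ l, a l ∈ localRing M := fun l => hw.2 (Chars.linIrr l)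
  have hexp : ∀ v, w v = ∑ l : P →* ℂˣ, a l * (l v : ℂ) := fun v => by
    rw [Chars.isClassFunction_apply_eq_sum_classInner hw.1 v]
    refine (Fintype.sum_bijective Chars.linIrr ⟨Chars.linIrr_injective, fun ψ => ?_⟩ _ _
      fun l => rfl).symm
    obtain ⟨l, hl⟩ := exists_eq_hom mul_comm ψ
    exact ⟨l, Subtype.ext hl.symm⟩
  have horb : ∀ (l : P →* ℂˣ) (k : ℕ), k.Coprime 2 → a (l ^ k) = a l := by
    intro l k hk
    have hcop : (Nat.card P).Coprime k := by rw [hn]; exact (Nat.Coprime.pow_right n hk).symm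
    simp only [ha, classInner, MonoidHom.pow_apply]
    congr 1
    symm
    refine (Fintype.sum_equiv (powCoprime hcop) _ _ fun v => ?_).symm
    show w v * conj ((l v ^ k : ℂˣ) : ℂ) = w (v ^ k) * conj (l (v ^ k) : ℂ)
    rw [map_pow, hgal k hk v]
  set F : (P →* ℂˣ) → ℂ := fun l => (1 + (l x : ℂ)) * (1 + (l y : ℂ)) with hF
  have hFR : ∀ l, F l ∈ localRing M := fun l =>
    mul_mem (add_mem (one_mem _) (hom_mem_localRing l x)) (add_mem (one_mem _) (hom_mem_localRing l y))
  have hsum : w 1 + w x + w y + w (x * y) = ∑ l : P →* ℂˣ, a l * F l := by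
    simp only [hexp, ← Finset.sum_add_distrib, hF]
    refine Finset.sum_congr rfl fun l _ => ?_
    simp only [map_one, map_mul, Units.val_one, Units.val_mul]
    ring
  have hord : ∀ g : P →* ℂˣ, ∃ j, orderOf g = 2 ^ j := fun g => by
    have h : orderOf g ∣ 2 ^ n := hn ▸ orderOf_dvd_of_pow_eq_one (MonoidHom.ext fun v => by
      rw [MonoidHom.pow_apply, ← map_pow, pow_card_eq_one', map_one, MonoidHom.one_apply])
    obtain ⟨j, -, hj⟩ := (Nat.dvd_prime_pow Nat.prime_two).1 h
    exact ⟨j, hj⟩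
  -- sums over cyclic subgroups
  have hA : ∀ g : P →* ℂˣ,
      Cong M 4 (∑ m : Subgroup.zpowers g, F (m : P →* ℂˣ)) 0 := by
    intro g
    obtain ⟨j, hj⟩ := hord g
    rcases le_or_gt 2 j with h2 | h2
    · have hcard : 4 ∣ Nat.card (Subgroup.zpowers g) := by
        rw [Nat.card_zpowers, hj]; exact pow_dvd_pow 2 h2
      let ev : P → (Subgroup.zpowers g →* ℂˣ) := fun v =>
        { toFun := fun m => (m : P →* ℂˣ) v
          map_one' := rfl
          map_mul' := fun _ _ => rfl }
      have hev : ∀ v, Cong M 4 (∑ m : Subgroup.zpowers g, ((m : P →* ℂˣ) v : ℂ)) 0 := by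
        intro v
        rw [show (∑ m : Subgroup.zpowers g, ((m : P →* ℂˣ) v : ℂ)) =
          ∑ m : Subgroup.zpowers g, (ev v m : ℂ) from rfl]
        by_cases h : ev v = 1
        · obtain ⟨c, hc⟩ := hcard
          refine ⟨c, natCast_mem _ _, ?_⟩
          simp only [h, MonoidHom.one_apply, Units.val_one, Finset.sum_const, Finset.card_univ,
            Fintype.card_eq_nat_card, nsmul_eq_mul, mul_one, hc, sub_zero]
          push_cast; ring
        · obtain ⟨z, hz⟩ : ∃ z, ev v z ≠ 1 := not_forall.1 fun h' => h (MonoidHom.ext h')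
          rw [show (∑ m : Subgroup.zpowers g, (ev v m : ℂ)) = 0 from
            eq_zero_of_mul_eq_self_left (b := (ev v z : ℂ)) (fun h' => hz (Units.ext h')) (by
              rw [Finset.mul_sum]
              exact Fintype.sum_bijective (z * ·) (Group.mulLeft_bijective z) _ _ fun m => by simp)]
          exact Cong.refl _ _
      have e : ∑ m : Subgroup.zpowers g, F (m : P →* ℂˣ) =
          ∑ v ∈ ({1} : Finset ℕ), ((∑ m : Subgroup.zpowers g, ((m : P →* ℂˣ) 1 : ℂ)) +
            (∑ m : Subgroup.zpowers g, ((m : P →* ℂˣ) x : ℂ)) +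
            (∑ m : Subgroup.zpowers g, ((m : P →* ℂˣ) y : ℂ)) +
            ∑ m : Subgroup.zpowers g, ((m : P →* ℂˣ) (x * y) : ℂ)) := by
        simp only [Finset.sum_singleton, ← Finset.sum_add_distrib]
        refine Finset.sum_congr rfl fun m _ => ?_
        simp only [hF, map_one, map_mul, Units.val_one, Units.val_mul]
        ring
      rw [e, Finset.sum_singleton]
      simpa using (((hev 1).add (hev x)).add (hev y)).add (hev (x * y))
    · have h := Cong.sum (M := M) (N := 4) univ (f := fun m : Subgroup.zpowers g => F (m : P →* ℂˣ))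
        (g := fun _ => 0) fun m _ => ?_
      · simpa using h
      have hm : (m : P →* ℂˣ) ^ 2 = 1 := by
        obtain ⟨i, hi⟩ := (mem_powers_iff_mem_zpowers (x := g) (y := (m : P →* ℂˣ))).2 m.2
        have hg : g ^ 2 = 1 := orderOf_dvd_iff_pow_eq_one.1 (hj ▸ pow_dvd_pow 2 (by omega : j ≤ 1))
        simp only at hi
        rw [← hi, ← pow_mul, mul_comm, pow_mul, hg]; exact one_pow (M := P →* ℂˣ) i
      have hv : ∀ v, ((m : P →* ℂˣ) v : ℂ) = 1 ∨ ((m : P →* ℂˣ) v : ℂ) = -1 := fun v => by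
        refine sq_eq_one_iff.1 ?_
        rw [← Units.val_pow_eq_pow_val, ← MonoidHom.pow_apply, hm, MonoidHom.one_apply, Units.val_one]
      simp only [hF]
      rcases hv x with h1 | h1 <;> rcases hv y with h3 | h3 <;> rw [h1, h3]
      · exact ⟨1, one_mem _, by norm_num⟩
      all_goals exact ⟨0, zero_mem _, by norm_num⟩
  -- grouping by generated subgroups
  rw [hsum]
  exact cong_sum_of_cyclic hord haR horb ⟨1, one_mem _, by simp [hF]; norm_num⟩ hA

variable {G : Type u} [Group G] [Fintype G] [Fact (Nat.Prime 2)] {M : Ideal AlgInt} [M.IsPrime]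
  {B : Set (IrrCharacter G)} {b : BrauerPairIdx G}
  (hM : IsPModular 2 M) (hmax : IsMaximalBrauerPair 2 M B b.1 b.2)
  (hab : ∀ x ∈ b.1, ∀ y ∈ b.1, x * y = y * x) (hnil : IsNilpotentBlock 2 M B)

include hM hmax hab hnil in
theorem val_eq_zero_of_notMem {χ : IrrCharacter G} (hχ : χ ∉ B) {v : G} (hv : v ∈ b.1) :
    val 2 M b χ v = 0 := by
  have hn := NilBlock.isNilpotentBlock_bu hM hmax hnil hv
  obtain ⟨ξ, hξ⟩ := Blocks.isPBlock_nonempty hn.1
  have h := Contrib.secCoef_eq_zero hM
    ((NilBlock.exists_orderOf_eq hM hmax hv).imp fun _ => id) (centralizer_bu v)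
    (NilBlock.isInducedBlock_bu hM hmax hv) hχ hξ
  rw [secCoef_eq_val hM hmax hab hv hn χ hξ, div_eq_zero_iff] at h
  exact h.resolve_right Chars.natCard_ne_zero

include hM hmax hab hnil in
/-- The columns are a common Galois invariant sign times functions in the span. -/
theorem exists_form : ∃ s : b.1 → ℤ, (∀ v, s v = 1 ∨ s v = -1) ∧
    (∀ k : ℕ, k.Coprime (Nat.card G) → ∀ v, s (v ^ k) = s v) ∧
    (∃ η₀ ∈ B, ∃ μ : b.1 →* ℂˣ, ∀ v : b.1, val 2 M b η₀ (v : G) = (s v : ℂ) * (μ v : ℂ)) ∧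
    ∀ η : IrrCharacter G, ∃ l : b.1 → ℂ, Spn (localRing M) l ∧
      ∀ v : b.1, val 2 M b η (v : G) = (s v : ℂ) * l v := by
  obtain ⟨χ₀, hχ₀, h0⟩ := Blocks.exists_height_zero (p := 2) hnil.1
  have hr : ∀ w ∈ b.1, w ∉ Subgroup.center G → blockRank 2 (bu 2 M b w).2 = 1 := fun w hw _ =>
    NilBlock.blockRank_bu hM hmax hnil hw
  have hcomm : ∀ x y : b.1, x * y = y * x := fun x y => Subtype.ext (hab _ x.2 _ y.2)
  letI : CommGroup b.1 := { (inferInstance : Group b.1) with mul_comm := hcomm }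
  have hn : ∀ v : b.1, IsNilpotentBlock 2 M (bu 2 M b (v : G)).2 := fun v =>
    NilBlock.isNilpotentBlock_bu hM hmax hnil v.2
  have hwt : ∀ (v : b.1) (φ ψ : IrrCharacter G),
      wt 2 M b v φ ψ = val 2 M b φ v * conj (val 2 M b ψ v) := fun v φ ψ => by
    rw [wt, con_eq_val hM hmax hab v.2 (hn v)]
    have : b.1 ⊓ Subgroup.centralizer ({(v : G)} : Set G) = b.1 := inf_eq_left.2 fun g hg =>
      Subgroup.mem_centralizer_singleton_iff.2 (hab g hg _ v.2)
    rw [show Nat.card (b.1 ⊓ Subgroup.centralizer ({(v : G)} : Set G) : Subgroup G) = Nat.card b.1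
      from congrArg (fun H : Subgroup G => Nat.card H) this]
    have : (Nat.card b.1 : ℂ) ≠ 0 := Chars.natCard_ne_zero
    field_simp
  set U : b.1 → ℂ := fun v => val 2 M b χ₀ (v : G) with hU
  have hU1 : ∀ v, U v * conj (U v) = 1 := fun v => by
    rw [hU, ← hwt, NilBlock.wt_self_eq_one hM hmax hnil hr hχ₀ h0 v.2]
  have hU0 : ∀ v, U v ≠ 0 := fun v h => by simpa [h] using hU1 v
  obtain ⟨Φ, hΦ⟩ := NilBlock.exists_rows hM hmax hnil hr hχ₀ h0
  have hrow : ∀ η ∈ B, ∃ (ε : ℤ) (l : b.1 →* ℂˣ), ε ^ 2 = 1 ∧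
      ∀ v : b.1, val 2 M b η (v : G) = (ε : ℂ) * (l v : ℂ) * U v := by
    intro η hη
    obtain ⟨L, hL⟩ : ∃ L, (Φ L : IrrCharacter G) = η :=
      ⟨Φ.symm ⟨η, hη⟩, congrArg Subtype.val (Φ.apply_symm_apply _)⟩
    obtain ⟨ε, hε, hv⟩ := hΦ L
    obtain ⟨l, hl⟩ := exists_eq_hom hcomm L
    refine ⟨ε, l, hε, fun v => ?_⟩
    have h := hv v
    rw [hL, hwt, hl] at h
    calc val 2 M b η (v : G) = val 2 M b η (v : G) * conj (U v) * U v := by
          rw [mul_assoc, mul_comm (conj (U v)), hU1, mul_one]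
      _ = _ := by rw [h]
  -- the square of the column
  obtain ⟨k, hk, hkv⟩ := exists_conj_twist hM hmax hab
  have hmem : PowMap.powIrr hk χ₀ ∈ B := by
    by_contra h
    have h1 := val_eq_zero_of_notMem hM hmax hab hnil h (one_mem b.1)
    rw [hkv χ₀ (one_mem _) (hn 1), map_eq_zero] at h1
    exact hU0 1 h1
  obtain ⟨ε, lam, hε, hlam⟩ := hrow _ hmem
  have hconj : ∀ v : b.1, conj (U v) = (ε : ℂ) * (lam v : ℂ) * U v := fun v => by
    rw [← hlam v, hkv χ₀ v.2 (hn v)]
  have hreal : ∀ v : b.1, v * v = 1 → conj (U v) = U v := fun v hv => by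
    have hinv : (v : G)⁻¹ = v := inv_eq_of_mul_eq_one_right (congrArg Subtype.val hv)
    rw [hU]
    show conj (val 2 M b χ₀ (v : G)) = _
    rw [← vAt_inv hM hmax hab, hinv]
    rfl
  have hε1 : (ε : ℂ) = 1 := by
    have h := hconj 1
    rw [hreal 1 (one_mul 1), map_one, Units.val_one, mul_one] at h
    exact (mul_eq_right₀ (hU0 1)).1 h.symm
  simp only [hε1, one_mul] at hconj
  have hsq : ∀ v, (lam⁻¹ v : ℂ) = U v ^ 2 := fun v => by
    have h := hU1 v
    rw [hconj] at h
    rw [MonoidHom.inv_apply, Units.val_inv_eq_inv_val]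
    exact inv_eq_of_mul_eq_one_right (by linear_combination h)
  let sq : b.1 →* b.1 := powMonoidHom 2
  have hker : sq.rangeRestrict.ker ≤ (lam⁻¹).ker := by
    intro v hv
    rw [MonoidHom.ker_rangeRestrict, MonoidHom.mem_ker] at hv
    have hv' : v * v = 1 := by rw [← pow_two]; exact hv
    refine Units.ext ?_
    rw [hsq, pow_two, Units.val_one]
    nth_rewrite 2 [← hreal v hv']
    exact hU1 v
  let ν := sq.rangeRestrict.liftOfSurjective sq.rangeRestrict_surjective ⟨lam⁻¹, hker⟩
  haveI : NeZero (Monoid.exponent b.1) := ⟨Monoid.exponent_ne_zero_of_finite⟩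
  obtain ⟨μ, hμ⟩ := MonoidHom.domRestrict_surjective ℂ sq.range ν
  have hμ2 : ∀ v, (μ v : ℂ) ^ 2 = U v ^ 2 := fun v => by
    rw [← hsq, ← Units.val_pow_eq_pow_val, ← map_pow]
    congr 1
    have h1 := DFunLike.congr_fun hμ (sq.rangeRestrict v)
    rw [MonoidHom.liftOfRightInverse_comp_apply] at h1
    exact h1
  set s : b.1 → ℤ := fun v => if U v = (μ v : ℂ) then 1 else -1
  have hsv : ∀ v, U v = (s v : ℂ) * (μ v : ℂ) := fun v => by
    simp only [s]
    split_ifs with h
    · simp [h]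
    · rcases sq_eq_sq_iff_eq_or_eq_neg.1 (hμ2 v) with h' | h'
      · exact absurd h'.symm h
      · simp [h']
  have hs : ∀ v, s v = 1 ∨ s v = -1 := fun v => by simp only [s]; split_ifs <;> simp
  refine ⟨s, hs, fun k hk v => ?_, ⟨χ₀, hχ₀, μ, hsv⟩, fun η => ?_⟩
  · obtain ⟨σ, hσ⟩ := GaloisChar.exists_ringEquiv_pow (m := Nat.card G) Nat.card_pos hk
    have hcop : (orderOf (v : G)).Coprime k :=
      (Nat.Coprime.coprime_dvd_right (orderOf_dvd_natCard (v : G)) hk).symm
    have hσU : σ (U v) = U (v ^ k) := by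
      simp only [hU, SubmonoidClass.coe_pow]
      rw [val, val, NilBlock.bu_pow hM hmax.1.1 v.2 hcop, vAt, vAt, map_sum]
      refine Finset.sum_congr rfl fun η _ => ?_
      rw [map_mul, dif_pos (self_mem_centralizer (v : G)),
        dif_pos (pow_mem (self_mem_centralizer (v : G)) k), map_div₀]
      obtain ⟨n, hn⟩ := Chars.isCharacter_classInner_nat
        (Chars.isCharacter_restrict (Subgroup.centralizer ((bu 2 M b (v : G)).1 : Set G))
          (Chars.irr_isCharacter χ₀)) (Chars.irr_isCharacter η)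
      rw [hn, map_natCast]
      have hσK : ∀ ζ : ℂ, ζ ^ Nat.card (Subgroup.centralizer ((bu 2 M b (v : G)).1 : Set G)) = 1 →
          σ ζ = ζ ^ k := fun ζ hζ => hσ ζ (by
        obtain ⟨c, hc⟩ := Subgroup.card_subgroup_dvd_card
          (Subgroup.centralizer ((bu 2 M b (v : G)).1 : Set G))
        rw [hc, pow_mul, hζ, one_pow])
      have hd := (Blocks.HeightZero.charDegree_eq η).1
      rw [← hd, map_natCast]
      refine congrArg (fun z => (n : ℂ) * (z / _)) ?_
      exact (PowMap.char_pow_eq_gal (σ : ℂ →+* ℂ) hσK (Chars.irr_isCharacter η)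
        ⟨(v : G), self_mem_centralizer (v : G)⟩).symm
    have hσμ : σ (μ v : ℂ) = (μ (v ^ k) : ℂ) := by
      rw [map_pow, Units.val_pow_eq_pow_val]
      refine hσ _ ?_
      obtain ⟨c, hc⟩ := Subgroup.card_subgroup_dvd_card b.1
      rw [← Units.val_pow_eq_pow_val, ← map_pow, hc, pow_mul, pow_card_eq_one', one_pow, map_one,
        Units.val_one]
    have h := congrArg σ (hsv v)
    rw [hσU, hsv (v ^ k), map_mul, map_intCast, hσμ] at h
    exact_mod_cast mul_right_cancel₀ (Units.ne_zero _) h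
  · by_cases hη : η ∈ B
    · obtain ⟨ε, l, -, hl⟩ := hrow η hη
      refine ⟨fun v => (ε : ℂ) * ((l v : ℂ) * (μ v : ℂ)),
        Star.spn_mul (Star.spn_const (intCast_mem _ _)) (Star.spn_mul (spn_hom l) (spn_hom μ)),
        fun v => ?_⟩
      rw [hl, hsv]
      ring
    · exact ⟨0, Star.spn_zero, fun v => by
        simp [val_eq_zero_of_notMem hM hmax hab hnil hη v.2]⟩

end Cfsg.Agent.Lib.FreeInertia
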