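import Mathlib
import Cfsg.Agent.Lib.Star.Local
import Cfsg.Agent.Lib.Blocks.ResidueAlgebra
import Cfsg.Agent.Lib.Blocks.BlockOrth
import Cfsg.Agent.Lib.Contrib.BlockTwo

/-!
# A local idempotent with nonzero coefficient at the identity

The local idempotent of a pair can be shrunk to an idempotent that is still below the pair and has
a unit coefficient at the identity.
-/

set_option autoImplicit false
set_option linter.unusedSectionVars false

namespace Cfsg.Agent.Lib.FreeInertia

open Finset Cfsg MonoidAlgebra Cfsg.Agent.Lib Cfsg.Agent.Lib.BrauerPairs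
open Cfsg.Agent.Lib.Blocks (Residue localRing residue toF blockIdem)
open Cfsg.Agent.Lib.Blocks.ResidueAlgebra
open Cfsg.Agent.Lib.Blocks.HarrisKnorr (redBlock)

universe u

attribute [local instance] Classical.propDecidable

/-- An idempotent multiple killing a power. -/
theorem exists_idem_poly {k : Type*} [Field k] {A : Type*} [Ring A] [Algebra k A]
    [FiniteDimensional k A] (a : A) :
    ∃ w ∈ Algebra.adjoin k ({a} : Set A), IsIdempotentElem (a * w) ∧
      ∃ n : ℕ, a ^ (n + 1) * (1 - a * w) = 0 := by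
  set q₀ : Polynomial k := Polynomial.X * minpoly k a with hq₀
  have hne : q₀ ≠ 0 := mul_ne_zero Polynomial.X_ne_zero (minpoly.ne_zero (IsIntegral.of_finite k a))
  obtain ⟨q, hq, hqndvd⟩ := Polynomial.exists_eq_pow_rootMultiplicity_mul_and_not_dvd q₀ hne 0
  set n := q₀.rootMultiplicity 0 with hn
  simp only [map_zero, sub_zero] at hq hqndvd
  have hnpos : 0 < n := (Polynomial.rootMultiplicity_pos hne).2 (by simp [hq₀, Polynomial.IsRoot])
  obtain ⟨m, hm⟩ : ∃ m, n = m + 1 := ⟨n - 1, by omega⟩
  obtain ⟨u, v, huv⟩ : IsCoprime (Polynomial.X ^ n) q :=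
    ((Polynomial.irreducible_X.coprime_iff_not_dvd).2 hqndvd).pow_left
  have hzero : Polynomial.aeval a q₀ = 0 := by rw [hq₀, map_mul, minpoly.aeval, mul_zero]
  have he : a * Polynomial.aeval a (u * Polynomial.X ^ m) =
      Polynomial.aeval a (u * Polynomial.X ^ n) := by
    conv_lhs => arg 1; rw [← Polynomial.aeval_X (R := k) a]
    rw [← map_mul]
    exact congrArg (Polynomial.aeval a) (by rw [hm, pow_succ]; ring)
  have hkill : ∀ r : Polynomial k, Polynomial.aeval a (r * (Polynomial.X ^ n * q)) = 0 := fun r => by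
    rw [← hq, map_mul, hzero, mul_zero]
  have h1v : 1 - u * Polynomial.X ^ n = v * q := by rw [← huv]; ring
  refine ⟨Polynomial.aeval a (u * Polynomial.X ^ m), Polynomial.aeval_mem_adjoin_singleton k a, ?_,
    m, ?_⟩
  · have h1 := hkill (u * v)
    rw [show u * v * (Polynomial.X ^ n * q) = u * Polynomial.X ^ n * (1 - u * Polynomial.X ^ n) by
      rw [h1v]; ring, mul_sub, mul_one, map_sub, sub_eq_zero] at h1
    rw [IsIdempotentElem, he, ← map_mul]
    exact h1.symm
  · have ha : a ^ n = Polynomial.aeval a (Polynomial.X ^ n : Polynomial k) := by rw [map_pow, Polynomial.aeval_X]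
    rw [he, ← hm, ha]
    have h1 : Polynomial.aeval a (1 - u * Polynomial.X ^ n) =
        1 - Polynomial.aeval a (u * Polynomial.X ^ n) := by
      rw [map_sub, map_one]
    rw [← h1, ← map_mul, h1v,
      show Polynomial.X ^ n * (v * q) = v * (Polynomial.X ^ n * q) by ring]
    exact hkill v

variable {M : Ideal AlgInt} [M.IsPrime] {p : ℕ} [Fact p.Prime]

/-- A block has an idempotent in its algebra with nonzero coefficient at the identity. -/
theorem exists_regular_idem (hM : IsPModular p M) {K : Type u} [Group K] [Finite K]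
    {f : Set (IrrCharacter K)} (hf : IsPBlock M f) :
    ∃ ε : MonoidAlgebra (Residue M) K, ε * ε = ε ∧
      toF M K (blockIdem M hf : MonoidAlgebra (localRing M) K) * ε = ε ∧
      ε * toF M K (blockIdem M hf : MonoidAlgebra (localRing M) K) = ε ∧ ε.coeff 1 ≠ 0 := by
  cases nonempty_fintype K
  haveI := Blocks.charP_residue hM
  haveI := Contrib.isAlgClosed_residue hM
  set e : MonoidAlgebra (Residue M) K := toF M K (blockIdem M hf : MonoidAlgebra (localRing M) K)
  have he2 : e * e = e := by rw [← map_mul, ← MulMemClass.coe_mul, Blocks.blockIdem_mul_self]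
  have hec : ∀ z, z * e = e * z :=
    Subalgebra.mem_center_iff.1 (Blocks.map_mem_center (residue M) (blockIdem M hf).2)
  obtain ⟨g, hg⟩ : ∃ g, e.coeff g ≠ 0 := by
    obtain ⟨χ, hχ⟩ := Blocks.isPBlock_nonempty hf
    by_contra h
    push Not at h
    have h0 : e = 0 := MonoidAlgebra.ext (Finsupp.ext fun g => h g)
    have h1 := Blocks.omegaBar_congr χ (z := blockIdem M hf) (w := 0)
      (h0.trans (map_zero _).symm)
    rw [Blocks.omegaBar_blockIdem, if_pos hχ, map_zero] at h1
    exact one_ne_zero h1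
  have hgreg : ¬ p ∣ orderOf g := fun h => hg (by
    simp only [e, toF, coeff_mapRingHom]
    refine Blocks.residue_eq_zero_iff.2 ?_
    rw [Blocks.coe_coeff_blockIdem hf, Blocks.blockCoeff_eq_zero_of_pSingular hM hf h]
    exact Blocks.memLocalIdeal_zero)
  set m := orderOf g
  haveI : NeZero (m : Residue M) := ⟨fun h => hgreg ((CharP.cast_eq_zero_iff (Residue M) p m).1 h)⟩
  haveI : NeZero m := ⟨(orderOf_pos g).ne'⟩
  obtain ⟨ζ, hζ⟩ := HasEnoughRootsOfUnity.exists_primitiveRoot (Residue M) m
  set x : ℕ → MonoidAlgebra (Residue M) K := fun i => single g (ζ ^ i) with hx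
  set S : ℕ → MonoidAlgebra (Residue M) K := fun i => ∑ j ∈ range m, x i ^ j
  have hxm : ∀ i, x i ^ m = 1 := fun i => by
    simp only [x, single_pow]
    rw [← pow_mul, mul_comm i m, pow_mul, hζ.pow_eq_one, one_pow, pow_orderOf_eq_one, one_def]
  have hxS : ∀ i j, x i ^ j * S i = S i := by
    intro i j
    induction j with
    | zero => simp
    | succ j ih =>
      rw [pow_succ, mul_assoc, show x i * S i = S i from ?_, ih]
      have h := mul_geom_sum (x i) m
      rw [hxm, sub_self, sub_mul, one_mul, sub_eq_zero] at h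
      exact h
  have hSS : ∀ i, S i * S i = (m : Residue M) • S i := fun i => by
    conv_lhs => arg 1; simp only [S]
    rw [Finset.sum_mul, Finset.sum_congr rfl fun j _ => hxS i j, Finset.sum_const, card_range,
      Nat.cast_smul_eq_nsmul]
  have hid : ∀ i, ((m : Residue M)⁻¹ • (S i * e)) * ((m : Residue M)⁻¹ • (S i * e)) =
      (m : Residue M)⁻¹ • (S i * e) := fun i => by
    rw [smul_mul_smul_comm, mul_assoc, ← mul_assoc e, ← hec (S i), mul_assoc (S i) e e, he2,
      ← mul_assoc, hSS, smul_mul_assoc, smul_smul, mul_assoc, inv_mul_cancel₀ (NeZero.ne _), mul_one]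
  have hrec : ∑ i ∈ range m, ζ ^ i * (((m : Residue M)⁻¹ • (S i * e)).coeff 1) = e.coeff g := by
    have hco : ∀ i, ((m : Residue M)⁻¹ • (S i * e)).coeff 1 =
        (m : Residue M)⁻¹ * ∑ j ∈ range m, ζ ^ (i * j) * e.coeff ((g ^ j)⁻¹) := fun i => by
      simp only [coeff_smul, Finsupp.smul_apply, smul_eq_mul, S, Finset.sum_mul, coeff_sum,
        Finsupp.finsetSum_apply, x, single_pow, ← pow_mul, coeff_single_mul_apply, mul_one]
    simp only [hco, Finset.mul_sum]
    rw [Finset.sum_comm]
    have hterm : ∀ j ∈ range m, ∑ i ∈ range m, ζ ^ i * ((m : Residue M)⁻¹ * (ζ ^ (i * j) *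
        e.coeff ((g ^ j)⁻¹))) = if j = m - 1 then e.coeff g else 0 := by
      intro j hj
      rw [Finset.mem_range] at hj
      rw [Finset.sum_congr rfl (g := fun i => (m : Residue M)⁻¹ * e.coeff ((g ^ j)⁻¹) *
        (ζ ^ (j + 1)) ^ i) fun i _ => by rw [← pow_mul, show (j + 1) * i = i + i * j by ring, pow_add]; ring,
        ← Finset.mul_sum]
      split_ifs with h
      · have hj1 : j + 1 = m := by omega
        simp only [hj1, hζ.pow_eq_one, one_pow, Finset.sum_const, card_range, nsmul_eq_mul, mul_one]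
        have hgj : (g ^ j)⁻¹ = g := by
          rw [inv_eq_iff_mul_eq_one, ← pow_succ, hj1, pow_orderOf_eq_one]
        rw [hgj]
        field_simp
        rw [div_self (NeZero.ne _)]
      · have hne : ζ ^ (j + 1) ≠ 1 := hζ.pow_ne_one_of_pos_of_lt (by omega) (by omega)
        rw [geom_sum_eq hne, ← pow_mul, mul_comm (j + 1) m, pow_mul, hζ.pow_eq_one, one_pow,
          sub_self, zero_div, mul_zero]
    rw [Finset.sum_congr rfl hterm, Finset.sum_ite_eq', if_pos (Finset.mem_range.2 (by
      have := NeZero.ne m; omega))]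
  obtain ⟨i, -, hi⟩ := Finset.exists_ne_zero_of_sum_ne_zero (hrec.trans_ne hg)
  refine ⟨(m : Residue M)⁻¹ • (S i * e), hid i, ?_, ?_, right_ne_zero_of_mul hi⟩
  · rw [mul_smul_comm, ← mul_assoc, ← hec (S i), mul_assoc, he2]
  · rw [smul_mul_assoc, mul_assoc, he2]

variable {G : Type u} [Group G] [Finite G] {b : BrauerPairIdx G}

/-- A local idempotent with nonzero coefficient at the identity. -/
theorem exists_local_idem_one (hM : IsPModular p M) (hb : IsPair p M b) :
    ∃ i : MonoidAlgebra (Residue M) G, i ∈ fixedF M b.1 ∧ i * i = i ∧ i.coeff 1 ≠ 0 ∧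
      ∀ a : BrauerPairIdx G, PairLE p M a b → ∀ ha : IsPBlock M a.2,
        cut a.1 i * redBlock ha = cut a.1 i := by
  cases nonempty_fintype G
  set P := b.1
  set C := Subgroup.centralizer (P : Set G)
  obtain ⟨ι, hιR, hιι, hιcut, hbelow⟩ := Star.exists_local_idem hM hb
  obtain ⟨ε₀, hε2, hεl, hεr, hε1⟩ := exists_regular_idem hM hb.2
  set φ : MonoidAlgebra (Residue M) C →+* MonoidAlgebra (Residue M) G :=
    mapDomainRingHom (Residue M) C.subtype
  set ε := φ ε₀
  have hec : redBlock hb.2 = φ (toF M C (blockIdem M hb.2 : MonoidAlgebra (localRing M) C)) :=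
    BrauerMap.toF_emb _ _
  have hεC : SuppIn C ε := by
    intro x hx
    by_contra h
    refine hx ?_
    show (MonoidAlgebra.mapDomain C.subtype ε₀).coeff x = 0
    rw [coeff_mapDomain]
    exact Finsupp.mapDomain_notin_range _ _ fun ⟨c, hc⟩ => h (hc ▸ c.2)
  have hεR : ε ∈ fixedF M P := by
    refine Subring.mem_centralizer_iff.2 ?_
    rintro _ ⟨s, hs, rfl⟩
    simp only [ε, φ]
    clear * - hs
    induction ε₀ using MonoidAlgebra.induction_linear with
    | zero => simp
    | add x y hx hy => rw [map_add, mul_add, add_mul, hx, hy]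
    | single c r =>
      simp only [mapDomainRingHom_apply, mapDomain_single, single_mul_single, Subgroup.coe_subtype,
        mul_one, one_mul]
      rw [Subgroup.mem_centralizer_iff.1 c.2 s hs]
  set a := ι * ε * ι
  have haR : a ∈ fixedF M P := mul_mem (mul_mem hιR hεR) hιR
  have hcuta : cut P a = ε := by
    rw [cut_mul hM hb.1 (mul_mem hιR hεR) hιR, cut_mul hM hb.1 hιR hεR, hιcut,
      cut_of_suppIn hεC, hec, ← map_mul, hεl, ← map_mul, hεr]
  haveI : FiniteDimensional (Residue M) (MonoidAlgebra (Residue M) G) :=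
    Module.Finite.equiv (MonoidAlgebra.coeffLinearEquiv (Residue M)).symm
  obtain ⟨w, hw, hidem, n, hn⟩ := exists_idem_poly (k := Residue M) a
  have hwR := Star.adjoin_le_fixedF haR hw
  have hcw : Commute a w := Algebra.commute_of_mem_adjoin_of_forall_mem_commute hw
    fun z hz => by rw [Set.mem_singleton_iff.1 hz]; exact Commute.refl a
  have hεε : ε * ε = ε := by rw [← map_mul, hε2]
  have hpow : ∀ j, cut P (a ^ (j + 1)) = ε := by
    intro j
    induction j with
    | zero => rw [zero_add, pow_one, hcuta]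
    | succ j ih => rw [pow_succ, cut_mul hM hb.1 (pow_mem haR _) haR, ih, hcuta, hεε]
  have hce : cut P (a * w) = ε := by
    have h := congrArg (cut P) hn
    rw [cut_mul hM hb.1 (pow_mem haR _) (sub_mem (one_mem _) (mul_mem haR hwR)), hpow, cut_sub,
      cut_one, mul_sub, mul_one, cut_zero, sub_eq_zero] at h
    rw [cut_mul hM hb.1 haR hwR, hcuta, ← mul_assoc, hεε] at h
    rw [cut_mul hM hb.1 haR hwR, hcuta, ← h]
  refine ⟨a * w, mul_mem haR hwR, hidem.eq, ?_, fun a' ha' hab => ?_⟩
  · have h := congrArg (fun z => z.coeff 1) hce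
    simp only [coeff_cut, if_pos (one_mem _), ε, φ] at h
    rw [h]
    show (MonoidAlgebra.mapDomain C.subtype ε₀).coeff (C.subtype 1) ≠ 0
    rwa [coeff_mapDomain, Finsupp.mapDomain_apply C.subtype_injective]
  · have hle : a'.1 ≤ P := BrauerPairs.pairLE_fst_le ha'
    have hp' : IsPGroup p a'.1 := hb.1.to_le hle
    have hι : a * w = a * w * ι := by
      rw [hcw.eq, mul_assoc, show a * ι = a by simp only [a, mul_assoc, hιι]]
    rw [hι, cut_mul hM hp' (fixedF_anti hle (mul_mem haR hwR)) (fixedF_anti hle hιR), mul_assoc,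
      hbelow a' ha' hab]

end Cfsg.Agent.Lib.FreeInertia
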