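import Mathlib
import Cfsg.Agent.Lib.FreeInertia.Local

/-!
# Columns read in the centralizer of a subgroup of the maximal pair
-/

set_option autoImplicit false
set_option linter.unusedSectionVars false

namespace Cfsg.Agent.Lib.FreeInertia

open Finset Cfsg Cfsg.Agent.Lib Cfsg.Agent.Lib.BrauerPairs Cfsg.Agent.Lib.AbelianStar
open Cfsg.Agent.Lib.NilBlock (bu bu_fst centralizer_bu con)
open scoped ComplexConjugate

universe u

attribute [local instance] Classical.propDecidable

variable {G : Type u} [Group G] [Fintype G] {p : ℕ} {M : Ideal AlgInt} [Fact p.Prime] [M.IsPrime]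
  {B : Set (IrrCharacter G)} {b : BrauerPairIdx G}

/-- A function on a subgroup extended by zero. -/
noncomputable def extH (H : Subgroup G) (η : H → ℂ) : G → ℂ := fun g =>
  if h : g ∈ H then η ⟨g, h⟩ else 0

theorem extH_apply {H : Subgroup G} (η : H → ℂ) (k : H) : extH H η (k : G) = η k := by
  rw [extH, dif_pos k.2]

/-- The block of `K` induced from the pair. -/
noncomputable def blkIn (M : Ideal AlgInt) [M.IsPrime] (b : BrauerPairIdx G) (K : Subgroup G) :
    Set (IrrCharacter K) :=
  if h : ∃ f, IsInducedBlockIn M K (Subgroup.centralizer (b.1 : Set G)) b.2 f then h.choose else ∅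

theorem blkIn_eq {K : Subgroup G} {f : Set (IrrCharacter K)}
    (h : IsInducedBlockIn M K (Subgroup.centralizer (b.1 : Set G)) b.2 f) : blkIn M b K = f := by
  rw [blkIn, dif_pos ⟨f, h⟩]
  exact isInducedBlockIn_unique (Exists.choose_spec (⟨f, h⟩ :
    ∃ f, IsInducedBlockIn M K (Subgroup.centralizer (b.1 : Set G)) b.2 f)) h

/-- The value at a central element of the part of `φ` in the induced block of `K`. -/
noncomputable def valIn (M : Ideal AlgInt) [M.IsPrime] (b : BrauerPairIdx G) (K : Subgroup G)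
    (φ : G → ℂ) (v : G) : ℂ :=
  ∑ θ ∈ (blkIn M b K).toFinset, classInner (fun k : K => φ k) (θ : K → ℂ) *
    (if h : v ∈ K then (θ : K → ℂ) ⟨v, h⟩ / (θ : K → ℂ) 1 else 0)

theorem val_eq_valIn (hM : IsPModular p M) (hmax : IsMaximalBrauerPair p M B b.1 b.2)
    (hab : ∀ x ∈ b.1, ∀ y ∈ b.1, x * y = y * x) {v : G} (hv : v ∈ b.1) (χ : IrrCharacter G) :
    val p M b χ v = valIn M b (Subgroup.centralizer (Subgroup.zpowers v : Set G)) (χ : G → ℂ) v := by
  have key : ∀ K : Subgroup G, K = Subgroup.centralizer ((bu p M b v).1 : Set G) →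
      val p M b χ v = valIn M b K (χ : G → ℂ) v := by
    rintro K rfl
    rw [valIn, blkIn_eq (isInducedBlockIn_bu hM hmax hab hv)]
    rfl
  exact key _ (by rw [bu_fst])

/-- The induced part of a class function is computed from the constituents of an intermediate
subgroup. -/
theorem valIn_restrict {H K : Subgroup G} (hKH : K ≤ H) {φ : G → ℂ} (hφ : IsClassFunction G φ)
    (v : G) :
    valIn M b K φ v = ∑ η : IrrCharacter H,
      classInner (fun h : H => φ h) (η : H → ℂ) * valIn M b K (extH H (η : H → ℂ)) v := by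
  simp only [valIn, Finset.mul_sum]
  rw [Finset.sum_comm]
  refine Finset.sum_congr rfl fun θ _ => ?_
  simp only [← mul_assoc, ← Finset.sum_mul]
  congr 1
  have e : (fun k : K => φ k) = ∑ η : IrrCharacter H,
      classInner (fun h : H => φ h) (η : H → ℂ) • fun k : K => extH H (η : H → ℂ) k := by
    funext k
    simp only [Finset.sum_apply, Pi.smul_apply, smul_eq_mul, extH, dif_pos (hKH k.2)]
    exact Chars.isClassFunction_apply_eq_sum_classInner
      (Chars.isClassFunction_comp H.subtype hφ) (⟨k, hKH k.2⟩ : H)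
  rw [e, Chars.classInner_sum_left]
  simp only [Chars.classInner_smul_left]

/-- Induction inside a subgroup of a subgroup, on blocks. -/
theorem isInducedBlockIn_of_sub {D P : Subgroup G} {P' : Subgroup D}
    {c : Set (IrrCharacter (Subgroup.centralizer (P : Set G)))} (hc : IsPBlock M c)
    (e : Subgroup.centralizer (P : Set G) ≃* Subgroup.centralizer (P' : Set D))
    (he : ∀ k, (((e k : Subgroup.centralizer (P' : Set D)) : D) : G) = (k : G))
    {L : Subgroup D} {f : Set (IrrCharacter L)}
    (hf : IsInducedBlockIn M L (Subgroup.centralizer (P' : Set D)) (Chars.irrCongr e.symm '' c) f) :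
    IsInducedBlockIn M (L.map D.subtype) (Subgroup.centralizer (P : Set G)) c
      (Chars.irrCongr (L.equivMapOfInjective D.subtype D.subtype_injective).symm '' f) := by
  set eL := L.equivMapOfInjective D.subtype D.subtype_injective
  have heL : ∀ l : L, ((eL l : L.map D.subtype) : G) = ((l : D) : G) := fun l => rfl
  refine ⟨hc, BrauerMap.isPBlock_image_irrCongr _ hf.2.1, ?_⟩
  rintro ξ hξ _ ⟨χ, hχ, rfl⟩ h
  obtain ⟨l, rfl⟩ := eL.surjective h
  have h1 := hf.2.2 _ ⟨ξ, hξ, rfl⟩ χ hχ l
  rw [show (Chars.irrCongr eL.symm χ : L.map D.subtype → ℂ) = fun y => (χ : L → ℂ) (eL.symm y)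
    from rfl, BrauerMap.centralChar_comp_mulEquiv, eL.symm_apply_apply]
  refine (congrArg (fun z => MemLocalIdeal M (z - centralChar (χ : L → ℂ) l)) ?_).mp h1
  unfold inducedCentralCharIn
  refine finsum_mem_eq_of_bijOn e.symm ⟨fun k hk => ?_, e.symm.injective.injOn, fun k hk => ?_⟩
    fun k _ => by simp [BrauerMap.irrCongr_apply]
  · obtain ⟨x, hx⟩ := hk
    refine ⟨eL x, ?_⟩
    rw [heL, heL, ← hx, Subgroup.coe_mul, Subgroup.coe_mul, Subgroup.coe_inv, ← he (e.symm k),
      e.apply_symm_apply]
  · obtain ⟨x, hx⟩ := hk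
    obtain ⟨x, rfl⟩ := eL.surjective x
    refine ⟨e k, ⟨x, Subtype.ext ?_⟩, e.symm_apply_apply k⟩
    rw [Subgroup.coe_mul, Subgroup.coe_mul, Subgroup.coe_inv, he]
    rw [heL, heL] at hx
    exact hx

theorem mem_centralizer_sup_zpowers {Q : Subgroup G} {v x : G} :
    x ∈ Subgroup.centralizer ((Q ⊔ Subgroup.zpowers v : Subgroup G) : Set G) ↔
      x ∈ Subgroup.centralizer (Q : Set G) ∧ Commute v x := by
  rw [← Blocks.le_centralizer_singleton_iff, sup_le_iff, Blocks.le_centralizer_singleton_iff,
    Subgroup.zpowers_le, Subgroup.mem_centralizer_singleton_iff]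
  exact Iff.rfl

/-- The maximal pair inside the centralizer of `Q`. -/
noncomputable def subPair (b : BrauerPairIdx G) {Q : Subgroup G}
    (hPC : b.1 ≤ Subgroup.centralizer (Q : Set G)) (hQP : Q ≤ b.1) :
    BrauerPairIdx (Subgroup.centralizer (Q : Set G)) :=
  ⟨b.1.subgroupOf _, LocalInertial.subBlock hPC hQP b.2⟩

theorem mem_subPair {Q : Subgroup G} (hPC : b.1 ≤ Subgroup.centralizer (Q : Set G)) (hQP : Q ≤ b.1)
    {x : Subgroup.centralizer (Q : Set G)} : x ∈ (subPair b hPC hQP).1 ↔ (x : G) ∈ b.1 :=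
  Subgroup.mem_subgroupOf

theorem subPair_comm {Q : Subgroup G} (hPC : b.1 ≤ Subgroup.centralizer (Q : Set G)) (hQP : Q ≤ b.1)
    (hab : ∀ x ∈ b.1, ∀ y ∈ b.1, x * y = y * x) :
    ∀ x ∈ (subPair b hPC hQP).1, ∀ y ∈ (subPair b hPC hQP).1, x * y = y * x :=
  fun x hx y hy => Subtype.ext (hab x hx y hy)

/-- The local column is the induced part in the centralizer of the join. -/
theorem val_sub (hM : IsPModular p M) (hmax : IsMaximalBrauerPair p M B b.1 b.2)
    (hab : ∀ x ∈ b.1, ∀ y ∈ b.1, x * y = y * x) {Q : Subgroup G}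
    (hPC : b.1 ≤ Subgroup.centralizer (Q : Set G)) (hQP : Q ≤ b.1)
    {f : Set (IrrCharacter (Subgroup.centralizer (Q : Set G)))}
    (hf : IsInducedBlockIn M (Subgroup.centralizer (Q : Set G))
      (Subgroup.centralizer (b.1 : Set G)) b.2 f)
    {v : Subgroup.centralizer (Q : Set G)} (hv : (v : G) ∈ b.1)
    (η : IrrCharacter (Subgroup.centralizer (Q : Set G))) :
    val p M (subPair b hPC hQP) η v =
      valIn M b (Subgroup.centralizer ((Q ⊔ Subgroup.zpowers (v : G) : Subgroup G) : Set G))
        (extH (Subgroup.centralizer (Q : Set G))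
          (η : Subgroup.centralizer (Q : Set G) → ℂ)) (v : G) := by
  have hmax' := LocalInertial.isMaximal_sub hM hPC hQP hmax hf
  set b' := subPair b hPC hQP
  have hv' : v ∈ b'.1 := (mem_subPair hPC hQP).2 hv
  have hind := isInducedBlockIn_bu (b := b') hM hmax' (subPair_comm hPC hQP hab) hv'
  set L := Subgroup.centralizer ((bu p M b' v).1 : Set (Subgroup.centralizer (Q : Set G)))
  have hG := isInducedBlockIn_of_sub hmax.1.1.2 (LocalInertial.sub hPC hQP) (fun k => rfl) hind
  set eL := L.equivMapOfInjective (Subgroup.centralizer (Q : Set G)).subtype (Subgroup.centralizer (Q : Set G)).subtype_injective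
  have heL : ∀ l : L, ((eL l : L.map (Subgroup.centralizer (Q : Set G)).subtype) : G) = ((l : (Subgroup.centralizer (Q : Set G))) : G) := fun l => rfl
  have key : ∀ K : Subgroup G, K = L.map (Subgroup.centralizer (Q : Set G)).subtype →
      val p M b' η v = valIn M b K (extH (Subgroup.centralizer (Q : Set G)) (η : (Subgroup.centralizer (Q : Set G)) → ℂ)) (v : G) := by
    rintro K rfl
    have hmem : (v : G) ∈ L.map (Subgroup.centralizer (Q : Set G)).subtype := ⟨v, self_mem_centralizer v, rfl⟩
    rw [valIn, blkIn_eq hG, val, vAt, Set.toFinset_image,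
      Finset.sum_image fun _ _ _ _ h => (Chars.irrCongr _).injective h]
    refine Finset.sum_congr rfl fun θ _ => ?_
    rw [dif_pos (self_mem_centralizer v), dif_pos hmem]
    congr 1
    · simp only [classInner]
      rw [Nat.card_congr eL.toEquiv]
      congr 1
      refine Fintype.sum_equiv eL.toEquiv _ _ fun l => ?_
      simp only [MulEquiv.toEquiv_eq_coe, EquivLike.coe_coe, BrauerMap.irrCongr_apply,
        MulEquiv.symm_apply_apply, heL, extH_apply]
    · simp only [BrauerMap.irrCongr_apply, map_one]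
      congr 2
      refine congrArg _ (eL.injective ?_)
      rw [MulEquiv.apply_symm_apply]
      exact Subtype.ext rfl
  refine key _ ?_
  ext x
  rw [mem_centralizer_sup_zpowers]
  simp only [L, centralizer_bu, Subgroup.mem_map, Subgroup.coe_subtype, Subgroup.mem_centralizer_singleton_iff]
  constructor
  · rintro ⟨hx, hc⟩
    exact ⟨⟨x, hx⟩, Subtype.ext hc.symm.eq, rfl⟩
  · rintro ⟨y, hy, rfl⟩
    exact ⟨y.2, (congrArg Subtype.val hy).symm⟩

end Cfsg.Agent.Lib.FreeInertia
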