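import Mathlib
import Cfsg.Agent.Lib.FreeInertia.TwoForm
import Cfsg.Agent.Lib.FreeInertia.TwoIdem
import Cfsg.Agent.Lib.FreeInertia.TwoTransfer

/-!
# Signs of the subgroups of the maximal pair for the prime two

Every nontrivial subgroup of the maximal pair gets a sign with which the induced parts at the
joins with the cyclic subgroups form a function in the span.
-/

set_option autoImplicit false
set_option linter.unusedSectionVars false

namespace Cfsg.Agent.Lib.FreeInertia

open Finset Cfsg MonoidAlgebra Cfsg.Agent.Lib Cfsg.Agent.Lib.BrauerPairs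
open Cfsg.Agent.Lib.AbelianStar
open Cfsg.Agent.Lib.Blocks (localRing residue Residue mem_localRing toF blockIdem)
open Cfsg.Agent.Lib.Blocks.ResidueAlgebra
open Cfsg.Agent.Lib.Blocks.HarrisKnorr (redBlock)
open Cfsg.Agent.Lib.Star (Spn Fam)
open scoped ComplexConjugate

universe u

attribute [local instance] Classical.propDecidable

theorem intCast_four_dvd {M : Ideal AlgInt} [M.IsPrime] [Fact (Nat.Prime 2)] (hM : IsPModular 2 M)
    {z : ℤ} (h : Cong M 4 (z : ℂ) 0) : (4 : ℤ) ∣ z := by
  obtain ⟨o, ho, e⟩ := h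
  have := Star.pow_dvd_of_eq_mul hM 2 (m := z) ho (by rw [sub_zero] at e; rw [e]; norm_num)
  exact_mod_cast this

/-- A sign function with vanishing four-term sums modulo four is in the span. -/
theorem spn_of_four {P : Type u} [CommGroup P] [Finite P] {M : Ideal AlgInt} [M.IsPrime]
    [Fact (Nat.Prime 2)] (hM : IsPModular 2 M) {t : P → ℤ} (ht : ∀ v, t v = 1 ∨ t v = -1)
    (h4 : ∀ x y, Cong M 4 ((t 1 : ℂ) + t x + t y + t (x * y)) 0) :
    Spn (localRing M) fun v => (t v : ℂ) := by
  have hprod : ∀ x y, t 1 * t (x * y) = t x * t y := fun x y => by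
    have h := intCast_four_dvd hM (z := t 1 + t x + t y + t (x * y)) (by simpa using h4 x y)
    rcases ht 1 with a | a <;> rcases ht x with b | b <;> rcases ht y with c | c <;>
      rcases ht (x * y) with d | d <;> simp_all
  have hsq : t 1 * t 1 = 1 := by rcases ht 1 with a | a <;> simp [a]
  let θ : P →* ℂ :=
    { toFun := fun v => ((t 1 * t v : ℤ) : ℂ)
      map_one' := by rw [hsq, Int.cast_one]
      map_mul' := fun x y => by
        rw [← Int.cast_mul, hprod x y]
        congr 1
        linear_combination (-(t x * t y)) * hsq }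
  have h : (fun v => (t v : ℂ)) = (fun _ => ((t 1 : ℤ) : ℂ)) * fun v => ((θ.toHomUnits v : ℂˣ) : ℂ) := by
    funext v
    show (t v : ℂ) = (t 1 : ℂ) * ((t 1 * t v : ℤ) : ℂ)
    rw [← Int.cast_mul, ← mul_assoc, hsq, one_mul]
  rw [h]
  exact Star.spn_mul (Star.spn_const (intCast_mem _ _)) (spn_hom _)

variable {G : Type u} [Group G] [Fintype G] [Fact (Nat.Prime 2)] {M : Ideal AlgInt} [M.IsPrime]
  {B : Set (IrrCharacter G)} {b : BrauerPairIdx G}

/-- The sum of a good family against a translated class function of a subgroup is in the span. -/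
theorem spn_fam_sum (hab : ∀ x ∈ b.1, ∀ y ∈ b.1, x * y = y * x) {A : Fam M b.1}
    (hA : A ∈ Star.goodRing M b.1) {H : Subgroup G} (hPH : b.1 ≤ H) {η : H → ℂ}
    (hη : IsCharacter H η) :
    Spn (localRing M) fun v : b.1 =>
      ∑ g : G, (((A v).coeff g : localRing M) : ℂ) * extH H η ((v : G) * g) := by
  have hcomm : ∀ x y : b.1, x * y = y * x := fun x y => Subtype.ext (hab _ x.2 _ y.2)
  refine spn_of_hom hcomm fun l => ?_
  letI : MulAction b.1 G :=
    MulAction.compHom G ((MulAut.conj).comp b.1.subtype : b.1 →* MulAut G)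
  have hsmul : ∀ (k : b.1) (g : G), k • g = (k : G) * g * (k : G)⁻¹ := fun _ _ => rfl
  let T : G → b.1 → ℂ := fun g v =>
    (((A v).coeff g : localRing M) : ℂ) * extH H η ((v : G) * g) * (l v : ℂ)
  have hext : ∀ (r : b.1) (x : G), extH H η ((r : G) * x * (r : G)⁻¹) = extH H η x := by
    intro r x
    simp only [extH]
    by_cases hx : x ∈ H
    · rw [dif_pos hx, dif_pos (mul_mem (mul_mem (hPH r.2) hx) (inv_mem (hPH r.2)))]
      exact Chars.isClassFunction_of_isCharacter hη ⟨x, hx⟩ ⟨r, hPH r.2⟩
    · rw [dif_neg hx, dif_neg fun h => hx ?_]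
      have := mul_mem (mul_mem (inv_mem (hPH r.2)) h) (hPH r.2)
      simpa [mul_assoc] using this
  have hinv : ∀ (r : b.1) (g : G), ∑ v, T (r • g) v = ∑ v, T g v := by
    intro r g
    refine Finset.sum_congr rfl fun v _ => ?_
    have hr : r * v * r⁻¹ = v := by rw [hcomm r v, mul_inv_cancel_right]
    have h := hA.1.2 r v g
    rw [hr] at h
    simp only [T, hsmul, h]
    congr 2
    rw [← hext r ((v : G) * g)]
    congr 1
    rw [show (r : G) * ((v : G) * g) * (r : G)⁻¹ =
      ((r : G) * (v : G) * (r : G)⁻¹) * ((r : G) * g * (r : G)⁻¹) by group,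
      show (r : G) * (v : G) * (r : G)⁻¹ = ((r * v * r⁻¹ : b.1) : G) from rfl, hr]
  have hdiv : ∀ g : G, ∃ o ∈ localRing M,
      ∑ v, T g v = (Nat.card (MulAction.stabilizer b.1 g) : ℂ) * o := by
    intro g
    by_cases hg : g ∈ H
    swap
    · refine ⟨0, zero_mem _, ?_⟩
      rw [mul_zero]
      refine Finset.sum_eq_zero fun v _ => ?_
      simp only [T, extH]
      rw [dif_neg fun h => hg ((Subgroup.mul_mem_cancel_left H (hPH v.2)).1 h), mul_zero, zero_mul]
    set S := MulAction.stabilizer b.1 g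
    haveI := Fintype.ofFinite S
    have hmemS : ∀ {x : b.1}, x ∈ S ↔ Commute (x : G) g := fun {x} => by
      rw [MulAction.mem_stabilizer_iff, hsmul, mul_inv_eq_iff_eq_mul]
      rfl
    let φ : S →* Star.fixR b.1 g :=
      { toFun := fun s => ⟨(s : b.1), Star.mem_fixR.2 (hmemS.1 s.2)⟩
        map_one' := rfl
        map_mul' := fun _ _ => rfl }
    let f : S →* H :=
      { toFun := fun s => ⟨((s : b.1) : G), hPH (s : b.1).2⟩
        map_one' := rfl
        map_mul' := fun _ _ => rfl }
    have h1 := Star.spn_mono (Star.intRing_le_localRing M) (Star.spn_shift f hη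
      (t := (⟨g, hg⟩ : H)) fun s => Subtype.ext (hmemS.1 s.2).symm.eq)
    obtain ⟨o, ho, hs⟩ := Star.spn_sum_apply (Star.spn_mul (Star.spn_mul
      (Star.spn_comp φ (hA.2 g)) h1) (spn_hom (l.comp S.subtype)))
    refine ⟨o, ho, ?_⟩
    rw [← hs]
    have hzero : ∀ x : b.1, x ∉ S → T g x = 0 := fun x hx => by
      have : (A x).coeff g = 0 := not_not.1 (mt (hA.1.1 x g) fun h => hx (hmemS.2 h))
      simp [T, this]
    rw [← Finset.sum_filter_add_sum_filter_not Finset.univ (fun x : b.1 => x ∈ S) (T g),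
      Finset.sum_eq_zero (s := Finset.univ.filter fun x : b.1 => ¬ x ∈ S)
        fun x hx => hzero x (Finset.mem_filter.1 hx).2, add_zero]
    refine (Finset.sum_subtype _ (fun x => by simp) (T g)).trans (Finset.sum_congr rfl fun s _ => ?_)
    simp only [T, Pi.mul_apply, Star.coeffAt, φ, f, MonoidHom.coe_mk, OneHom.coe_mk,
      MonoidHom.comp_apply, Subgroup.coe_subtype]
    refine congrArg₂ (· * ·) (congrArg₂ (· * ·) rfl ?_) rfl
    rw [(hmemS.1 s.2).eq]
    exact extH_apply η (⟨g, hg⟩ * ⟨((s : b.1) : G), hPH (s : b.1).2⟩ : H)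
  obtain ⟨o, ho, hs⟩ := Star.sum_orbit_mem (O := localRing M) (R := b.1) (α := G)
    (fun g => ∑ v, T g v) hinv hdiv
  refine ⟨o, ho, hs ▸ ?_⟩
  rw [Finset.sum_comm]
  exact Finset.sum_congr rfl fun v _ => Finset.sum_mul _ _ _

variable (hM : IsPModular 2 M) (hmax : IsMaximalBrauerPair 2 M B b.1 b.2)
  (hab : ∀ x ∈ b.1, ∀ y ∈ b.1, x * y = y * x) (hfree : IsFree b)

include hM hmax hab hfree in
theorem isNilpotent_induced {R : Subgroup G} (hRP : R ≤ b.1) (hR1 : R ≠ ⊥)
    {f : Set (IrrCharacter (Subgroup.centralizer (R : Set G)))}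
    (hf : IsInducedBlockIn M (Subgroup.centralizer (R : Set G))
      (Subgroup.centralizer (b.1 : Set G)) b.2 f) :
    IsNilpotentBlock 2 M f := by
  obtain ⟨x, hxR, hx1⟩ := R.bot_or_exists_ne_one.resolve_left hR1
  refine (LocalInertial.isNilpotentBlock_iff hM hab hRP hmax hf).2 fun g hgC hgN hst => ?_
  refine hfree g ((inStab_iff hmax.1.1.2).2
    ((mem_pairStab_iff_stabilizesBlock hmax.1.1.2).2 ⟨hgN, hst⟩)) x (hRP hxR) hx1 ?_
  rw [← Subgroup.mem_centralizer_iff.1 hgC x hxR, mul_inv_cancel_right]

include hM hmax hab hfree in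
/-- The signs of the subgroups. -/
theorem exists_sigma : ∃ σ : Subgroup G → ℤ, (∀ R, σ R = 1 ∨ σ R = -1) ∧
    ∀ Q ≤ b.1, Q ≠ ⊥ → ∀ χ : IrrCharacter G, Spn (localRing M) fun v : b.1 =>
      (σ (Q ⊔ Subgroup.zpowers (v : G)) : ℂ) * valIn M b
        (Subgroup.centralizer ((Q ⊔ Subgroup.zpowers (v : G) : Subgroup G) : Set G))
        (χ : G → ℂ) (v : G) := by
  have hb := hmax.1.1
  obtain ⟨n₀, hn₀⟩ : ∃ n, Nat.card b.1 = 2 ^ n := ⟨_, NilBlock.card_eq hM hmax⟩
  set a₀ := (Nat.card G).factorization 2
  set m := n₀ + 2 with hm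
  set N := m + 2 * a₀ + 3 with hN
  obtain ⟨i, hiP, hii, hi1, hbelow⟩ := exists_local_idem_one hM hb
  choose s hs using fun r : Residue M => IsLocalRing.residue_surjective (R := localRing M) r
  let T : ∀ R : Subgroup G, MonoidAlgebra (localRing M) (Subgroup.centralizer (R : Set G)) :=
    fun R => Blocks.ofFun fun k => s (i.coeff (k : G))
  let Tg : Subgroup G → MonoidAlgebra (localRing M) G := fun R =>
    BrauerMap.emb (Subgroup.centralizer (R : Set G)).subtype (T R)
  have hTg : ∀ (R : Subgroup G) (g : G),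
      (Tg R).coeff g = if g ∈ Subgroup.centralizer (R : Set G) then s (i.coeff g) else 0 := by
    intro R g
    split_ifs with hg
    · exact BrauerMap.coeff_emb_apply (Subgroup.centralizer (R : Set G)).subtype_injective
        (T R) ⟨g, hg⟩
    · exact BrauerMap.coeff_emb_of_notMem _ _ (by rwa [Subgroup.range_subtype])
  have hTred : ∀ R : Subgroup G, mapDomainRingHom (Residue M)
      (Subgroup.centralizer (R : Set G)).subtype (toF M _ (T R)) = cut R i := by
    intro R
    rw [← BrauerMap.toF_emb]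
    ext g : 2
    show residue M ((Tg R).coeff g) = _
    rw [hTg, coeff_cut]
    split_ifs
    · exact hs _
    · exact map_zero _
  have hinj : ∀ R : Subgroup G, Function.Injective (mapDomainRingHom (Residue M)
      (Subgroup.centralizer (R : Set G)).subtype) := fun R =>
    MonoidAlgebra.mapDomain_injective (Subgroup.centralizer (R : Set G)).subtype_injective
  have hidem : ∀ R ≤ b.1, IsIdempotentElem (toF M _ (T R)) := fun R hR => hinj R (by
    rw [map_mul, hTred, ← cut_mul hM (hb.1.to_le hR) (fixedF_anti hR hiP) (fixedF_anti hR hiP),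
      hii])
  have hres : ∀ {K : Subgroup G} {a : MonoidAlgebra (localRing M) K}, toF M K a = 0 →
      ∀ k, residue M (a.coeff k) = 0 := fun {K a} h k => by
    simpa using congrArg (fun z => z.coeff k) h
  have hnil : ∀ R : Subgroup G, R ≤ b.1 →
      IsNilpotent (Star.toMod M 2 N _ (T R * (1 - T R))) := fun R hR =>
    Star.isNilpotent_toMod hM (hres (by
      rw [map_mul, map_sub, map_one, (hidem R hR).mul_one_sub_self])) N
  choose Nn hNn using hnil
  haveI : Finite (Subgroup G) := Finite.of_injective _ SetLike.coe_injective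
  haveI := Fintype.ofFinite (Subgroup G)
  let N₀ : ℕ := (Finset.univ.sup fun R : Subgroup G => if h : R ≤ b.1 then Nn R h else 0) + 1
  let E : ∀ R : Subgroup G, MonoidAlgebra (localRing M) (Subgroup.centralizer (R : Set G)) :=
    fun R => 1 - (1 - T R ^ N₀) ^ N₀
  have hEidem : ∀ R ≤ b.1, IsIdempotentElem (Star.toMod M 2 N _ (E R)) := by
    intro R hR
    have hle : Nn R hR ≤ N₀ := le_trans (le_of_eq (dif_pos hR).symm)
      ((Finset.le_sup (f := fun R : Subgroup G => if h : R ≤ b.1 then Nn R h else 0)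
        (Finset.mem_univ R)).trans (Nat.le_succ _))
    have h0 : (Star.toMod M 2 N _ (T R) * (1 - Star.toMod M 2 N _ (T R))) ^ N₀ = 0 := by
      have := pow_eq_zero_of_le hle (hNn R hR)
      rwa [map_mul, map_sub, map_one] at this
    simp only [E, map_sub, map_pow, map_one]
    exact Star.sq_lift _ _ h0
  have hEred : ∀ R ≤ b.1, toF M _ (E R) = toF M _ (T R) := fun R hR => by
    simp only [E, map_sub, map_pow, map_one]
    exact Star.poly_of_idempotent (hidem R hR) (Nat.succ_ne_zero _)
  -- the ranks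
  have hrank : ∀ R : Subgroup G, ∃ (n : ℂ) (σ : ℤ), (σ = 1 ∨ σ = -1) ∧ (R ≤ b.1 → R ≠ ⊥ →
      n ∈ localRing M ∧ Cong M 4 n (σ : ℂ) ∧
      ∀ θ : IrrCharacter (Subgroup.centralizer (R : Set G)), Cong M (2 ^ m)
        (evalAt (E R) (θ : Subgroup.centralizer (R : Set G) → ℂ))
        (if θ ∈ blkIn M b (Subgroup.centralizer (R : Set G)) then n else 0)) := by
    intro R
    by_cases hR : R ≤ b.1 ∧ R ≠ ⊥
    swap
    · exact ⟨0, 1, Or.inl rfl, fun h h' => absurd ⟨h, h'⟩ hR⟩
    obtain ⟨hRP, hR1⟩ := hR
    have hPC : b.1 ≤ Subgroup.centralizer (R : Set G) := le_centralizer_of_comm hab hRP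
    obtain ⟨f, hf⟩ := LocalInertial.exists_induced hM hab hRP hb.1 hb.2
    have hn' := isNilpotent_induced hM hmax hab hfree hRP hR1 hf
    have hmax' := LocalInertial.isMaximal_sub hM hPC hRP hmax hf
    have hbl : ∀ hfb : IsPBlock M f, Star.toMod M 2 N _ (E R * (blockIdem M hfb :
        MonoidAlgebra (localRing M) (Subgroup.centralizer (R : Set G)))) =
        Star.toMod M 2 N _ (E R) := by
      intro hfb
      set eR : MonoidAlgebra (localRing M) (Subgroup.centralizer (R : Set G)) :=
        (blockIdem M hfb : MonoidAlgebra (localRing M) (Subgroup.centralizer (R : Set G))) with heR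
      have hpair : PairLE 2 M (⟨R, f⟩ : BrauerPairIdx G) b :=
        Relation.ReflTransGen.single (LocalInertial.normalSubpair hM hPC hRP hb.1 hb.2 hf)
      have h := hbelow _ hpair hfb
      rw [← hTred, redBlock, BrauerMap.blockG, BrauerMap.toF_emb, ← map_mul, ← hEred R hRP] at h
      have h' := hinj R h
      have hc : Commute (Star.toMod M 2 N _ (E R)) (Star.toMod M 2 N _ eR) :=
        (show Commute (E R) eR from
          Subalgebra.mem_center_iff.1 (blockIdem M hfb).2 (E R)).map (Star.toMod M 2 N _)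
      have he : IsIdempotentElem (Star.toMod M 2 N _ eR) := by
        show _ * _ = _
        rw [← map_mul, heR, ← MulMemClass.coe_mul, Blocks.blockIdem_mul_self]
      have h0 := ((hEidem R hRP).mul_of_commute ((Commute.one_right _).sub_right hc)
        he.one_sub).eq_zero_of_isNilpotent (by
          have := Star.isNilpotent_toMod (p := 2) hM (hres (a := E R * (1 - eR)) (by
            rw [map_mul, map_sub (toF M (Subgroup.centralizer (R : Set G))) 1 eR, map_one, mul_sub,
              mul_one, h', sub_self])) N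
          rwa [map_mul, map_sub (Star.toMod M 2 N (Subgroup.centralizer (R : Set G))) 1 eR,
            map_one] at this)
      rw [mul_sub, mul_one, sub_eq_zero] at h0
      rw [map_mul]
      exact h0.symm
    have h1 : residue M ((E R).coeff 1) ≠ 0 := by
      have h := congrArg (fun z => z.coeff 1) (hEred R hRP)
      simp only [T, coeff_mapRingHom, Blocks.coeff_ofFun] at h
      rw [h, hs]
      exact hi1
    obtain ⟨n, hnR, ⟨σ, hσ, hnσ⟩, hθ⟩ := exists_rank hM
      (b := ⟨b.1.subgroupOf _, LocalInertial.subBlock hPC hRP b.2⟩) hmax'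
      (fun x hx y hy => Subtype.ext (hab x hx y hy)) hn' (a := a₀)
      ((Nat.factorization_le_iff_dvd Nat.card_pos.ne' Nat.card_pos.ne').2
        (Subgroup.card_subgroup_dvd_card _) 2) le_rfl (hEidem R hRP) hbl h1
    refine ⟨n, σ, hσ, fun _ _ => ⟨hnR, hnσ, fun θ => ?_⟩⟩
    rw [blkIn_eq hf]
    exact hθ θ
  choose n σ hσ hnσ using hrank
  refine ⟨σ, hσ, fun Q hQP hQ1 χ => ?_⟩
  have hRP : ∀ v : b.1, Q ⊔ Subgroup.zpowers (v : G) ≤ b.1 := fun v =>
    sup_le hQP (Subgroup.zpowers_le.2 v.2)
  have hR1 : ∀ v : b.1, Q ⊔ Subgroup.zpowers (v : G) ≠ ⊥ := fun v h =>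
    hQ1 (le_bot_iff.1 (h ▸ le_sup_left))
  set H := Subgroup.centralizer (Q : Set G) with hH
  have hPC : b.1 ≤ H := le_centralizer_of_comm hab hQP
  have hKH : ∀ v : b.1,
      Subgroup.centralizer ((Q ⊔ Subgroup.zpowers (v : G) : Subgroup G) : Set G) ≤ H := fun v =>
    BrauerMap.centralizer_anti le_sup_left
  obtain ⟨fQ, hfQ⟩ := LocalInertial.exists_induced hM hab hQP hb.1 hb.2
  have hmax' : IsMaximalBrauerPair 2 M fQ (subPair b hPC hQP).1 (subPair b hPC hQP).2 :=
    LocalInertial.isMaximal_sub hM hPC hQP hmax hfQ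
  obtain ⟨sg, hsg, hgal, ⟨η₀, -, μ, hμ⟩, hform⟩ := exists_form hM hmax' (subPair_comm hPC hQP hab)
    (isNilpotent_induced hM hmax hab hfree hQP hQ1 hfQ)
  let ι : b.1 →* (subPair b hPC hQP).1 :=
    { toFun := fun v => ⟨⟨(v : G), hPC v.2⟩, (mem_subPair hPC hQP).2 v.2⟩
      map_one' := rfl
      map_mul' := fun _ _ => rfl }
  set t : b.1 → ℤ := fun v => σ (Q ⊔ Subgroup.zpowers (v : G)) * sg (ι v) with ht
  letI : CommGroup b.1 :=
    { (inferInstance : Group b.1) with mul_comm := fun x y => Subtype.ext (hab _ x.2 _ y.2) }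
  -- the signs form a function in the span
  have htS : Spn (localRing M) fun v : b.1 => (t v : ℂ) := by
    set w : b.1 → ℂ := fun v => n (Q ⊔ Subgroup.zpowers (v : G)) * (sg (ι v) : ℂ) with hw
    let A : Fam M b.1 := fun v =>
      BrauerMap.emb (Subgroup.centralizer ((Q ⊔ Subgroup.zpowers (v : G) : Subgroup G) : Set G)).subtype
        (E (Q ⊔ Subgroup.zpowers (v : G)))
    have hA : A ∈ Star.goodRing M b.1 := by
      have e : A = 1 - (1 - (fun v : b.1 => Tg (Q ⊔ Subgroup.zpowers (v : G))) ^ N₀) ^ N₀ := by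
        funext v
        simp only [A, E, Tg, map_sub, map_pow, map_one, Pi.sub_apply, Pi.pow_apply, Pi.one_apply]
      rw [e]
      have hT : (fun v : b.1 => Tg (Q ⊔ Subgroup.zpowers (v : G))) ∈ Star.goodRing M b.1 := by
        refine ⟨⟨fun v g hne => ?_, fun r v g => ?_⟩, fun g => ?_⟩
        · simp only [hTg] at hne
          split_ifs at hne with hg
          · exact (mem_centralizer_sup_zpowers.1 hg).2
          · exact absurd rfl hne
        · have hr : r * v * r⁻¹ = v := by rw [mul_comm r v, mul_inv_cancel_right]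
          rw [hr]
          simp only [hTg, mem_fixedF_iff.1 hiP (r : G) r.2 g]
          refine if_congr ⟨fun h => ?_, fun h =>
            Blocks.conj_mem_centralizer_of_mem_normalizer (le_centralizer_of_comm hab (hRP v)
              |>.trans (Subgroup.centralizer_le_normalizer _) r.2) h⟩ rfl rfl
          have := Blocks.conj_mem_centralizer_of_mem_normalizer (le_centralizer_of_comm hab (hRP v)
              |>.trans (Subgroup.centralizer_le_normalizer _) (inv_mem r.2)) h
          simpa [mul_assoc] using this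
        · have e : Star.coeffAt (fun v : b.1 => Tg (Q ⊔ Subgroup.zpowers (v : G))) g =
              fun _ => if g ∈ H then ((s (i.coeff g) : localRing M) : ℂ) else 0 := by
            funext k
            simp only [Star.coeffAt, hTg, mem_centralizer_sup_zpowers]
            by_cases hg : g ∈ H
            · rw [if_pos ⟨hg, Star.mem_fixR.1 k.2⟩, if_pos hg]
            · rw [if_neg fun h => hg h.1, if_neg hg]
              rfl
          unfold Star.GoodAt
          rw [e]
          refine Star.spn_const ?_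
          split_ifs
          exacts [SetLike.coe_mem _, zero_mem _]
      exact sub_mem (one_mem _) (pow_mem (sub_mem (one_mem _) (pow_mem hT _)) _)
    set h : b.1 → ℂ := fun v =>
      ∑ g : G, (((A v).coeff g : localRing M) : ℂ) * extH H (η₀ : H → ℂ) ((v : G) * g) with hh
    have hhS : Spn (localRing M) h := spn_fam_sum hab hA hPC (Chars.irr_isCharacter η₀)
    have hhn : ∀ v : b.1, Cong M (2 ^ m) (h v) (w v * (μ (ι v) : ℂ)) := by
      intro v
      set R := Q ⊔ Subgroup.zpowers (v : G) with hR
      set K := Subgroup.centralizer (R : Set G) with hK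
      obtain ⟨-, -, hθ⟩ := hnσ R (hRP v) (hR1 v)
      have hvK : (v : G) ∈ K := le_centralizer_of_comm hab (hRP v) v.2
      have hvZ : (⟨(v : G), hvK⟩ : K) ∈ Subgroup.center K := Subgroup.mem_center_iff.2 fun k =>
        Subtype.ext (Subgroup.mem_centralizer_iff.1 k.2 (v : G)
          (Subgroup.mem_sup_right (Subgroup.mem_zpowers _))).symm
      have hψ : IsClassFunction K fun k : K => extH H (η₀ : H → ℂ) k := fun g k => by
        simp only [extH, dif_pos (hKH v g.2), dif_pos (hKH v (k * g * k⁻¹).2)]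
        exact Chars.irr_isClassFunction η₀ ⟨g, hKH v g.2⟩ ⟨k, hKH v k.2⟩
      have hA' : h v = ∑ θ : IrrCharacter K,
          classInner (fun k : K => extH H (η₀ : H → ℂ) k) (θ : K → ℂ) *
            ((θ : K → ℂ) ⟨v, hvK⟩ / (θ : K → ℂ) 1) * evalAt (E R) (θ : K → ℂ) := by
        simp only [hh, evalAt, Finset.mul_sum]
        rw [Finset.sum_comm]
        rw [← Finset.sum_filter_add_sum_filter_not Finset.univ (fun g : G => g ∈ K),
          Finset.sum_eq_zero (s := Finset.univ.filter fun g : G => ¬ g ∈ K) fun g hg => by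
            rw [show (A v).coeff g = 0 from BrauerMap.coeff_emb_of_notMem _ _
              (by rw [Subgroup.range_subtype]; exact (Finset.mem_filter.1 hg).2),
              ZeroMemClass.coe_zero, zero_mul], add_zero]
        refine (Finset.sum_subtype (p := fun g => g ∈ K) _ (fun g => by simp)
          (fun g : G => (((A v).coeff g : localRing M) : ℂ) * extH H (η₀ : H → ℂ) ((v : G) * g))).trans
          (Finset.sum_congr rfl fun k _ => ?_)
        rw [show (A v).coeff (k : G) = (E R).coeff k from
          BrauerMap.coeff_emb_apply K.subtype_injective (E R) k]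
        refine (congrArg (fun z => (((E R).coeff k : localRing M) : ℂ) * z)
          ((rfl : extH H (η₀ : H → ℂ) ((v : G) * (k : G)) =
            (fun k : K => extH H (η₀ : H → ℂ) k) (⟨v, hvK⟩ * k)).trans
            (Chars.isClassFunction_apply_eq_sum_classInner hψ (⟨v, hvK⟩ * k)))).trans ?_
        rw [Finset.mul_sum]
        refine Finset.sum_congr rfl fun θ _ => ?_
        rw [← Subgroup.mem_center_iff.1 hvZ k, Blocks.CentralKernel.irr_mul_central θ hvZ]
        ring
      have hval : valIn M b K (extH H (η₀ : H → ℂ)) (v : G) = (sg (ι v) : ℂ) * (μ (ι v) : ℂ) := by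
        rw [← hμ (ι v)]
        exact (val_sub hM hmax hab hPC hQP hfQ (v := ⟨(v : G), hPC v.2⟩) v.2 η₀).symm
      rw [hA', hw, mul_assoc, ← hval, valIn, Finset.mul_sum, ← Finset.sum_filter_add_sum_filter_not
        Finset.univ (fun θ : IrrCharacter K => θ ∈ blkIn M b K)]
      have hfil : (Finset.univ.filter fun θ : IrrCharacter K => θ ∈ blkIn M b K) =
          (blkIn M b K).toFinset := by ext; simp
      rw [hfil]
      have hcoef : ∀ θ : IrrCharacter K,
          classInner (fun k : K => extH H (η₀ : H → ℂ) k) (θ : K → ℂ) *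
            ((θ : K → ℂ) ⟨v, hvK⟩ / (θ : K → ℂ) 1) ∈ localRing M := by
        intro θ
        have hc : IsCharacter K fun k : K => extH H (η₀ : H → ℂ) k := by
          have e : (fun k : K => extH H (η₀ : H → ℂ) k) = fun k : K =>
              (η₀ : H → ℂ) (Subgroup.inclusion (hKH v) k) :=
            funext fun k => extH_apply (η₀ : H → ℂ) (Subgroup.inclusion (hKH v) k)
          rw [e]
          exact Chars.isCharacter_comp (Subgroup.inclusion (hKH v)) (Chars.irr_isCharacter η₀)
        obtain ⟨c, hc⟩ := Chars.isCharacter_classInner_nat hc (Chars.irr_isCharacter θ)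
        rw [hc]
        refine mul_mem (natCast_mem _ _) (Blocks.isIntegral_mem_localRing
          (IsIntegral.of_pow (orderOf_pos (⟨v, hvK⟩ : K)) ?_))
        have hpow : ∀ j : ℕ, ((θ : K → ℂ) ⟨v, hvK⟩ / (θ : K → ℂ) 1) ^ j =
            (θ : K → ℂ) (⟨v, hvK⟩ ^ j) / (θ : K → ℂ) 1 := fun j => by
          induction j with
          | zero => simp [div_self (Chars.irr_apply_one_ne_zero θ)]
          | succ j ih =>
            rw [pow_succ, ih, pow_succ, Blocks.CentralKernel.irr_mul_central θ hvZ]
            ring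
        rw [hpow, pow_orderOf_eq_one, div_self (Chars.irr_apply_one_ne_zero θ)]
        exact isIntegral_one
      refine Cong.trans (Cong.add (Cong.sum _ (g := fun θ : IrrCharacter K => n R *
          (classInner (fun k : K => extH H (η₀ : H → ℂ) k) (θ : K → ℂ) *
            (if h : (v : G) ∈ K then (θ : K → ℂ) ⟨v, h⟩ / (θ : K → ℂ) 1 else 0)))
          fun θ hθ' => ?_) (Cong.sum _ (g := fun _ => 0)
        fun θ hθ' => ?_)) (by rw [Finset.sum_const_zero, add_zero]; exact Cong.refl _ _)
      · rw [dif_pos hvK, mul_comm (n R)]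
        have := hθ θ
        rw [if_pos (Set.mem_toFinset.1 hθ')] at this
        exact this.mul_left (hcoef θ)
      · have := hθ θ
        rw [if_neg (Finset.mem_filter.1 hθ').2] at this
        simpa using this.mul_left (hcoef θ)
    have hwS : Spn (localRing M) w := by
      refine spn_congr (N := 2 ^ n₀) hn₀ mul_comm (g := h * fun v : b.1 => ((μ⁻¹).comp ι v : ℂ))
        (Star.spn_mul hhS (spn_hom _)) fun v => ?_
      have h' := ((hhn v).mul_right (hom_mem_localRing (μ⁻¹) (ι v))).symm.mono
        (by omega : n₀ ≤ m)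
      rw [mul_assoc, ← Units.val_mul, MonoidHom.inv_apply, mul_inv_cancel, Units.val_one, mul_one] at h'
      exact h'
    have hgal' : ∀ k : ℕ, k.Coprime 2 → ∀ v, w (v ^ k) = w v := by
      intro k hk v
      obtain ⟨j, hj⟩ := NilBlock.exists_orderOf_eq hM hmax v.2
      have hcop : (orderOf (v : G)).Coprime k := hj ▸ Nat.Coprime.pow_left j hk.symm
      have hz : Subgroup.zpowers (((v ^ k : b.1) : b.1) : G) = Subgroup.zpowers (v : G) := by
        rw [SubmonoidClass.coe_pow]
        refine Subgroup.eq_of_le_of_card_ge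
          (Subgroup.zpowers_le.2 (pow_mem (Subgroup.mem_zpowers _) k)) ?_
        rw [Nat.card_zpowers, Nat.card_zpowers, hcop.orderOf_pow]
      simp only [hw, hz]
      congr 2
      obtain ⟨k', hk', hk'p, -⟩ := exists_twist (p := 2) H (t := k)
        ((Nat.prime_two.coprime_iff_not_dvd).1 hk.symm)
      have hι : (ι (v ^ k)) = ι v ^ k' := by
        refine Subtype.ext ?_
        rw [map_pow, SubmonoidClass.coe_pow, SubmonoidClass.coe_pow,
          hk'p _ ⟨j, by rw [← hj]; exact (orderOf_injective H.subtype H.subtype_injective _).symm⟩]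
      rw [hι]
      exact congrArg sg rfl |>.trans (hgal k' hk' (ι v))
    refine spn_of_four hM (fun v => ?_) fun x y => ?_
    · rcases hσ (Q ⊔ Subgroup.zpowers (v : G)) with h1 | h1 <;> rcases hsg (ι v) with h2 | h2 <;>
        simp [ht, h1, h2]
    · have hwt : ∀ v, Cong M 4 (t v : ℂ) (w v) := fun v => by
        obtain ⟨-, h, -⟩ := hnσ _ (hRP v) (hR1 v)
        simp only [ht, hw, Int.cast_mul]
        exact h.symm.mul_right (intCast_mem _ _)
      exact ((((hwt 1).add (hwt x)).add (hwt y)).add (hwt (x * y))).trans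
        (spn_four hn₀ hwS hgal' x y)
  -- the conclusion
  choose l hl hlv using hform
  have e : (fun v : b.1 => (σ (Q ⊔ Subgroup.zpowers (v : G)) : ℂ) * valIn M b
      (Subgroup.centralizer ((Q ⊔ Subgroup.zpowers (v : G) : Subgroup G) : Set G))
      (χ : G → ℂ) (v : G)) =
      ∑ η : IrrCharacter H, classInner (fun h : H => (χ : G → ℂ) h) (η : H → ℂ) •
        ((fun v : b.1 => (t v : ℂ)) * fun v => l η (ι v)) := by
    funext v
    rw [valIn_restrict (hKH v) (Chars.irr_isClassFunction χ), Finset.mul_sum]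
    simp only [Finset.sum_apply, Pi.smul_apply, Pi.mul_apply, smul_eq_mul]
    refine Finset.sum_congr rfl fun η _ => ?_
    have := val_sub hM hmax hab hPC hQP hfQ (v := ⟨(v : G), hPC v.2⟩) v.2 η
    rw [← this, show val 2 M (subPair b hPC hQP) η (⟨(v : G), hPC v.2⟩ : H) =
      (sg (ι v) : ℂ) * l η (ι v) from hlv η (ι v), ht, Int.cast_mul]
    ring
  rw [e]
  refine Star.spn_sum _ fun η _ => Star.spn_smul (Star.spn_mul htS (Star.spn_comp ι (hl η))) ?_
  obtain ⟨c, hc⟩ := Chars.isCharacter_classInner_nat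
    (Chars.isCharacter_restrict H (Chars.irr_isCharacter χ)) (Chars.irr_isCharacter η)
  rw [hc]
  exact natCast_mem _ _

end Cfsg.Agent.Lib.FreeInertia
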