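import Mathlib
import Cfsg.Agent.Lib.FreeInertia.SignsOdd
import Cfsg.Agent.Lib.FreeInertia.TwoLocal

/-!
# Signs making the columns a function in the span: the prime two

The signed parts at the joins of an element with the subgroups generated by sets of involutions
cancel in pairs, leaving the signed column.
-/

set_option autoImplicit false
set_option linter.unusedSectionVars false

namespace Cfsg.Agent.Lib.FreeInertia

open Finset Cfsg Cfsg.Agent.Lib Cfsg.Agent.Lib.BrauerPairs Cfsg.Agent.Lib.AbelianStar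
open Cfsg.Agent.Lib.NilBlock (bu bu_fst centralizer_bu)
open Cfsg.Agent.Lib.Blocks (localRing mem_localRing)
open Cfsg.Agent.Lib.Star (Spn)
open scoped ComplexConjugate

universe u

attribute [local instance] Classical.propDecidable

section Two

variable {G : Type u} [Group G] [Fintype G] [Fact (Nat.Prime 2)] {M : Ideal AlgInt} [M.IsPrime]
  {B : Set (IrrCharacter G)} {b : BrauerPairIdx G}
  (hM : IsPModular 2 M) (hmax : IsMaximalBrauerPair 2 M B b.1 b.2)
  (hab : ∀ x ∈ b.1, ∀ y ∈ b.1, x * y = y * x) (hfree : IsFree b)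

include hM hmax hab hfree in
/-- A sign on the cyclic subgroups makes every column a function in the span. -/
theorem exists_signed_column : ∃ ε₀ : Subgroup G → ℤ, (∀ R, ε₀ R = 1 ∨ ε₀ R = -1) ∧
    ∀ χ : IrrCharacter G, ∃ F : b.1 → ℂ, Spn (localRing M) F ∧ ∀ v : b.1, v ≠ 1 →
      F v = (ε₀ (Subgroup.zpowers (v : G)) : ℂ) * val 2 M b χ (v : G) := by
  obtain ⟨σ, hσ, hσS⟩ := exists_sigma hM hmax hab hfree
  refine ⟨σ, hσ, fun χ => ?_⟩
  let cl : Finset b.1 → Subgroup G := fun S => Subgroup.closure ((fun x : b.1 => (x : G)) '' ↑S)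
  let F : Finset b.1 → b.1 → ℂ := fun S v =>
    (σ (cl S ⊔ Subgroup.zpowers (v : G)) : ℂ) * valIn M b
      (Subgroup.centralizer ((cl S ⊔ Subgroup.zpowers (v : G) : Subgroup G) : Set G))
      (χ : G → ℂ) (v : G)
  let Inv : Finset b.1 := univ.filter fun v => v ≠ 1 ∧ v * v = 1
  refine ⟨∑ S ∈ Inv.powerset.erase ∅, ((-1 : ℂ) ^ (S.card + 1)) • F S,
    Star.spn_sum _ fun S hS => Star.spn_smul ?_ (pow_mem (neg_mem (one_mem _)) _), fun v hv => ?_⟩
  · obtain ⟨hne, hS'⟩ := Finset.mem_erase.1 hS
    obtain ⟨x, hx⟩ := Finset.nonempty_of_ne_empty hne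
    refine hσS (cl S) ((Subgroup.closure_le _).2 ?_) (fun h => ?_) χ
    · rintro _ ⟨y, -, rfl⟩
      exact y.2
    · have hxI := Finset.mem_powerset.1 hS' hx
      have : (x : G) ∈ cl S := Subgroup.subset_closure ⟨x, hx, rfl⟩
      rw [h, Subgroup.mem_bot] at this
      exact (Finset.mem_filter.1 hxI).2.1 (Subtype.ext this)
  · obtain ⟨j, hj⟩ := NilBlock.exists_orderOf_eq hM hmax v.2
    rw [Subgroup.orderOf_coe] at hj
    have hj0 : j ≠ 0 := fun h => hv (orderOf_eq_one_iff.1 (by rw [hj, h, pow_zero]))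
    set u := v ^ 2 ^ (j - 1) with hu
    have h2 : 2 ^ (j - 1) * 2 = 2 ^ j := by rw [← pow_succ, Nat.sub_add_cancel (by omega)]
    have huI : u ∈ Inv := by
      refine Finset.mem_filter.2 ⟨Finset.mem_univ _, fun h => ?_, ?_⟩
      · have hd := orderOf_dvd_of_pow_eq_one h
        rw [hj, Nat.pow_dvd_pow_iff_le_right (by norm_num)] at hd
        omega
      · rw [hu, ← pow_two, ← pow_mul, h2, ← hj, pow_orderOf_eq_one]
    have huZ : (u : G) ∈ Subgroup.zpowers (v : G) := by
      rw [hu, SubmonoidClass.coe_pow]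
      exact pow_mem (Subgroup.mem_zpowers _) _
    have hins : ∀ S : Finset b.1, cl (insert u S) ⊔ Subgroup.zpowers (v : G) =
        cl S ⊔ Subgroup.zpowers (v : G) := by
      intro S
      refine le_antisymm (sup_le ((Subgroup.closure_le _).2 ?_) le_sup_right)
        (sup_le_sup_right (Subgroup.closure_mono
          (Set.image_mono (Finset.coe_subset.2 (Finset.subset_insert u S)))) _)
      rintro _ ⟨y, hy, rfl⟩
      rcases Finset.mem_insert.1 hy with rfl | hy
      · exact Subgroup.mem_sup_right huZ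
      · exact Subgroup.mem_sup_left (Subgroup.subset_closure ⟨y, hy, rfl⟩)
    have hsingle : ({u} : Finset b.1) ∈ Inv.powerset.erase ∅ :=
      Finset.mem_erase.2 ⟨Finset.singleton_ne_empty u,
        Finset.mem_powerset.2 (Finset.singleton_subset_iff.2 huI)⟩
    simp only [Finset.sum_apply, Pi.smul_apply, smul_eq_mul]
    rw [← Finset.add_sum_erase _ _ hsingle]
    have hrest : ∑ S ∈ (Inv.powerset.erase ∅).erase {u}, (-1 : ℂ) ^ (S.card + 1) * F S v = 0 := by
      refine Finset.sum_involution (fun S _ => if u ∈ S then S.erase u else insert u S)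
        (fun S hS => ?_) (fun S hS _ => ?_) (fun S hS => ?_) (fun S hS => ?_)
      · skip
        split_ifs with h
        · have e := hins (S.erase u)
          rw [Finset.insert_erase h] at e
          have hc := Finset.card_erase_add_one h
          simp only [F, e]
          rw [← hc, pow_succ _ ((S.erase u).card + 1)]
          ring
        · simp only [F, hins S]
          rw [Finset.card_insert_of_notMem h, pow_succ _ (S.card + 1)]
          ring
      · skip
        split_ifs with h
        · exact fun he => Finset.notMem_erase u S (he.symm ▸ h)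
        · exact fun he => h (he ▸ Finset.mem_insert_self u S)
      · simp only [Finset.mem_erase, Finset.mem_powerset] at hS ⊢
        obtain ⟨hSu, hS0, hSI⟩ := hS
        split_ifs with h
        · refine ⟨fun he => Finset.notMem_erase u S (he.symm ▸ Finset.mem_singleton_self u),
            fun he => hSu (Finset.Subset.antisymm (fun x hx => ?_) (Finset.singleton_subset_iff.2 h)),
            (Finset.erase_subset _ _).trans hSI⟩
          by_contra hxu
          exact Finset.notMem_empty x (he ▸ Finset.mem_erase.2 ⟨Finset.mem_singleton.not.1 hxu, hx⟩)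
        · refine ⟨fun he => ?_, Finset.insert_ne_empty u S, Finset.insert_subset huI hSI⟩
          obtain ⟨x, hx⟩ := Finset.nonempty_of_ne_empty hS0
          have := Finset.mem_singleton.1 (he ▸ Finset.mem_insert_of_mem hx : x ∈ ({u} : Finset b.1))
          exact h (this ▸ hx)
      · skip
        by_cases h : u ∈ S
        · simp [h]
        · simp [h, Finset.erase_insert h]
    rw [hrest, add_zero, Finset.card_singleton]
    have hZ : cl {u} ⊔ Subgroup.zpowers (v : G) = Subgroup.zpowers (v : G) :=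
      sup_eq_right.2 ((Subgroup.closure_le _).2 (by simpa using huZ))
    simp only [F, hZ, ← val_eq_valIn hM hmax hab v.2]
    norm_num

include hM hmax hab hfree in
theorem hasSigns_two_aux (hP1 : ∃ w : b.1, w ≠ 1) : HasSigns 2 M B b hmax.1.1.2 := by
  obtain ⟨w₀, hw₀⟩ := hP1
  obtain ⟨ψ, hψ, h0⟩ := Blocks.exists_height_zero (p := 2) hmax.1.2.1
  obtain ⟨k, hk, hkv⟩ := exists_conj_twist hM hmax hab
  set ψ' := PowMap.powIrr hk ψ
  set e := Nat.card (iner hmax.1.1.2) with he
  obtain ⟨ε₀, hε₀, hcol⟩ := exists_signed_column hM hmax hab hfree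
  obtain ⟨K, hK, hKv⟩ := hcol ψ
  haveI : Finite (MulAut b.1) := Finite.of_injective _ DFunLike.coe_injective
  haveI := Fintype.ofFinite (iner hmax.1.1.2)
  obtain ⟨c, hc⟩ : ∃ c, e + 1 = 2 * c := by
    have h := not_dvd_card_aut hM hmax hab
    change ¬ 2 ∣ e at h
    exact ⟨(e + 1) / 2, by omega⟩
  have hcomm : ∀ x y : b.1, x * y = y * x := fun x y => Subtype.ext (hab _ x.2 _ y.2)
  have hn := NilBlock.card_eq hM hmax
  have hne1 : ∀ {α : MulAut b.1} {x : b.1}, x ≠ 1 → α x ≠ 1 := fun {α x} hx h =>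
    hx (α.injective (h.trans (map_one α).symm))
  have hW : ∀ (χ : IrrCharacter G) (w : b.1), w ≠ 1 →
      W 2 M b e χ ψ' w = val 2 M b χ w * val 2 M b ψ w := fun χ w hw => by
    rw [W_eq_val hM hmax hab hfree he.symm hw, hkv ψ w.2
      (isNilpotent_bu hM hmax hab hfree w.2 fun h => hw (Subtype.ext h)), Complex.conj_conj]
  have hR : ∀ (χ : IrrCharacter G) (w : b.1), val 2 M b χ w ∈ localRing M := fun χ w => by
    obtain ⟨j, hj⟩ := NilBlock.exists_orderOf_eq hM hmax w.2
    exact Blocks.isIntegral_mem_localRing (isIntegral_val χ hj)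
  have hV := spn_W hM hmax hab hfree he.symm hψ ψ'
  have hV1 : ¬ MemLocalIdeal M (W 2 M b e ψ ψ' 1) := fun h => by
    have h1 := Blocks.memLocalIdeal_add (spn_sub_mem hM hn hcomm hV w₀) h
    rw [sub_add_cancel, hW ψ w₀ hw₀] at h1
    exact Blocks.not_memLocalIdeal_mul (mem_localRing.1 (hR ψ w₀)) (mem_localRing.1 (hR ψ w₀))
      (val_not_mem hM hmax hab hfree he.symm hψ h0 hw₀)
      (val_not_mem hM hmax hab hfree he.symm hψ h0 hw₀) h1
  obtain ⟨g, hg, hgV⟩ := exists_spn_inv hM hn hcomm hV hV1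
  set ε : b.1 → ℤ := fun w =>
    ∏ α : iner hmax.1.1.2, ε₀ (Subgroup.zpowers (((α : MulAut b.1) w : b.1) : G)) with hε
  refine ⟨ε, fun w => ?_, fun α hα w => ?_, fun t ht w => ?_, fun χ hχ => ?_⟩
  · exact Finset.prod_induction _ (fun x => x = 1 ∨ x = -1)
      (fun x y hx hy => by rcases hx with rfl | rfl <;> rcases hy with rfl | rfl <;> simp)
      (Or.inl rfl) fun α _ => hε₀ _
  · exact Fintype.prod_equiv (Equiv.mulRight (⟨α, hα⟩ : iner hmax.1.1.2)) _ _ fun β => rfl
  · refine Finset.prod_congr rfl fun α _ => ?_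
    rw [map_pow, SubmonoidClass.coe_pow, Star.zpowers_pow_of_coprime ht]
  · refine ⟨fun w => (∏ α : iner hmax.1.1.2, K ((α : MulAut b.1) w)) *
        (W 2 M b e χ ψ' w * g w ^ c),
      Star.spn_mul (spn_prod _ fun α _ => Star.spn_comp (α : MulAut b.1).toMonoidHom hK)
        (Star.spn_mul (spn_W hM hmax hab hfree he.symm hχ ψ') (spn_pow hg c)), fun w hw => ?_⟩
    have hprod : ∏ α : iner hmax.1.1.2, K ((α : MulAut b.1) w) =
        (ε w : ℂ) * val 2 M b ψ w ^ e := by
      rw [Finset.prod_congr rfl fun (α : iner hmax.1.1.2) _ =>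
          (hKv _ (hne1 hw)).trans (congrArg _ (val_iner hM hmax hab hfree α.2 hw ψ)),
        Finset.prod_mul_distrib, Finset.prod_const, Finset.card_univ, Fintype.card_eq_nat_card,
        ← he, hε]
      push_cast
      rfl
    have hone : Cong M (2 ^ blockDefect 2 B) ((g w * W 2 M b e ψ ψ' w) ^ c) 1 := by
      have hmem : g w * W 2 M b e ψ ψ' w ∈ localRing M :=
        mul_mem (spn_apply_mem hg w) (spn_apply_mem hV w)
      have := Cong.prod (M := M) (Finset.range c) (f := fun _ => g w * W 2 M b e ψ ψ' w)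
        (g := fun _ => 1) (fun _ _ => hgV w) (fun _ _ => hmem) (fun _ _ => one_mem _)
      simpa using this
    rw [hn]
    simp only [hprod, hW χ w hw]
    rw [hW ψ w hw] at hone
    have h := (hone.mul_left (c := (ε w : ℂ) * val 2 M b χ w)
      (mul_mem (intCast_mem _ _) (hR χ w))).symm
    rw [mul_one] at h
    refine h.trans ((congrArg (fun z => Cong M (2 ^ blockDefect 2 B) z _) ?_).mpr (Cong.refl _ _))
    have hpow : val 2 M b ψ w ^ e * val 2 M b ψ w = (val 2 M b ψ w * val 2 M b ψ w) ^ c := by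
      rw [← pow_succ, hc, pow_mul, pow_two]
    rw [mul_pow, ← hpow]
    ring

end Two

variable {G : Type u} [Group G] [Fintype G] {p : ℕ} {M : Ideal AlgInt} [Fact p.Prime] [M.IsPrime]
  {B : Set (IrrCharacter G)} {b : BrauerPairIdx G}

/-- The signs for the prime two. -/
theorem hasSigns_two (hM : IsPModular p M) (hmax : IsMaximalBrauerPair p M B b.1 b.2)
    (hab : ∀ x ∈ b.1, ∀ y ∈ b.1, x * y = y * x) (hfree : IsFree b) (hp : p = 2)
    (hP1 : ∃ w : b.1, w ≠ 1) : HasSigns p M B b hmax.1.1.2 := by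
  subst hp
  exact hasSigns_two_aux hM hmax hab hfree hP1

/-- Every block with free inertial action on an abelian defect group has signs. -/
theorem hasSigns (hM : IsPModular p M) (hmax : IsMaximalBrauerPair p M B b.1 b.2)
    (hab : ∀ x ∈ b.1, ∀ y ∈ b.1, x * y = y * x) (hfree : IsFree b)
    (hP1 : ∃ w : b.1, w ≠ 1) : HasSigns p M B b hmax.1.1.2 := by
  by_cases hp : p = 2
  · exact hasSigns_two hM hmax hab hfree hp hP1
  · exact hasSigns_odd hM hmax hab hfree hp hP1

end Cfsg.Agent.Lib.FreeInertia
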