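import Mathlib
import Cfsg.Agent.Lib.FreeInertia.Lattice
import Cfsg.Agent.Lib.Chars.Induced
import Cfsg.Agent.Lib.AbelianStar.Trace

/-!
# The characters of a Frobenius extension of an abelian group
-/

set_option autoImplicit false
set_option linter.unusedSectionVars false

namespace Cfsg.Agent.Lib.FreeInertia

open Finset Cfsg Cfsg.Agent.Lib
open Cfsg.Agent.Lib.AbelianStar (sum_monoidHom_units)
open scoped ComplexConjugate

universe u v

attribute [local instance] Classical.propDecidable

variable {F : Type v} [Group F] [Fintype F] (Q : Subgroup F) [Q.Normal] {P : Type u} [Group P]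
  [Fintype P] (φ : Q ≃* P) (A : Subgroup (MulAut P)) [Fintype A]

/-- Conjugation on a normal subgroup. -/
def conjQ (Q : Subgroup F) [hQn : Q.Normal] (g : F) (q : Q) : Q :=
  ⟨g * (q : F) * g⁻¹, hQn.conj_mem (q : F) q.2 g⟩

/-- `F` acts on `Q` through `A`, transported along `φ`, with kernel `Q`. -/
structure Transports : Prop where
  mem : ∀ g : F, ∃ α ∈ A, ∀ q : Q, φ (conjQ Q g q) = α (φ q)
  surj : ∀ α ∈ A, ∃ g : F, ∀ q : Q, φ (conjQ Q g q) = α (φ q)
  cent : Subgroup.centralizer (Q : Set F) = Q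
  comm : ∀ α ∈ A, ∀ β ∈ A, α * β = β * α

variable {Q φ A}

theorem Transports.exists_hom (h : Transports Q φ A) : ∃ f : F →* A, Function.Surjective f ∧
    f.ker = Q ∧ ∀ (g : F) (q : Q), φ (conjQ Q g q) = (f g : MulAut P) (φ q) := by
  choose α hα hαq using h.mem
  have hmul : ∀ g k, α (g * k) = α g * α k := fun g k => MulEquiv.ext fun x => by
    obtain ⟨q, rfl⟩ := φ.surjective x
    rw [MulAut.mul_apply, ← hαq (g * k) q, ← hαq k q, ← hαq g]
    congr 1
    exact Subtype.ext (by simp [conjQ, mul_assoc])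
  let f : F →* A := MonoidHom.mk' (fun g => ⟨α g, hα g⟩) fun g k => Subtype.ext (hmul g k)
  refine ⟨f, fun β => ?_, ?_, hαq⟩
  · obtain ⟨g, hg⟩ := h.surj β β.2
    refine ⟨g, Subtype.ext (MulEquiv.ext fun x => ?_)⟩
    obtain ⟨q, rfl⟩ := φ.surjective x
    exact (hαq g q).symm.trans (hg q)
  · ext g
    have hiff : g ∈ Q ↔ g ∈ Subgroup.centralizer (Q : Set F) := by rw [h.cent]
    rw [hiff, MonoidHom.mem_ker, Subgroup.mem_centralizer_iff]
    refine ⟨fun h1 q hq => ?_, fun h1 => Subtype.ext (MulEquiv.ext fun x => ?_)⟩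
    · have h2 := hαq g ⟨q, hq⟩
      rw [show α g = 1 from congrArg Subtype.val h1, MulAut.one_apply] at h2
      have h3 : g * q * g⁻¹ = q := congrArg Subtype.val (φ.injective h2)
      calc q * g = g * q * g⁻¹ * g := by rw [h3]
        _ = g * q := by group
    · obtain ⟨q, rfl⟩ := φ.surjective x
      show α g (φ q) = φ q
      rw [← hαq g q]
      congr 1
      refine Subtype.ext ?_
      show g * (q : F) * g⁻¹ = q
      rw [← h1 q q.2, mul_inv_cancel_right]

theorem Transports.comm_mem (h : Transports Q φ A) (g k : F) : g * k * g⁻¹ * k⁻¹ ∈ Q := by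
  obtain ⟨f, -, hker, -⟩ := h.exists_hom
  have hc : f g * f k = f k * f g := Subtype.ext (h.comm _ (f g).2 _ (f k).2)
  exact hker.le (MonoidHom.mem_ker.2 (by rw [map_mul, map_mul, map_mul, hc, map_inv, map_inv]; group))

theorem Transports.card (h : Transports Q φ A) : Nat.card F = Nat.card A * Nat.card P := by
  obtain ⟨f, hsur, hker, -⟩ := h.exists_hom
  rw [← Subgroup.index_mul_card f.ker, Subgroup.index_ker, MonoidHom.range_eq_top.2 hsur,
    Subgroup.card_top, hker, Nat.card_congr φ.toEquiv]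

/-- The sum over `F` of a function of the induced automorphism. -/
theorem Transports.sum_conj (h : Transports Q φ A) (l : P →* ℂˣ) (q : Q) :
    ∑ x : F, (l (φ (conjQ Q x q)) : ℂ) =
      (Nat.card P : ℂ) * ∑ β : A, (l ((β : MulAut P) (φ q)) : ℂ) := by
  obtain ⟨f, hsur, hker, hf⟩ := h.exists_hom
  simp only [hf]
  have hfib : ∀ β : A, (univ.filter fun x => f x = β).card = Nat.card P := by
    intro β
    obtain ⟨g, rfl⟩ := hsur β
    rw [← Nat.card_congr φ.toEquiv, ← hker, Nat.card_eq_fintype_card, ← Finset.card_univ]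
    refine (Finset.card_bij (fun (k : f.ker) _ => g * (k : F)) (fun k _ => ?_)
      (fun a _ c _ hac => Subtype.ext (mul_left_cancel hac)) fun x hx => ?_).symm
    · exact Finset.mem_filter.2 ⟨Finset.mem_univ _, by rw [map_mul, MonoidHom.mem_ker.1 k.2, mul_one]⟩
    · refine ⟨⟨g⁻¹ * x, ?_⟩, Finset.mem_univ _, by simp⟩
      rw [MonoidHom.mem_ker, map_mul, map_inv, (Finset.mem_filter.1 hx).2, inv_mul_cancel]
  rw [← Finset.sum_fiberwise univ f, Finset.mul_sum]
  refine Finset.sum_congr rfl fun β _ => ?_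
  rw [Finset.sum_congr rfl (g := fun _ => (l ((β : MulAut P) (φ q)) : ℂ)) fun x hx => by
      rw [← (Finset.mem_filter.1 hx).2],
    Finset.sum_const, hfib, nsmul_eq_mul]

variable (hfree : ∀ α ∈ A, ∀ x : P, x ≠ 1 → α x = x → α = 1)
  {J : Type u} [Fintype J] {rep : J → (P →* ℂˣ)}

/-- The irreducible characters of `F`. -/
theorem Transports.exists_irr (h : Transports Q φ A) (hr1 : ∀ j, rep j ≠ 1)
    (hrinj : ∀ i j, ∀ α ∈ A, act (rep j) α = rep i → i = j ∧ α = 1)
    (ht : Fintype.card J * Nat.card A = Nat.card P - 1) :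
    ∃ (S : Finset (IrrCharacter F)) (θ : J → IrrCharacter F),
      Function.Injective θ ∧ (∀ j, θ j ∉ S) ∧ S ∪ univ.image θ = univ ∧ S.card = Nat.card A ∧
      (∀ η ∈ S, ∀ q : Q, (η : F → ℂ) q = 1) ∧
      (∀ g : F, g ∉ Q → ∑ η ∈ S, (η : F → ℂ) g = 0) ∧
      (∀ j g, g ∉ Q → (θ j : F → ℂ) g = 0) ∧
      (∀ j (q : Q), (θ j : F → ℂ) q = ∑ β : A, (rep j ((β : MulAut P) (φ q)) : ℂ)) := by
  haveI : Fintype Q := Fintype.ofFinite _
  have hQP : Nat.card Q = Nat.card P := Nat.card_congr φ.toEquiv
  have hPne : (Nat.card P : ℂ) ≠ 0 := Chars.natCard_ne_zero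
  -- the linear characters
  letI : CommGroup (F ⧸ Q) :=
    { (inferInstance : Group (F ⧸ Q)) with
      mul_comm := by
        intro a c
        obtain ⟨a, rfl⟩ := QuotientGroup.mk_surjective a
        obtain ⟨c, rfl⟩ := QuotientGroup.mk_surjective c
        rw [← QuotientGroup.mk_mul, ← QuotientGroup.mk_mul, eq_comm, QuotientGroup.eq]
        have := h.comm_mem c⁻¹ a⁻¹
        rw [show (c * a)⁻¹ * (a * c) = a⁻¹ * c⁻¹ * a * c by group]
        simpa using h.comm_mem a⁻¹ c⁻¹ }
  haveI : Fintype (F ⧸ Q) := Fintype.ofFinite _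
  haveI : Finite ((F ⧸ Q) →* ℂˣ) := Finite.of_injective _ Chars.linIrr_injective
  haveI := Fintype.ofFinite ((F ⧸ Q) →* ℂˣ)
  let lam : ((F ⧸ Q) →* ℂˣ) → IrrCharacter F := fun L =>
    Chars.linIrr (L.comp (QuotientGroup.mk' Q))
  have hlam : Function.Injective lam := fun L L' hL =>
    (MonoidHom.cancel_right (QuotientGroup.mk'_surjective Q)).1 (Chars.linIrr_injective hL)
  have hlamQ : ∀ L (q : Q), (lam L : F → ℂ) q = 1 := fun L q => by
    show ((L (QuotientGroup.mk' Q q)) : ℂ) = 1
    rw [show (QuotientGroup.mk' Q) (q : F) = 1 from (QuotientGroup.eq_one_iff _).2 q.2, map_one,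
      Units.val_one]
  -- the induced characters
  let l' : J → Q → ℂ := fun j q => (rep j (φ q) : ℂ)
  have hl' : ∀ j, l' j = (Chars.linIrr ((rep j).comp φ.toMonoidHom) : Q → ℂ) := fun j => rfl
  have hoff : ∀ j g, g ∉ Q → indFun Q (l' j) g = 0 := fun j g hg => by
    rw [indFun, Finset.sum_eq_zero fun x _ => ?_, mul_zero]
    refine Chars.extendByZero_of_not_mem _ fun hx => hg ?_
    have := Subgroup.Normal.conj_mem (inferInstance : Q.Normal) _ hx x
    simpa [mul_assoc] using this
  have hon : ∀ j (q : Q), indFun Q (l' j) q = ∑ β : A, (rep j ((β : MulAut P) (φ q)) : ℂ) := by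
    intro j q
    rw [indFun, Fintype.sum_equiv (Equiv.inv F) (fun x => extendByZero Q (l' j) (x⁻¹ * q * x))
      (fun x => (rep j (φ (conjQ Q x q)) : ℂ)) fun x => ?_]
    · rw [h.sum_conj (rep j) q, hQP, inv_mul_cancel_left₀ hPne]
    · have hm : x⁻¹ * (q : F) * x ∈ Q := by
        simpa using (inferInstance : Q.Normal).conj_mem q q.2 x⁻¹
      rw [Chars.extendByZero_of_mem _ hm]
      simp only [l', conjQ, Equiv.inv_apply, inv_inv]
  have hchar : ∀ j, IsCharacter F (indFun Q (l' j)) := fun j => by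
    rw [hl']; exact Chars.isCharacter_indFun Q (Chars.irr_isCharacter _)
  have hinner : ∀ i j, classInner (indFun Q (l' i)) (indFun Q (l' j)) = if i = j then 1 else 0 := by
    intro i j
    rw [Chars.classInner_indFun_left Q _ _ (Chars.isClassFunction_indFun Q _)]
    have hres : (fun q : Q => indFun Q (l' j) q) =
        ∑ β : A, (Chars.linIrr ((act (rep j) β).comp φ.toMonoidHom) : Q → ℂ) := funext fun q => by
      rw [hon, Finset.sum_apply]
      rfl
    rw [hres, Chars.classInner_sum_right, hl',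
      Finset.sum_congr rfl (g := fun β : A => if act (rep j) β = rep i then (1 : ℂ) else 0)
        fun β _ => by
        split_ifs with hh
        · rw [hh]; exact Chars.classInner_irr_self _
        · exact Chars.classInner_irr_of_ne fun he => hh ((MonoidHom.cancel_right
            (g₁ := act (rep j) β) (g₂ := rep i) φ.surjective).1 (Chars.linIrr_injective he).symm)]
    split_ifs with hij
    · subst hij
      rw [Finset.sum_eq_single (1 : A) (fun β _ hβ => if_neg fun h' =>
        hβ (Subtype.ext (hrinj i i β β.2 h').2)) (by simp), if_pos]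
      exact act_one _
    · exact Finset.sum_eq_zero fun β _ => if_neg fun h' => hij (hrinj i j β β.2 h').1
  let θ : J → IrrCharacter F := fun j => ⟨indFun Q (l' j),
    (Chars.isIrrCharacter_iff_classInner_eq_one (hchar j)).2 (by rw [hinner, if_pos rfl])⟩
  have hθinj : Function.Injective θ := fun i j hij => by
    by_contra hne
    have h1 := hinner i j
    rw [if_neg hne, show indFun Q (l' i) = indFun Q (l' j) from congrArg Subtype.val hij, hinner,
      if_pos rfl] at h1
    exact one_ne_zero h1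
  have hdisj : ∀ j L, lam L ≠ θ j := fun j L hL => by
    have h1 : ∀ q : Q, ∑ β : A, (rep j ((β : MulAut P) (φ q)) : ℂ) = 1 := fun q => by
      rw [← hon, show indFun Q (l' j) = (lam L : F → ℂ) from congrArg Subtype.val hL.symm, hlamQ]
    have h2 : ∑ q : Q, ∑ β : A, (rep j ((β : MulAut P) (φ q)) : ℂ) = 0 := by
      rw [Finset.sum_comm]
      refine Finset.sum_eq_zero fun β _ => ?_
      rw [← Fintype.sum_equiv φ.symm.toEquiv (fun v : P => (act (rep j) β v : ℂ)) _ fun v => by simp,
        sum_hom_apply, if_neg (act_ne_one (hr1 j) _)]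
    simp only [h1, Finset.sum_const, Finset.card_univ, nsmul_eq_mul, mul_one,
      Nat.cast_eq_zero, Fintype.card_ne_zero] at h2
  set S := univ.image lam with hS
  have hScard : S.card = Nat.card A := by
    rw [hS, Finset.card_image_of_injective _ hlam, Finset.card_univ, ← Nat.card_eq_fintype_card,
      Chars.card_monoidHom_units, show commutator (F ⧸ Q) = ⊥ from
        (commutator_eq_bot_iff_center_eq_top _).2 CommGroup.center_eq_top, Subgroup.index_bot]
    have h1 := Subgroup.index_mul_card Q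
    rw [hQP, h.card] at h1
    exact Nat.eq_of_mul_eq_mul_right Nat.card_pos h1
  have hθS : ∀ j, θ j ∉ S := fun j hj => by
    obtain ⟨L, -, hL⟩ := Finset.mem_image.1 hj
    exact hdisj j L hL
  have hdeg : ∀ j, (θ j : F → ℂ) 1 = (Nat.card A : ℂ) := fun j => by
    show indFun Q (l' j) ((1 : Q) : F) = _
    rw [hon]
    simp [Nat.card_eq_fintype_card]
  have hall : S ∪ univ.image θ = univ := by
    by_contra hne
    obtain ⟨χ, hχ⟩ : ∃ χ, χ ∉ S ∪ univ.image θ := not_forall.1 fun h' =>
      hne (Finset.eq_univ_of_forall h')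
    have hd : Disjoint S (univ.image θ) := Finset.disjoint_left.2 fun χ h1 h2 => by
      obtain ⟨j, -, rfl⟩ := Finset.mem_image.1 h2
      exact hθS j h1
    have hsum := Chars.sum_degree_sq (G := F)
    rw [← Finset.sum_sdiff (Finset.subset_univ (S ∪ univ.image θ)), Finset.sum_union hd,
      Finset.sum_image fun a _ c _ hh => hθinj hh,
      Finset.sum_congr rfl (g := fun _ => (1 : ℂ)) (s₁ := S) fun η hη => by
        obtain ⟨L, -, rfl⟩ := Finset.mem_image.1 hη
        rw [show (1 : F) = ((1 : Q) : F) from rfl, hlamQ, one_pow],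
      Finset.sum_congr rfl (g := fun _ => ((Nat.card A : ℂ)) ^ 2) (s₁ := (univ : Finset J))
        fun j _ => by rw [hdeg]] at hsum
    simp only [Finset.sum_const, nsmul_eq_mul, mul_one, Finset.card_univ, hScard] at hsum
    have h3 : ∑ η ∈ univ \ (S ∪ univ.image θ), (charDegree (η : F → ℂ) ^ 2 : ℕ) = 0 := by
      have h4 : ((∑ η ∈ univ \ (S ∪ univ.image θ), (charDegree (η : F → ℂ) ^ 2 : ℕ) : ℕ) : ℂ) +
          ((Nat.card A + Fintype.card J * Nat.card A ^ 2 : ℕ) : ℂ) = (Nat.card F : ℂ) := by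
        rw [← hsum, Nat.cast_sum]
        push_cast
        simp only [(Blocks.HeightZero.charDegree_eq _).1]
      have h5 : (∑ η ∈ univ \ (S ∪ univ.image θ), (charDegree (η : F → ℂ) ^ 2 : ℕ)) +
          (Nat.card A + Fintype.card J * Nat.card A ^ 2) = Nat.card F := by exact_mod_cast h4
      have hF := h.card
      have hP1 : Nat.card P = Fintype.card J * Nat.card A + 1 := by
        have := (Nat.card_pos : 0 < Nat.card P)
        omega
      rw [hP1] at hF
      nlinarith
    have h6 := Finset.sum_eq_zero_iff.1 h3 χ (Finset.mem_sdiff.2 ⟨Finset.mem_univ _, hχ⟩)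
    exact (Blocks.HeightZero.charDegree_eq χ).2 (pow_eq_zero_iff two_ne_zero |>.1 h6)
  refine ⟨S, θ, hθinj, hθS, hall, hScard, fun η hη q => ?_, fun g hg => ?_, hoff, hon⟩
  · obtain ⟨L, -, rfl⟩ := Finset.mem_image.1 hη
    exact hlamQ L q
  · rw [hS, Finset.sum_image fun a _ c _ hh => hlam hh]
    exact (sum_monoidHom_units (QuotientGroup.mk' Q g)).trans
      (if_neg fun h' => hg ((QuotientGroup.eq_one_iff g).1 h'))

end Cfsg.Agent.Lib.FreeInertia
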