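import Mathlib
import Cfsg.Agent.Lib.FreeInertia.Columns
import Cfsg.Agent.Lib.KleinBlock.Sections

/-!
# The functions attached to the columns of the subsections
-/

set_option autoImplicit false
set_option linter.unusedSectionVars false

namespace Cfsg.Agent.Lib.FreeInertia

open Finset Cfsg Cfsg.Agent.Lib Cfsg.Agent.Lib.BrauerPairs Cfsg.Agent.Lib.AbelianStar
open Cfsg.Agent.Lib.NilBlock (bu bu_fst centralizer_bu con)
open Cfsg.Agent.Lib.Blocks (localRing mem_localRing)
open scoped ComplexConjugate

universe u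

attribute [local instance] Classical.propDecidable

theorem card_centralizer_inv {G : Type u} [Group G] (g : G) :
    Nat.card (Subgroup.centralizer ({g⁻¹} : Set G)) = Nat.card (Subgroup.centralizer ({g} : Set G)) := by
  congr 2
  ext c
  simp only [Subgroup.mem_centralizer_singleton_iff]
  exact ⟨fun h => by simpa using (show Commute c g⁻¹ from h).inv_right.eq,
    fun h => (show Commute c g from h).inv_right.eq⟩

/-- Centralizers of sections, for a subgroup equal to the centralizer of the `p`-part. -/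
theorem card_centralizer_section {G : Type u} [Group G] [Fintype G] {p : ℕ} [Fact p.Prime] {x : G}
    (hx : ∃ k : ℕ, orderOf x = p ^ k) {C : Subgroup G}
    (hC : C = Subgroup.centralizer ({x} : Set G)) {y : C} (hy : ¬ p ∣ orderOf y) :
    Nat.card (Subgroup.centralizer ({x * (y : G)} : Set G)) =
      Nat.card (Subgroup.centralizer ({y} : Set C)) := by
  subst hC
  exact Blocks.PrincipalSection.card_centralizer_mul hx hy

variable {G : Type u} [Group G] [Fintype G] {p : ℕ} {M : Ideal AlgInt} [Fact p.Prime] [M.IsPrime]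
  {B : Set (IrrCharacter G)} {b : BrauerPairIdx G}
  (hM : IsPModular p M) (hmax : IsMaximalBrauerPair p M B b.1 b.2)
  (hab : ∀ x ∈ b.1, ∀ y ∈ b.1, x * y = y * x)

include hM hmax hab in
/-- The function attached to a nilpotent column vanishes on regular elements and is divisible by
the order of the pair and by the orders of centralizers. -/
theorem column_props {v : G} (hv : v ∈ b.1) (hv1 : v ≠ 1)
    (hnil : IsNilpotentBlock p M (bu p M b v).2) (g : G) :
    (¬ p ∣ orderOf g → ∑ χ ∈ B.toFinset, val p M b χ v * (χ : G → ℂ) g = 0) ∧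
    MemLocalRing M ((∑ χ ∈ B.toFinset, val p M b χ v * (χ : G → ℂ) g) / (Nat.card b.1 : ℂ)) ∧
    MemLocalRing M ((∑ χ ∈ B.toFinset, val p M b χ v * (χ : G → ℂ) g) /
      (Nat.card (Subgroup.centralizer ({g} : Set G)) : ℂ)) := by
  obtain ⟨ξ, hξ⟩ := Blocks.isPBlock_nonempty hnil.1
  obtain ⟨j, hj⟩ := NilBlock.exists_orderOf_eq hM hmax hv
  have hx : ∃ k : ℕ, orderOf v = p ^ k := ⟨j, hj⟩
  have hC := centralizer_bu (p := p) (M := M) (b := b) v
  have hind := NilBlock.isInducedBlock_bu hM hmax hv
  have hPne : (Nat.card b.1 : ℂ) ≠ 0 := Chars.natCard_ne_zero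
  have hsum : ∑ χ ∈ B.toFinset, val p M b χ v * (χ : G → ℂ) g =
      (Nat.card b.1 : ℂ) * ∑ χ : IrrCharacter G, Contrib.secCoef p v χ ξ * (χ : G → ℂ) g := by
    rw [← Finset.sum_subset (Finset.subset_univ B.toFinset) fun χ _ hχ => by
      rw [Contrib.secCoef_eq_zero hM hx hC hind (fun h => hχ (Set.mem_toFinset.2 h)) hξ, zero_mul],
      Finset.mul_sum]
    refine Finset.sum_congr rfl fun χ _ => ?_
    rw [secCoef_eq_val hM hmax hab hv hnil χ hξ, ← mul_assoc, mul_div_cancel₀ _ hPne]
  rw [KleinBlock.sum_secCoef_mul_apply hx hC ξ g] at hsum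
  by_cases hex : ∃ y : Subgroup.centralizer ((bu p M b v).1 : Set G),
      ¬ p ∣ orderOf y ∧ IsConj (v * (y : G)) g⁻¹
  swap
  · rw [dif_neg hex, mul_zero] at hsum
    rw [hsum, zero_div, zero_div]
    exact ⟨fun _ => rfl, mem_localRing.1 (Subring.zero_mem _),
      mem_localRing.1 (Subring.zero_mem _)⟩
  rw [dif_pos hex] at hsum
  obtain ⟨hy, hconj⟩ := hex.choose_spec
  generalize hex.choose = y at hy hconj hsum
  refine ⟨fun hreg => absurd ?_ hreg, ?_, ?_⟩
  · rw [← orderOf_inv]
    obtain ⟨c, hc⟩ := isConj_iff.1 hconj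
    rw [← hc, show orderOf (c * (v * (y : G)) * c⁻¹) = orderOf (v * (y : G)) from
      orderOf_injective (MulAut.conj c).toMonoidHom (MulAut.conj c).injective _]
    have hcom : Commute v (y : G) :=
      (show (y : G) * v = v * y from Subgroup.mem_centralizer_singleton_iff.1 (hC.le y.2)).symm
    rw [hcom.orderOf_mul_eq_mul_orderOf_of_coprime (by
      rw [hj, Subgroup.orderOf_coe]
      exact Nat.Coprime.pow_left _ ((Fact.out : p.Prime).coprime_iff_not_dvd.2 hy)), hj]
    refine dvd_mul_of_dvd_left (dvd_pow_self p ?_) _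
    intro h0
    rw [h0, pow_zero, orderOf_eq_one_iff] at hj
    exact hv1 hj
  · rw [hsum, mul_div_cancel_left₀ _ hPne, ← Chars.irr_inv]
    exact mem_localRing.1 (Blocks.isIntegral_mem_localRing (Chars.irr_isIntegral ξ _))
  · obtain ⟨hall, -, -⟩ := local_facts hM hmax hab hv hnil
    let a : IrrCharacter (Subgroup.centralizer ((bu p M b v).1 : Set G)) → ℂ :=
      fun θ => if θ ∈ (bu p M b v).2 then 1 else 0
    have hexp : ∀ z, ∑ θ, a θ * (θ : Subgroup.centralizer ((bu p M b v).1 : Set G) → ℂ) z =
        (Nat.card b.1 : ℂ) *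
          pRegularPart p (ξ : Subgroup.centralizer ((bu p M b v).1 : Set G) → ℂ) z := fun z => by
      rw [BrauerFeit.pRegularPart_eq_sum, Finset.mul_sum]
      refine Finset.sum_congr rfl fun θ _ => ?_
      by_cases hθ : θ ∈ (bu p M b v).2
      · rw [hall ξ hξ θ hθ, ← mul_assoc, mul_inv_cancel₀ hPne, show a θ = 1 from if_pos hθ]
      · rw [BrauerFeit.regCoef_eq_zero_of_not_mem (BrauerFeit.regOrth hM) hnil.1 hξ hθ, zero_mul,
          mul_zero, show a θ = 0 from if_neg hθ, zero_mul]
    have hy' : ¬ p ∣ orderOf y⁻¹ := by rwa [orderOf_inv]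
    have h := KleinBlock.memLocalRing_div_centralizer hM a (fun θ => mem_localRing.1 (by
        simp only [a]
        split_ifs
        · exact Subring.one_mem _
        · exact Subring.zero_mem _))
      (fun z hz => by rw [hexp, BrauerFeit.pRegularPart_apply, if_pos hz, mul_zero]) hy'
    rw [hexp, BrauerFeit.pRegularPart_apply, if_neg hy', card_centralizer_inv] at h
    rw [hsum, ← Chars.irr_inv, show Nat.card (Subgroup.centralizer ({g} : Set G)) =
      Nat.card (Subgroup.centralizer ({y} : Set (Subgroup.centralizer ((bu p M b v).1 : Set G)))) by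
      rw [← card_centralizer_inv g, ← Chars.card_centralizer_eq_of_isConj hconj]
      exact card_centralizer_section hx hC hy]
    exact h

end Cfsg.Agent.Lib.FreeInertia
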