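import Mathlib
import Cfsg.Agent.Lib.FreeInertia.Rows
import Cfsg.Agent.Lib.FreeInertia.Section

/-!
# The shape of a block with free inertial action attaining the count
-/

set_option autoImplicit false
set_option linter.unusedSectionVars false

namespace Cfsg.Agent.Lib.FreeInertia

open Finset Cfsg Cfsg.Agent.Lib Cfsg.Agent.Lib.BrauerPairs Cfsg.Agent.Lib.AbelianStar
open Cfsg.Agent.Lib.NilBlock (bu bu_fst centralizer_bu con)
open Cfsg.Agent.Lib.Blocks (localRing mem_localRing)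
open Cfsg.Agent.Lib.Star (Spn)
open scoped ComplexConjugate

universe u

attribute [local instance] Classical.propDecidable

variable {G : Type u} [Group G] [Fintype G] {p : ℕ} {M : Ideal AlgInt} [Fact p.Prime] [M.IsPrime]
  {B : Set (IrrCharacter G)} {b : BrauerPairIdx G}
  (hM : IsPModular p M) (hmax : IsMaximalBrauerPair p M B b.1 b.2)
  (hab : ∀ x ∈ b.1, ∀ y ∈ b.1, x * y = y * x) (hfree : IsFree b)

include hM hmax hab hfree in
/-- The coefficients give relations on the regular elements. -/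
theorem sum_mCoef_mul_eq_zero (ε : b.1 → ℤ) (l : b.1 →* ℂˣ) {g : G} (hg : ¬ p ∣ orderOf g) :
    ∑ χ ∈ B.toFinset, mCoef p M b ε χ l * (χ : G → ℂ) g = 0 := by
  simp only [mCoef, Finset.mul_sum, Finset.sum_mul]
  rw [Finset.sum_comm]
  refine Finset.sum_eq_zero fun v hv => ?_
  have hv1 : (v : G) ≠ 1 := fun h => (Finset.mem_erase.1 hv).1 (Subtype.ext h)
  rw [Finset.sum_congr rfl (g := fun χ => ((Nat.card b.1 : ℂ)⁻¹ * (ε v : ℂ) *
    ((l v⁻¹ : ℂ) - 1)) * (val p M b χ v * (χ : G → ℂ) g)) fun χ _ => by ring, ← Finset.mul_sum,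
    (column_props hM hmax hab v.2 hv1 (isNilpotent_bu hM hmax hab hfree v.2 hv1) g).1 hg, mul_zero]

include hM hmax hab hfree in
/-- The shape of the columns when the regular rank is the inertial index. -/
theorem exists_shape (hP1 : ∃ w : b.1, w ≠ 1) {ε : b.1 → ℤ} (hεv : ∀ w, ε w = 1 ∨ ε w = -1)
    (hεA : ∀ α ∈ iner hmax.1.1.2, ∀ w, ε (α w) = ε w)
    (hεG : ∀ (k : ℕ), k.Coprime (Nat.card G) → ∀ w, ε (w ^ k) = ε w)
    (hεS : ∀ χ ∈ B, ∃ F : b.1 → ℂ, Spn (localRing M) F ∧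
      ∀ w : b.1, w ≠ 1 → Cong M (Nat.card b.1) ((ε w : ℂ) * val p M b χ w) (F w))
    (hl : blockRank p B = Nat.card (iner hmax.1.1.2)) [Fintype (iner hmax.1.1.2)]
    {J : Type u} [Fintype J] {rep : J → (b.1 →* ℂˣ)} (hr1 : ∀ j, rep j ≠ 1)
    (hrsur : ∀ l, l ≠ 1 → ∃ j, ∃ α ∈ iner hmax.1.1.2, act (rep j) α = l)
    (hrinj : ∀ i j, ∀ α ∈ iner hmax.1.1.2, act (rep j) α = rep i → i = j ∧ α = 1)
    (ht : Fintype.card J * Nat.card (iner hmax.1.1.2) = Nat.card b.1 - 1) :
    ∃ (δ : IrrCharacter G → ℤ) (δ₀ : ℤ) (ψ : J → IrrCharacter G),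
      (∀ χ, δ χ = 1 ∨ δ χ = -1) ∧ (δ₀ = 1 ∨ δ₀ = -1) ∧ Function.Injective ψ ∧ (∀ j, ψ j ∈ B) ∧
      Nat.card B = blockRank p B + Fintype.card J ∧
      (B.toFinset \ univ.image ψ).card = Nat.card (iner hmax.1.1.2) ∧
      (∀ i j, mCoef p M b ε (ψ j) (rep i) = if i = j then (δ₀ : ℂ) else 0) ∧
      (∀ χ ∈ B.toFinset \ univ.image ψ, ∀ i, mCoef p M b ε χ (rep i) = (δ χ : ℂ)) ∧
      (∀ χ ∈ B.toFinset \ univ.image ψ, ∀ v : b.1, v ≠ 1 →
        (ε v : ℂ) * val p M b χ v = -(δ χ : ℂ)) ∧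
      (∀ j, ∀ v : b.1, v ≠ 1 → (ε v : ℂ) * val p M b (ψ j) v =
        (δ₀ : ℂ) * ∑ α : iner hmax.1.1.2, (rep j ((α : MulAut b.1) v) : ℂ)) := by
  set e := Nat.card (iner hmax.1.1.2) with he
  have hepos : 0 < e := card_iner_pos hmax
  have hS : HasSigns p M B b hmax.1.1.2 := ⟨ε, hεv, hεA, hεG, hεS⟩
  obtain ⟨-, hk, -⟩ := counts hM hmax hab hfree hS hP1
  rw [← he, ← ht, Nat.mul_div_cancel _ hepos] at hk
  have hJ : 0 < Fintype.card J := by
    rcases Nat.eq_zero_or_pos (Fintype.card J) with h | h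
    · exfalso
      rw [h, zero_mul] at ht
      obtain ⟨u, hu⟩ := hP1
      haveI : Nontrivial b.1 := ⟨u, 1, hu⟩
      have := (Finite.one_lt_card : 1 < Nat.card b.1)
      omega
    · exact h
  choose N hN using fun (χ : B) (j : J) =>
    exists_int_mCoef hM hmax hab hεG (hεS χ χ.2) (rep j)
  have hG : ∀ i j, ∑ χ : B, N χ i * N χ j = (e : ℤ) + if i = j then 1 else 0 := fun i j =>
    gram_rep hM hmax hab hfree hεv hεA hr1 hrinj N (fun χ j => (hN χ j).symm) i j
  have hrow : ∀ χ : B, ∃ j, N χ j ≠ 0 := fun χ =>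
    (exists_mCoef_ne_zero hM hmax hab hfree hεv hεA hP1 hrsur χ.2).imp fun j hj h =>
      hj (by rw [hN χ j, h, Int.cast_zero])
  obtain ⟨σ, π, hσ, hπ, hπrow, hXrow⟩ := Comb.exists_shape hG hrow hJ (by
    rw [Fintype.card_eq_nat_card, hk, hl])
  let δ : IrrCharacter G → ℤ := fun χ => if h : χ ∈ B then σ ⟨χ, h⟩ else 1
  have hδ : ∀ χ : B, δ χ = σ χ := fun χ => by simp [δ, χ.2]
  have hδv : ∀ χ, δ χ = 1 ∨ δ χ = -1 := fun χ => by
    simp only [δ]; split_ifs with h
    · exact hσ _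
    · exact Or.inl rfl
  let ψ : J → IrrCharacter G := fun j => (π j : IrrCharacter G)
  have hψinj : Function.Injective ψ := fun i j h => hπ (Subtype.ext h)
  set X := B.toFinset \ univ.image ψ with hX
  have hXmem : ∀ {χ}, χ ∈ X → ∃ h : χ ∈ B, ∀ j, π j ≠ ⟨χ, h⟩ := by
    intro χ h
    obtain ⟨h1, h2⟩ := Finset.mem_sdiff.1 h
    exact ⟨Set.mem_toFinset.1 h1, fun j hj =>
      h2 (Finset.mem_image.2 ⟨j, Finset.mem_univ _, congrArg Subtype.val hj⟩)⟩
  have hXm : ∀ χ ∈ X, ∀ i, mCoef p M b ε χ (rep i) = (δ χ : ℂ) := by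
    intro χ hχ i
    obtain ⟨h, hne⟩ := hXmem hχ
    rw [hN ⟨χ, h⟩ i, hXrow ⟨χ, h⟩ hne i, ← hδ]
  have hψm : ∀ i j, mCoef p M b ε (ψ j) (rep i) = if i = j then (σ (π j) : ℂ) else 0 := by
    intro i j
    rw [hN (π j) i, hπrow i j]
    split_ifs <;> simp
  have hsub : univ.image ψ ⊆ B.toFinset := fun χ h => by
    obtain ⟨j, -, rfl⟩ := Finset.mem_image.1 h
    exact Set.mem_toFinset.2 (π j).2
  -- the signs of the unit rows agree
  have hrel : ∀ j, ∑ χ ∈ X, (δ χ : ℂ) * (χ : G → ℂ) 1 +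
      (σ (π j) : ℂ) * (ψ j : G → ℂ) 1 = 0 := by
    intro j
    have h := sum_mCoef_mul_eq_zero hM hmax hab hfree ε (rep j) (g := 1) (by
      rw [orderOf_one]; exact (Fact.out : p.Prime).not_dvd_one)
    rw [← Finset.sum_sdiff hsub, ← hX, Finset.sum_image fun _ _ _ _ h => hψinj h,
      Finset.sum_eq_single j (fun i _ hij => by rw [hψm, if_neg (Ne.symm hij), zero_mul]) (by simp),
      hψm, if_pos rfl] at h
    exact (congrArg (· + _) (Finset.sum_congr rfl fun χ hχ => by rw [hXm χ hχ j])).trans h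
  obtain ⟨j0⟩ := Fintype.card_pos_iff.1 hJ
  set δ₀ := σ (π j0) with hδ₀
  have hsame : ∀ j, σ (π j) = δ₀ := by
    intro j
    have h := add_left_cancel ((hrel j).trans (hrel j0).symm)
    rw [(Blocks.HeightZero.charDegree_eq (ψ j)).1.symm,
      (Blocks.HeightZero.charDegree_eq (ψ j0)).1.symm] at h
    have hp1 : 0 < charDegree (ψ j : G → ℂ) := Nat.pos_of_ne_zero (Blocks.HeightZero.charDegree_eq (ψ j)).2
    have hp2 : 0 < charDegree (ψ j0 : G → ℂ) := Nat.pos_of_ne_zero (Blocks.HeightZero.charDegree_eq (ψ j0)).2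
    have h' : σ (π j) * (charDegree (ψ j : G → ℂ) : ℤ) =
        δ₀ * (charDegree (ψ j0 : G → ℂ) : ℤ) := by exact_mod_cast h
    rcases hσ (π j) with a | a <;> rcases hσ (π j0) with c | c <;> rw [← hδ₀] at c <;>
      rw [a, c] at h' <;> rw [a, c] <;> omega
  have hψm' : ∀ i j, mCoef p M b ε (ψ j) (rep i) = if i = j then (δ₀ : ℂ) else 0 := fun i j => by
    rw [hψm, hsame]
  haveI : Finite (b.1 →* ℂˣ) := Finite.of_injective _ Chars.linIrr_injective
  haveI := Fintype.ofFinite (b.1 →* ℂˣ)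
  have horb : ∀ (χ : IrrCharacter G) {j : J} {α : MulAut b.1}, α ∈ iner hmax.1.1.2 →
      mCoef p M b ε χ (act (rep j) α) = mCoef p M b ε χ (rep j) := fun χ j α hα =>
    mCoef_act hM hmax hab hfree hεA χ _ hα
  have hsum1 : ∀ v : b.1, v ≠ 1 → ∑ l : b.1 →* ℂˣ, (l v : ℂ) = 0 := by
    intro v hv
    letI : CommGroup b.1 :=
      { (inferInstance : Group b.1) with mul_comm := fun x y => Subtype.ext (hab _ x.2 _ y.2) }
    rw [sum_monoidHom_units, if_neg hv]
  refine ⟨δ, δ₀, ψ, hδv, hσ _, hψinj, fun j => (π j).2, hk, ?_, hψm', hXm,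
    fun χ hχ v hv => ?_, fun j v hv => ?_⟩
  · rw [Finset.card_sdiff_of_subset hsub, Finset.card_image_of_injective _ hψinj,
      Finset.card_univ, ← Nat.card_eq_card_toFinset, hk, hl, Nat.add_sub_cancel]
  · rw [← sum_hom_mul_mCoef hM hmax hab ε χ hv,
      Finset.sum_congr rfl (g := fun l => (δ χ : ℂ) * (l v : ℂ) -
        if l = 1 then (δ χ : ℂ) * (l v : ℂ) else 0) fun l _ => by
        by_cases hl1 : l = 1
        · subst hl1; simp [mCoef_one]
        · obtain ⟨j, α, hα, rfl⟩ := hrsur l hl1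
          rw [horb χ hα, hXm χ hχ j, if_neg hl1]
          ring, Finset.sum_sub_distrib, Finset.sum_ite_eq' univ (1 : b.1 →* ℂˣ),
      if_pos (Finset.mem_univ _), ← Finset.mul_sum, hsum1 v hv]
    simp
  · rw [← sum_hom_mul_mCoef hM hmax hab ε (ψ j) hv, Finset.mul_sum,
      Finset.sum_congr rfl (g := fun α : iner hmax.1.1.2 =>
        (act (rep j) α v : ℂ) * mCoef p M b ε (ψ j) (act (rep j) α))
        (s₁ := univ (α := iner hmax.1.1.2)) fun α _ => by
        rw [horb (ψ j) α.2, hψm', if_pos rfl, act_apply]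
        ring]
    rw [← Finset.sum_image (f := fun l : b.1 →* ℂˣ => (l v : ℂ) * mCoef p M b ε (ψ j) l)
      (s := univ) (g := fun α : iner hmax.1.1.2 => act (rep j) α)]
    · refine (Finset.sum_subset (Finset.subset_univ _) fun l _ hl => ?_).symm
      by_cases hl1 : l = 1
      · subst hl1; rw [mCoef_one, mul_zero]
      · obtain ⟨i, α, hα, rfl⟩ := hrsur l hl1
        rw [horb (ψ j) hα, hψm', if_neg, mul_zero]
        rintro rfl
        exact hl (Finset.mem_image.2 ⟨⟨α, hα⟩, Finset.mem_univ _, rfl⟩)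
    · intro α _ β _ h
      have h1 : act (rep j) ((α : MulAut b.1) * (β : MulAut b.1)⁻¹) = rep j := by
        rw [← act_act]
        exact (congrArg (fun l => act l (β : MulAut b.1)⁻¹) h).trans (by
          rw [act_act, mul_inv_cancel, act_one])
      exact Subtype.ext (mul_inv_eq_one.1 (hrinj j j _ (mul_mem α.2 (inv_mem β.2)) h1).2)

include hM hmax hab hfree in
/-- A vector orthogonal to the coefficient rows is orthogonal to the values at singular
elements. -/
theorem singular_orth (ε : b.1 → ℤ) {J : Type u} [Fintype J] {rep : J → (b.1 →* ℂˣ)}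
    {δ₀ : ℤ} (hδ₀ : δ₀ = 1 ∨ δ₀ = -1) {ψ : J → IrrCharacter G} (hψB : ∀ j, ψ j ∈ B)
    (hk : Nat.card B = blockRank p B + Fintype.card J)
    (hψm : ∀ i j, mCoef p M b ε (ψ j) (rep i) = if i = j then (δ₀ : ℂ) else 0)
    (a : IrrCharacter G → ℂ)
    (ha : ∀ j, ∑ χ ∈ B.toFinset, a χ * mCoef p M b ε χ (rep j) = 0)
    {g : G} (hg : p ∣ orderOf g) : ∑ χ ∈ B.toFinset, a χ * (χ : G → ℂ) g = 0 := by
  let v : B → G → ℂ := fun φ => pRegularPart p ((φ : IrrCharacter G) : G → ℂ)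
  let L : (B → ℂ) →ₗ[ℂ] (G → ℂ) := Fintype.linearCombination ℂ v
  have hLapp : ∀ (w : B → ℂ) (x : G), L w x = if p ∣ orderOf x then 0 else
      ∑ φ, w φ * ((φ : IrrCharacter G) : G → ℂ) x := fun w x => by
    simp only [L, Fintype.linearCombination_apply, Finset.sum_apply, Pi.smul_apply, smul_eq_mul,
      v, BrauerFeit.pRegularPart_apply]
    split_ifs <;> simp
  have hsumB : ∀ F : IrrCharacter G → ℂ, ∑ φ : B, F φ = ∑ χ ∈ B.toFinset, F χ := fun F =>
    (Finset.sum_subtype B.toFinset (p := fun χ => χ ∈ B) (fun χ => Set.mem_toFinset) F).symm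
  have hrange : Module.finrank ℂ (LinearMap.range L) = blockRank p B := by
    rw [blockRank]
    have hr : Set.range v = (fun φ : IrrCharacter G => pRegularPart p (φ : G → ℂ)) '' B := by
      ext f
      exact ⟨fun ⟨φ, hφ⟩ => ⟨φ, φ.2, hφ⟩, fun ⟨φ, hφ, h⟩ => ⟨⟨φ, hφ⟩, h⟩⟩
    rw [show LinearMap.range L = Submodule.span ℂ (Set.range v) from
      Fintype.range_linearCombination ℂ v, hr]
  have hker : Module.finrank ℂ (LinearMap.ker L) = Fintype.card J := by
    have h := LinearMap.finrank_range_add_finrank_ker L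
    rw [hrange, Module.finrank_fintype_fun_eq_card, Fintype.card_eq_nat_card, hk] at h
    omega
  let w : J → B → ℂ := fun j φ => mCoef p M b ε (φ : IrrCharacter G) (rep j)
  have hne : (δ₀ : ℂ) ≠ 0 := by rcases hδ₀ with h | h <;> simp [h]
  have hli : LinearIndependent ℂ w := by
    rw [Fintype.linearIndependent_iff]
    intro c hc i
    have := congrFun hc ⟨ψ i, hψB i⟩
    simp only [Finset.sum_apply, Pi.smul_apply, smul_eq_mul, w, hψm, mul_ite, mul_zero,
      Finset.sum_ite_eq', Finset.mem_univ, if_true, Pi.zero_apply] at this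
    exact (mul_eq_zero.1 this).resolve_right hne
  have hmem : ∀ j, w j ∈ LinearMap.ker L := fun j => LinearMap.mem_ker.2 (funext fun x => by
    rw [hLapp, Pi.zero_apply]
    split_ifs with h
    · rfl
    · exact (hsumB fun χ => mCoef p M b ε χ (rep j) * (χ : G → ℂ) x).trans
        (sum_mCoef_mul_eq_zero hM hmax hab hfree ε (rep j) h))
  have hspan : Submodule.span ℂ (Set.range w) = LinearMap.ker L := by
    refine Submodule.eq_of_le_of_finrank_le (Submodule.span_le.2 ?_) ?_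
    · rintro _ ⟨i, rfl⟩
      exact hmem i
    · rw [hker, finrank_span_eq_card hli]
  let z : B → ℂ := fun φ => ((φ : IrrCharacter G) : G → ℂ) g
  have hz : z ∈ LinearMap.ker L := LinearMap.mem_ker.2 (funext fun x => by
    rw [hLapp, Pi.zero_apply]
    split_ifs with h
    · rfl
    · have h0 := Blocks.weak_block_orth hM hmax.1.2.1 h (h := g⁻¹) (by rwa [orderOf_inv])
      simp only [← Chars.irr_inv, inv_inv] at h0
      rw [finsum_mem_eq_toFinset_sum] at h0
      rw [← h0, hsumB fun χ => (χ : G → ℂ) g * (χ : G → ℂ) x]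
      exact Finset.sum_congr rfl fun φ _ => mul_comm _ _)
  rw [← hspan, Submodule.mem_span_range_iff_exists_fun] at hz
  obtain ⟨c, hc⟩ := hz
  calc ∑ χ ∈ B.toFinset, a χ * (χ : G → ℂ) g
      = ∑ φ : B, a φ * ∑ j, c j * w j φ := by
        rw [← hsumB]
        refine Finset.sum_congr rfl fun φ _ => ?_
        have := congrFun hc φ
        simp only [Finset.sum_apply, Pi.smul_apply, smul_eq_mul] at this
        rw [this]
    _ = ∑ j, c j * ∑ φ : B, a φ * w j φ := by
        simp only [Finset.mul_sum]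
        rw [Finset.sum_comm]
        exact Finset.sum_congr rfl fun j _ => Finset.sum_congr rfl fun φ _ => by ring
    _ = 0 := Finset.sum_eq_zero fun j _ => by
        rw [hsumB fun χ => a χ * mCoef p M b ε χ (rep j), ha j, mul_zero]

end Cfsg.Agent.Lib.FreeInertia
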