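import Mathlib
import Cfsg.Prelude.Def_BlockLocal
import Cfsg.Agent.Lib.FreeInertia.Shape
import Cfsg.Agent.Lib.FreeInertia.FrobIrr
import Cfsg.Agent.Lib.FreeInertia.SignsTwo

/-!
# Perfect isometries with Frobenius groups
-/

set_option autoImplicit false
set_option linter.unusedSectionVars false

namespace Cfsg.Agent.Lib.FreeInertia

open Finset Cfsg Cfsg.Agent.Lib Cfsg.Agent.Lib.BrauerPairs Cfsg.Agent.Lib.AbelianStar
open Cfsg.Agent.Lib.NilBlock (bu bu_fst centralizer_bu con)
open Cfsg.Agent.Lib.Blocks (localRing mem_localRing)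

universe u v

attribute [local instance] Classical.propDecidable

/-- A signed bijection between characters whose kernel vanishes across regularity and is divisible
at singular pairs is perfect. -/
theorem isPerfectFun_of {G : Type u} [Group G] [Fintype G] {H : Type v} [Group H] [Fintype H]
    {p : ℕ} [Fact p.Prime] {M : Ideal AlgInt} [M.IsPrime] (hM : IsPModular p M)
    (I : IrrCharacter H → IrrCharacter G) (ε : IrrCharacter H → ℤ)
    (h0 : ∀ x y, ¬ (IsPRegular p x ↔ IsPRegular p y) →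
      signedBijectionKernel Set.univ I ε x y = 0)
    (hx : ∀ x y, p ∣ orderOf y → MemLocalRing M (signedBijectionKernel Set.univ I ε x y /
      (Nat.card (Subgroup.centralizer ({x} : Set G)) : ℂ)))
    (hy : ∀ x y, p ∣ orderOf y → MemLocalRing M (signedBijectionKernel Set.univ I ε x y /
      (Nat.card (Subgroup.centralizer ({y} : Set H)) : ℂ))) :
    IsPerfectFun p M (signedBijectionKernel Set.univ I ε) := by
  have hμ : ∀ x y, signedBijectionKernel Set.univ I ε x y =
      ∑ η, (ε η : ℂ) * (I η : G → ℂ) x * (η : H → ℂ) y := fun x y => by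
    rw [signedBijectionKernel, finsum_mem_univ, finsum_eq_sum_of_fintype]
  have hz : MemLocalRing M (0 : ℂ) := mem_localRing.1 (Subring.zero_mem _)
  intro x y
  by_cases hne : IsPRegular p x ↔ IsPRegular p y
  swap
  · rw [h0 x y hne, zero_div, zero_div]
    exact ⟨hz, hz, Or.inr rfl⟩
  refine ⟨?_, ?_, Or.inl hne⟩
  · by_cases hyp : p ∣ orderOf y
    · exact hx x y hyp
    · have hxr : ¬ p ∣ orderOf x := hne.2 hyp
      let a : IrrCharacter G → ℂ := fun χ =>
        ∑ η, if I η = χ then (ε η : ℂ) * (η : H → ℂ) y else 0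
      have ha : ∀ g : G, ∑ χ : IrrCharacter G, a χ * (χ : G → ℂ) g =
          signedBijectionKernel Set.univ I ε g y := fun g => by
        simp only [a, Finset.sum_mul, ite_mul, zero_mul]
        rw [Finset.sum_comm, hμ]
        refine Finset.sum_congr rfl fun η _ => ?_
        rw [Finset.sum_ite_eq, if_pos (Finset.mem_univ _)]
        ring
      have := KleinBlock.memLocalRing_div_centralizer hM a (fun χ => mem_localRing.1
        (Subring.sum_mem _ fun η _ => by
          split_ifs
          · exact mul_mem (Blocks.intCast_mem_localRing _)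
              (Blocks.isIntegral_mem_localRing (Chars.irr_isIntegral η _))
          · exact Subring.zero_mem _))
        (fun g hg => by
          rw [ha]
          exact h0 g y fun h => (h.2 hyp) hg) hxr
      rwa [ha] at this
  · by_cases hyp : p ∣ orderOf y
    · exact hy x y hyp
    · have hxr : ¬ p ∣ orderOf x := hne.2 hyp
      let a : IrrCharacter H → ℂ := fun η => (ε η : ℂ) * (I η : G → ℂ) x
      have ha : ∀ g : H, ∑ η : IrrCharacter H, a η * (η : H → ℂ) g =
          signedBijectionKernel Set.univ I ε x g := fun g => (hμ x g).symm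
      have := KleinBlock.memLocalRing_div_centralizer hM a (fun η => mem_localRing.1
          (mul_mem (Blocks.intCast_mem_localRing _)
            (Blocks.isIntegral_mem_localRing (Chars.irr_isIntegral (I η) _))))
        (fun g hg => by
          rw [ha]
          exact h0 x g fun h => (h.1 hxr) hg) hyp
      rwa [ha] at this

variable {G : Type u} [Group G] [Fintype G] {p : ℕ} {M : Ideal AlgInt} [Fact p.Prime] [M.IsPrime]
  {B : Set (IrrCharacter G)} {b : BrauerPairIdx G}
  (hM : IsPModular p M) (hmax : IsMaximalBrauerPair p M B b.1 b.2)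
  (hab : ∀ x ∈ b.1, ∀ y ∈ b.1, x * y = y * x) (hfree : IsFree b)

include hM hmax hab hfree in
/-- A block whose regular rank is the inertial index is perfectly isometric to the Frobenius
extension of its defect group by the inertial automorphisms. -/
theorem exists_isometry (hP1 : ∃ w : b.1, w ≠ 1)
    (hl : blockRank p B = Nat.card (iner hmax.1.1.2)) [Fintype (iner hmax.1.1.2)]
    {F : Type v} [Group F] [Fintype F] {Q : Subgroup F} [Q.Normal] {φ : Q ≃* b.1}
    (hT : Transports Q φ (iner hmax.1.1.2)) :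
    ∃ (I : IrrCharacter F → IrrCharacter G) (ε : IrrCharacter F → ℤ),
      IsPerfectIsometry p M (Set.univ : Set (IrrCharacter F)) B I ε ∧
      ∀ η η' : IrrCharacter F, (∃ x ∈ Q, (η : F → ℂ) x ≠ (η : F → ℂ) 1) →
        (∃ x ∈ Q, (η' : F → ℂ) x ≠ (η' : F → ℂ) 1) → ε η = ε η' := by
  obtain ⟨ε₁, hεv, hεA, hεG, hεS⟩ := hasSigns hM hmax hab hfree hP1
  obtain ⟨J, _, rep, hr1, hrsur, hrinj, ht⟩ := exists_reps hM hmax hab hfree
  obtain ⟨δ, δ₀, ψ, hδ, hδ₀, hψinj, hψB, hk, hXcard, hψm, hXm, hXv, hψv⟩ :=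
    exists_shape hM hmax hab hfree hP1 hεv hεA hεG hεS hl hr1 hrsur hrinj ht
  obtain ⟨S, θ, hθinj, hθS, hall, hScard, hSQ, hSoff, hθoff, hθon⟩ :=
    hT.exists_irr hr1 hrinj ht
  set X := B.toFinset \ univ.image ψ with hX
  haveI : Nonempty J := by
    refine Fintype.card_pos_iff.1 (Nat.pos_of_ne_zero fun h => ?_)
    rw [h, zero_mul] at ht
    obtain ⟨w, hw⟩ := hP1
    haveI : Nontrivial b.1 := ⟨w, 1, hw⟩
    have := (Finite.one_lt_card : 1 < Nat.card b.1)
    omega
  let e : ↥S ≃ ↥X := Finset.equivOfCardEq (hScard.trans hXcard.symm)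
  have hθex : ∀ η, η ∉ S → ∃ j, θ j = η := fun η h => by
    have := hall.ge (Finset.mem_univ η)
    rcases Finset.mem_union.1 this with h' | h'
    · exact absurd h' h
    · obtain ⟨j, -, hj⟩ := Finset.mem_image.1 h'
      exact ⟨j, hj⟩
  let I : IrrCharacter F → IrrCharacter G := fun η =>
    if h : η ∈ S then (e ⟨η, h⟩ : IrrCharacter G) else ψ (Function.invFun θ η)
  let ε : IrrCharacter F → ℤ := fun η => if η ∈ S then δ (I η) else -δ₀
  have hIS : ∀ η (h : η ∈ S), I η = e ⟨η, h⟩ := fun η h => dif_pos h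
  have hISX : ∀ η ∈ S, I η ∈ X := fun η h => hIS η h ▸ (e ⟨η, h⟩).2
  have hIθ : ∀ j, I (θ j) = ψ j := fun j => by
    simp only [I, dif_neg (hθS j), Function.leftInverse_invFun hθinj j]
  have hεS : ∀ η ∈ S, ε η = δ (I η) := fun η h => if_pos h
  have hεθ : ∀ j, ε (θ j) = -δ₀ := fun j => if_neg (hθS j)
  have hXdis : ∀ j, ψ j ∉ X := fun j h => (Finset.mem_sdiff.1 h).2
    (Finset.mem_image.2 ⟨j, Finset.mem_univ _, rfl⟩)
  have hbij : Set.BijOn I Set.univ B := by
    refine ⟨fun η _ => ?_, fun η _ η' _ h => ?_, fun χ hχ => ?_⟩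
    · by_cases h : η ∈ S
      · exact Set.mem_toFinset.1 (Finset.mem_sdiff.1 (hISX η h)).1
      · obtain ⟨j, rfl⟩ := hθex η h
        rw [hIθ]; exact hψB j
    · by_cases h1 : η ∈ S <;> by_cases h2 : η' ∈ S
      · rw [hIS η h1, hIS η' h2] at h
        exact congrArg Subtype.val (e.injective (Subtype.ext h))
      · obtain ⟨j, rfl⟩ := hθex η' h2
        rw [hIθ] at h
        exact absurd (h ▸ hISX η h1) (hXdis j)
      · obtain ⟨j, rfl⟩ := hθex η h1
        rw [hIθ] at h
        exact absurd (h ▸ hISX η' h2) (hXdis j)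
      · obtain ⟨i, rfl⟩ := hθex η h1
        obtain ⟨j, rfl⟩ := hθex η' h2
        rw [hIθ, hIθ] at h
        rw [hψinj h]
    · by_cases h : χ ∈ univ.image ψ
      · obtain ⟨j, -, rfl⟩ := Finset.mem_image.1 h
        exact ⟨θ j, Set.mem_univ _, hIθ j⟩
      · have hX' : χ ∈ X := Finset.mem_sdiff.2 ⟨Set.mem_toFinset.2 hχ, h⟩
        refine ⟨e.symm ⟨χ, hX'⟩, Set.mem_univ _, ?_⟩
        rw [hIS _ (e.symm ⟨χ, hX'⟩).2]
        simp
  have hre : ∀ K : IrrCharacter G → ℂ, ∑ η, K (I η) = ∑ χ ∈ B.toFinset, K χ := fun K => by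
    refine Finset.sum_nbij I (fun η _ => Set.mem_toFinset.2 (hbij.mapsTo (Set.mem_univ η)))
      (fun η _ η' _ h => hbij.injOn (Set.mem_univ η) (Set.mem_univ η') h) (fun χ hχ => ?_)
      fun η _ => rfl
    obtain ⟨η, -, h⟩ := hbij.surjOn (Set.mem_toFinset.1 hχ)
    exact ⟨η, Finset.mem_univ _, h⟩
  have hsplit : ∀ K : IrrCharacter F → ℂ, ∑ η, K η = ∑ η ∈ S, K η + ∑ j, K (θ j) := fun K => by
    rw [← hall, Finset.sum_union (Finset.disjoint_left.2 fun η h1 h2 => by
      obtain ⟨j, -, rfl⟩ := Finset.mem_image.1 h2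
      exact hθS j h1), Finset.sum_image fun _ _ _ _ h => hθinj h]
  have hμ : ∀ x y, signedBijectionKernel Set.univ I ε x y =
      ∑ η, (ε η : ℂ) * (I η : G → ℂ) x * (η : F → ℂ) y := fun x y => by
    rw [signedBijectionKernel, finsum_mem_univ, finsum_eq_sum_of_fintype]
  obtain ⟨f, -, hker, hf⟩ := hT.exists_hom
  have hpA : ¬ p ∣ Nat.card (iner hmax.1.1.2) := not_dvd_card_aut hM hmax hab
  have hQp : IsPGroup p Q := (hmax.1.1.1 : IsPGroup p b.1).of_equiv φ.symm
  -- singular elements lie in `Q`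
  have hcen : ∀ z ∈ Q, z ≠ 1 → ∀ g : F, g * z = z * g → g ∈ Q := by
    intro z hz hz1 g hg
    refine hker.le (MonoidHom.mem_ker.2 (Subtype.ext (eq_one_of_fixed hmax hfree (f g).2
      (x := φ ⟨z, hz⟩) (fun h => hz1 (congrArg Subtype.val ((MulEquiv.map_eq_one_iff φ).1 h))) ?_)))
    rw [← hf g ⟨z, hz⟩]
    congr 1
    refine Subtype.ext ?_
    show g * z * g⁻¹ = z
    rw [hg, mul_inv_cancel_right]
  have hsing : ∀ y : F, p ∣ orderOf y → y ∈ Q := by
    intro y hy
    have hpos := (orderOf_pos y).ne'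
    have hzord : orderOf (y ^ (orderOf y / p)) = p := orderOf_pow_orderOf_div hpos hy
    refine hcen (y ^ (orderOf y / p)) ?_ (fun h => ?_) y (Commute.self_pow y _).eq
    · refine hker.le (MonoidHom.mem_ker.2 ?_)
      rw [← orderOf_eq_one_iff]
      have h1 : orderOf (f (y ^ (orderOf y / p))) ∣ p :=
        (orderOf_map_dvd f _).trans hzord.dvd
      rcases (Nat.dvd_prime (Fact.out : p.Prime)).1 h1 with h | h
      · exact h
      · exact absurd (h.symm.dvd.trans (orderOf_dvd_natCard _)) hpA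
    · rw [h, orderOf_one] at hzord
      exact (Fact.out : p.Prime).ne_one hzord.symm
  have hreg : ∀ y ∈ Q, ¬ p ∣ orderOf y → y = 1 := by
    intro y hy h
    obtain ⟨k, hk⟩ := IsPGroup.iff_orderOf.1 hQp ⟨y, hy⟩
    rw [Subgroup.orderOf_mk] at hk
    rcases k with _ | k
    · exact orderOf_eq_one_iff.1 (by simpa using hk)
    · exact absurd (hk ▸ dvd_pow_self p k.succ_ne_zero) h
  -- the kernel at singular elements of `F`
  have hcol : ∀ y : F, p ∣ orderOf y → ∃ (v : b.1) (c : ℤ), v ≠ 1 ∧ (c = 1 ∨ c = -1) ∧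
      Nat.card (Subgroup.centralizer ({y} : Set F)) = Nat.card b.1 ∧
      ∀ x, signedBijectionKernel Set.univ I ε x y =
        (c : ℂ) * ∑ χ ∈ B.toFinset, val p M b χ v * (χ : G → ℂ) x := by
    intro y hy
    have hyQ := hsing y hy
    have hy1 : y ≠ 1 := fun h => by
      rw [h, orderOf_one] at hy; exact (Fact.out : p.Prime).not_dvd_one hy
    set v := φ ⟨y, hyQ⟩ with hv
    have hv1 : v ≠ 1 := fun h => hy1 (congrArg Subtype.val ((MulEquiv.map_eq_one_iff φ).1 h))
    refine ⟨v, -ε₁ v, hv1, by rcases hεv v with h | h <;> simp [h], ?_, fun x => ?_⟩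
    · rw [← Nat.card_congr φ.toEquiv, show Subgroup.centralizer ({y} : Set F) = Q from ?_]
      refine Subgroup.ext fun g => ⟨fun hg => hcen y hyQ hy1 g
        (Subgroup.mem_centralizer_singleton_iff.1 hg), fun hg => ?_⟩
      refine Subgroup.mem_centralizer_singleton_iff.2 ?_
      have hg' : g ∈ Subgroup.centralizer (Q : Set F) := by rw [hT.cent]; exact hg
      exact (Subgroup.mem_centralizer_iff.1 hg' y hyQ).symm
    · rw [hμ, ← hre, Finset.mul_sum, hsplit, hsplit]
      congr 1
      · refine Finset.sum_congr rfl fun η hη => ?_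
        have h := hXv _ (hISX η hη) v hv1
        rw [hεS η hη, hSQ η hη ⟨y, hyQ⟩]
        push_cast
        linear_combination ((I η : G → ℂ) x) * h
      · refine Finset.sum_congr rfl fun j _ => ?_
        have h := hψv j v hv1
        rw [hεθ, hIθ, show (θ j : F → ℂ) y = _ from hθon j ⟨y, hyQ⟩, ← hv]
        push_cast
        linear_combination ((ψ j : G → ℂ) x) * h
  refine ⟨I, ε, ⟨hbij, fun η _ => ?_, isPerfectFun_of hM I ε ?_ ?_ ?_⟩, ?_⟩
  · simp only [ε]
    split_ifs
    · exact hδ _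
    · rcases hδ₀ with h | h <;> simp [h]
  · intro x y hne
    by_cases hy : p ∣ orderOf y
    · obtain ⟨v, c, hv1, -, -, hk⟩ := hcol y hy
      have hx : ¬ p ∣ orderOf x := fun h => hne ⟨fun h' => absurd h h', fun h' => absurd hy h'⟩
      rw [hk, (column_props hM hmax hab v.2 (fun h => hv1 (Subtype.ext h))
        (isNilpotent_bu hM hmax hab hfree v.2 fun h => hv1 (Subtype.ext h)) x).1 hx, mul_zero]
    · have hx : p ∣ orderOf x := not_not.1 fun h => hne ⟨fun _ => hy, fun _ => h⟩
      let a : IrrCharacter G → ℂ := fun χ =>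
        ∑ η, if I η = χ then (ε η : ℂ) * (η : F → ℂ) y else 0
      have haK : ∀ K : IrrCharacter G → ℂ, ∑ χ ∈ B.toFinset, a χ * K χ =
          ∑ η, (ε η : ℂ) * (η : F → ℂ) y * K (I η) := fun K => by
        simp only [a, Finset.sum_mul, ite_mul, zero_mul]
        rw [Finset.sum_comm]
        refine Finset.sum_congr rfl fun η _ => ?_
        rw [Finset.sum_ite_eq, if_pos (Set.mem_toFinset.2 (hbij.mapsTo (Set.mem_univ η)))]
      have h0 := singular_orth hM hmax hab hfree ε₁ hδ₀ hψB hk hψm a (fun i => ?_) hx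
      · rw [hμ, ← h0, haK fun χ => (χ : G → ℂ) x]
        exact Finset.sum_congr rfl fun η _ => by ring
      · rw [haK fun χ => mCoef p M b ε₁ χ (rep i), hsplit,
          Finset.sum_congr rfl (g := fun η => (η : F → ℂ) y) (s₁ := S) fun η hη => by
            rw [hεS η hη, hXm _ (hISX η hη) i]
            rcases hδ (I η) with h | h <;> simp [h],
          Finset.sum_congr rfl (g := fun j => if i = j then -(θ j : F → ℂ) y else 0)
            (s₁ := (univ : Finset J)) fun j _ => by
            rw [hεθ, hIθ, hψm]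
            split_ifs
            · rcases hδ₀ with h | h <;> simp [h]
            · rw [mul_zero],
          Finset.sum_ite_eq, if_pos (Finset.mem_univ _)]
        by_cases hyQ : y ∈ Q
        · obtain rfl := hreg y hyQ hy
          have hone : ∀ η ∈ S, (η : F → ℂ) 1 = 1 := fun η hη => hSQ η hη (1 : Q)
          rw [Finset.sum_congr rfl hone, show (θ i : F → ℂ) 1 = _ from hθon i (1 : Q)]
          simp [hScard]
        · rw [hSoff y hyQ, hθoff i y hyQ, neg_zero, add_zero]
  · intro x y hy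
    obtain ⟨v, c, hv1, -, -, hk⟩ := hcol y hy
    rw [hk, mul_div_assoc]
    exact mem_localRing.1 (mul_mem (Blocks.intCast_mem_localRing _) (mem_localRing.2
      (column_props hM hmax hab v.2 (fun h => hv1 (Subtype.ext h))
        (isNilpotent_bu hM hmax hab hfree v.2 fun h => hv1 (Subtype.ext h)) x).2.2))
  · intro x y hy
    obtain ⟨v, c, hv1, -, hc, hk⟩ := hcol y hy
    rw [hk, hc, mul_div_assoc]
    exact mem_localRing.1 (mul_mem (Blocks.intCast_mem_localRing _) (mem_localRing.2
      (column_props hM hmax hab v.2 (fun h => hv1 (Subtype.ext h))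
        (isNilpotent_bu hM hmax hab hfree v.2 fun h => hv1 (Subtype.ext h)) x).2.1))
  · intro η η' hη hη'
    have hnS : ∀ ξ : IrrCharacter F, (∃ x ∈ Q, (ξ : F → ℂ) x ≠ (ξ : F → ℂ) 1) → ε ξ = -δ₀ := by
      rintro ξ ⟨x, hx, hne⟩
      refine if_neg fun h => hne ?_
      exact (hSQ ξ h ⟨x, hx⟩).trans (hSQ ξ h (1 : Q)).symm
    rw [hnS η hη, hnS η' hη']

end Cfsg.Agent.Lib.FreeInertia
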