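import Mathlib
import Cfsg.Agent.Lib.FreeInertia.Perfect
import Cfsg.Agent.Lib.CyclicDefect.Rank
import Cfsg.Agent.Lib.OrderCount.SubgroupsSq

/-!
# Perfect isometries of blocks with cyclic defect groups
-/

set_option autoImplicit false
set_option linter.unusedSectionVars false

namespace Cfsg.Agent.Lib.FreeInertia

open Finset Cfsg Cfsg.Agent.Lib Cfsg.Agent.Lib.BrauerPairs Cfsg.Agent.Lib.AbelianStar

universe u v w

attribute [local instance] Classical.propDecidable

theorem mulAut_comm {P : Type u} [Group P] [Finite P] [IsCyclic P] (α β : MulAut P) :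
    α * β = β * α :=
  (IsCyclic.mulAutMulEquiv P).injective (by rw [map_mul, map_mul, mul_comm])

theorem normal_of_card {F : Type v} [Group F] [Finite F] {p : ℕ} [Fact p.Prime] {Q : Subgroup F}
    {n e : ℕ} (hQ : Nat.card Q = p ^ n) (hF : Nat.card F = Nat.card Q * e) (he : e < p) :
    Q.Normal := by
  have hidx : Q.index = e := by
    have h := Subgroup.index_mul_card Q
    rw [hF, mul_comm] at h
    exact Nat.eq_of_mul_eq_mul_left Nat.card_pos h
  have he0 : 0 < e := hidx ▸ Nat.pos_of_ne_zero Subgroup.index_ne_zero_of_finite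
  obtain ⟨S, hS⟩ : ∃ S : Sylow p F, (S : Subgroup F) = Q :=
    ⟨(IsPGroup.of_card hQ).toSylow (by
      rw [hidx]; exact Nat.not_dvd_of_pos_of_lt he0 he), rfl⟩
  have h1 := card_sylow_modEq_one p F
  have h2 : Nat.card (Sylow p F) ∣ e := hidx ▸ hS ▸ S.card_dvd_index
  have h3 : Nat.card (Sylow p F) = 1 := by
    have h4 := Nat.le_of_dvd he0 h2
    unfold Nat.ModEq at h1
    rwa [Nat.mod_eq_of_lt (by omega), Nat.mod_eq_of_lt (Fact.out : p.Prime).one_lt] at h1
  haveI : Subsingleton (Sylow p F) := (Nat.card_eq_one_iff_unique.1 h3).1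
  exact hS ▸ S.normal_of_subsingleton

theorem exists_transports {P : Type u} [Group P] [Finite P] [IsCyclic P] {p : ℕ} [Fact p.Prime]
    (hP : IsPGroup p P) {A : Subgroup (MulAut P)} {e : ℕ} (hA : Nat.card A = e) (he : e ∣ p - 1)
    {F : Type v} [Group F] [Fintype F] {Q : Subgroup F} [Q.Normal] [IsCyclic Q]
    (hQ : Nat.card Q = Nat.card P) (hF : Nat.card F = Nat.card P * e)
    (hQC : Subgroup.centralizer (Q : Set F) = Q) : ∃ φ : Q ≃* P, Transports Q φ A := by
  let φ : Q ≃* P := mulEquivOfCyclicCardEq hQ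
  let f : F →* MulAut P := (MulAut.congr φ).toMonoidHom.comp (MulAut.conjNormal (H := Q))
  have hf : ∀ (g : F) (q : Q), φ (conjQ Q g q) = f g (φ q) := fun g q => by
    show φ (conjQ Q g q) = φ (MulAut.conjNormal g (φ.symm (φ q)))
    rw [MulEquiv.symm_apply_apply]
    congr 1
  have hker : f.ker = Q := by
    ext g
    have hiff : g ∈ Q ↔ g ∈ Subgroup.centralizer (Q : Set F) := by rw [hQC]
    rw [hiff, MonoidHom.mem_ker, Subgroup.mem_centralizer_iff]
    refine ⟨fun h q hq => ?_, fun h => MulEquiv.ext fun x => ?_⟩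
    · have h1 := hf g ⟨q, hq⟩
      rw [h, MulAut.one_apply] at h1
      have h2 : g * q * g⁻¹ = q := congrArg Subtype.val (φ.injective h1)
      calc q * g = g * q * g⁻¹ * g := by rw [h2]
        _ = g * q := by group
    · obtain ⟨q, rfl⟩ := φ.surjective x
      rw [← hf g q, MulAut.one_apply]
      congr 1
      refine Subtype.ext ?_
      show g * (q : F) * g⁻¹ = q
      rw [← h q q.2, mul_inv_cancel_right]
  have hrange : Nat.card f.range = e := by
    rw [← Subgroup.index_ker, hker]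
    have h := Subgroup.index_mul_card Q
    rw [hF, hQ, mul_comm] at h
    exact Nat.eq_of_mul_eq_mul_left Nat.card_pos h
  have heq : f.range = A := by
    by_cases hp : p = 2
    · subst hp
      have he1 : e = 1 := Nat.eq_one_of_dvd_one (by simpa using he)
      rw [Subgroup.card_eq_one.1 (hrange.trans he1), Subgroup.card_eq_one.1 (hA.trans he1)]
    · obtain ⟨k, hk⟩ := IsPGroup.iff_card.mp hP
      haveI : IsCyclic (ZMod (Nat.card P))ˣ := by
        rw [hk]; exact ZMod.isCyclic_units_of_prime_pow p Fact.out hp k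
      haveI : IsCyclic (MulAut P) := (IsCyclic.mulAutMulEquiv P).isCyclic.mpr inferInstance
      exact OrderCount.subgroup_eq_of_isCyclic _ _ (hrange.trans hA.symm)
  refine ⟨φ, fun g => ⟨f g, heq ▸ ⟨g, rfl⟩, hf g⟩, fun α hα => ?_, hQC,
    fun α _ β _ => mulAut_comm α β⟩
  rw [← heq] at hα
  obtain ⟨g, rfl⟩ := hα
  exact ⟨g, hf g⟩

variable {G : Type u} [Group G] [Fintype G] {p : ℕ} {M : Ideal AlgInt} [Fact p.Prime] [M.IsPrime]
  {B : Set (IrrCharacter G)} {b : BrauerPairIdx G}
  (hM : IsPModular p M) (hmax : IsMaximalBrauerPair p M B b.1 b.2) (hcyc : IsCyclic b.1)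
  (hne : b.1 ≠ ⊥)

include hM hmax hcyc hne in
/-- A block with cyclic defect group is perfectly isometric to the Frobenius group. -/
theorem exists_isometry_of_isCyclic {F : Type v} [Group F] [Fintype F]
    (hF : Nat.card F =
      Nat.card b.1 * (Subgroup.centralizer (b.1 : Set G)).relIndex (pairStab hmax.1.1.2))
    {Q : Subgroup F} [IsCyclic Q] (hQ : Nat.card Q = Nat.card b.1)
    (hQC : Subgroup.centralizer (Q : Set F) = Q) :
    ∃ (I : IrrCharacter F → IrrCharacter G) (ε : IrrCharacter F → ℤ),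
      IsPerfectIsometry p M (Set.univ : Set (IrrCharacter F)) B I ε ∧
      ∀ η η' : IrrCharacter F, (∃ x ∈ Q, (η : F → ℂ) x ≠ (η : F → ℂ) 1) →
        (∃ x ∈ Q, (η' : F → ℂ) x ≠ (η' : F → ℂ) 1) → ε η = ε η' := by
  have hab := CyclicDefect.comm_of_isCyclic hcyc
  have hfree := isFree_of_isCyclic hM hmax hab hcyc
  haveI := hcyc
  haveI : Finite (MulAut b.1) := Finite.of_injective _ DFunLike.coe_injective
  haveI := Fintype.ofFinite (iner hmax.1.1.2)
  have hP1 : ∃ w : b.1, w ≠ 1 := by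
    haveI : Nontrivial b.1 := (Subgroup.nontrivial_iff_ne_bot b.1).2 hne
    exact exists_ne 1
  have hdvd := CyclicDefect.inertia_dvd hM hmax hcyc hne
  obtain ⟨n, hn⟩ := IsPGroup.iff_card.1 (hmax.1.1.1 : IsPGroup p b.1)
  have hlt : (Subgroup.centralizer (b.1 : Set G)).relIndex (pairStab hmax.1.1.2) < p := by
    have h1 := (Fact.out : p.Prime).two_le
    have h2 := Nat.le_of_dvd (by omega) hdvd
    omega
  haveI : Q.Normal := normal_of_card (n := n) (hQ.trans hn) (by rw [hF, hQ]) hlt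
  obtain ⟨φ, hT⟩ := exists_transports (hmax.1.1.1 : IsPGroup p b.1)
    (CyclicDefect.card_iner hmax.1.1.2) hdvd hQ hF hQC
  exact exists_isometry hM hmax hab hfree hP1
    ((CyclicDefect.rank_and_card hM hmax hcyc hne).1.trans (CyclicDefect.card_iner hmax.1.1.2).symm)
    hT

include hM in
/-- Two sets perfectly isometric to the same group are perfectly isometric. -/
theorem exists_isometry_comp {H : Type w} [Group H] [Fintype H] {c : Set (IrrCharacter H)}
    {F : Type v} [Group F] [Fintype F] {I : IrrCharacter F → IrrCharacter G}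
    {ε : IrrCharacter F → ℤ} (hI : IsPerfectIsometry p M (Set.univ : Set (IrrCharacter F)) B I ε)
    {J : IrrCharacter F → IrrCharacter H} {η₁ : IrrCharacter F → ℤ}
    (hJ : IsPerfectIsometry p M (Set.univ : Set (IrrCharacter F)) c J η₁) :
    ∃ (K : IrrCharacter H → IrrCharacter G) (τ : IrrCharacter H → ℤ),
      IsPerfectIsometry p M c B K τ := by
  obtain ⟨hbI, hsI, hpI⟩ := hI
  obtain ⟨hbJ, hsJ, hpJ⟩ := hJ
  haveI : Nonempty (IrrCharacter F) := ⟨Chars.trivialIrr F⟩
  let back : IrrCharacter H → IrrCharacter F := fun θ => Function.invFun J θ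
  have hJinj : Function.Injective J := fun a a' h => hbJ.injOn (Set.mem_univ a) (Set.mem_univ a') h
  have hback : ∀ η, back (J η) = η := fun η => Function.leftInverse_invFun hJinj η
  have hsur : ∀ θ ∈ c, ∃ η, J η = θ := fun θ hθ => by
    obtain ⟨η, -, h⟩ := hbJ.surjOn hθ
    exact ⟨η, h⟩
  refine ⟨fun θ => I (back θ), fun θ => ε (back θ) * η₁ (back θ), ⟨fun θ _ =>
    hbI.mapsTo (Set.mem_univ _), fun θ hθ θ' hθ' h => ?_, fun χ hχ => ?_⟩, fun θ _ => ?_, ?_⟩
  · obtain ⟨η, rfl⟩ := hsur θ hθ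
    obtain ⟨η', rfl⟩ := hsur θ' hθ'
    simp only [hback] at h
    rw [hbI.injOn (Set.mem_univ η) (Set.mem_univ η') h]
  · obtain ⟨η, -, rfl⟩ := hbI.surjOn hχ
    exact ⟨J η, hbJ.mapsTo (Set.mem_univ η), by simp only [hback]⟩
  · rcases hsI (back θ) (Set.mem_univ _) with h | h <;>
      rcases hsJ (back θ) (Set.mem_univ _) with h' | h' <;> simp [h, h']
  set μ₁ := signedBijectionKernel Set.univ I ε with hμ₁
  set μ₂ := signedBijectionKernel Set.univ J η₁ with hμ₂
  have hk₁ : ∀ x z, μ₁ x z = ∑ η, (ε η : ℂ) * (I η : G → ℂ) x * (η : F → ℂ) z := fun x z => by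
    rw [hμ₁, signedBijectionKernel, finsum_mem_univ, finsum_eq_sum_of_fintype]
  have hk₂ : ∀ y z, μ₂ y z = ∑ η, (η₁ η : ℂ) * (J η : H → ℂ) y * (η : F → ℂ) z := fun y z => by
    rw [hμ₂, signedBijectionKernel, finsum_mem_univ, finsum_eq_sum_of_fintype]
  have hFne : (Nat.card F : ℂ) ≠ 0 := Chars.natCard_ne_zero
  have hker : ∀ x y, signedBijectionKernel c (fun θ => I (back θ))
      (fun θ => ε (back θ) * η₁ (back θ)) x y =
        (Nat.card F : ℂ)⁻¹ * ∑ z : F, μ₁ x z * μ₂ y z⁻¹ := by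
    intro x y
    rw [signedBijectionKernel, finsum_mem_eq_toFinset_sum,
      ← Finset.sum_nbij (s := (univ : Finset (IrrCharacter F))) (t := c.toFinset) J
        (fun η _ => Set.mem_toFinset.2 (hbJ.mapsTo (Set.mem_univ η)))
        (fun a _ a' _ h => hJinj h)
        (fun θ hθ => (hsur θ (Set.mem_toFinset.1 hθ)).imp fun η h => ⟨Finset.mem_univ _, h⟩)
        (fun η _ => rfl)]
    have hprod : ∀ z : F, μ₁ x z * μ₂ y z⁻¹ = ∑ η, ∑ η', ((ε η : ℂ) * (I η : G → ℂ) x *
        ((η₁ η' : ℂ) * (J η' : H → ℂ) y)) * ((η : F → ℂ) z * (η' : F → ℂ) z⁻¹) := fun z => by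
      rw [hk₁, hk₂, Finset.sum_mul_sum]
      exact Finset.sum_congr rfl fun η _ => Finset.sum_congr rfl fun η' _ => by ring
    simp only [hprod, hback]
    rw [Finset.sum_comm, Finset.mul_sum]
    refine Finset.sum_congr rfl fun η _ => ?_
    rw [Finset.sum_comm]
    simp only [← Finset.mul_sum]
    have horth : ∀ η' : IrrCharacter F, ∑ z : F, (η : F → ℂ) z * (η' : F → ℂ) z⁻¹ =
        if η = η' then (Nat.card F : ℂ) else 0 := fun η' => by
      have h := mul_inv_cancel_left₀ hFne (∑ z : F, (η : F → ℂ) z * (η' : F → ℂ) z⁻¹)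
      rw [← h]
      have h2 : (Nat.card F : ℂ)⁻¹ * ∑ z : F, (η : F → ℂ) z * (η' : F → ℂ) z⁻¹ =
          classInner (η : F → ℂ) (η' : F → ℂ) := by
        rw [classInner]
        exact congrArg _ (Finset.sum_congr rfl fun z _ => by rw [Chars.irr_inv])
      rw [h2]
      split_ifs with hh
      · subst hh; rw [Chars.classInner_irr_self, mul_one]
      · rw [Chars.classInner_irr_of_ne hh, mul_zero]
    simp only [horth, mul_ite, mul_zero, Finset.sum_ite_eq, Finset.mem_univ, if_true]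
    push_cast
    field_simp
  intro x y
  rw [hker x y]
  have hclass₁ : ∀ g z, μ₁ x (g * z * g⁻¹) = μ₁ x z := fun g z => by
    simp only [hk₁, Chars.irr_isClassFunction _ z g]
  have hclass₂ : ∀ g z, μ₂ y (g * z * g⁻¹)⁻¹ = μ₂ y z⁻¹ := fun g z => by
    simp only [hk₂, mul_inv_rev, inv_inv, ← mul_assoc, Chars.irr_isClassFunction _ z⁻¹ g]
  have hcls : ∑ z : F, μ₁ x z * μ₂ y z⁻¹ = ∑ C : ConjClasses F, (Nat.card F : ℂ) *
      ((μ₁ x C.out * μ₂ y C.out⁻¹) /
        (Nat.card (Subgroup.centralizer ({C.out} : Set F)) : ℂ)) := by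
    rw [← Finset.sum_fiberwise univ ConjClasses.mk]
    refine Finset.sum_congr rfl fun C _ => ?_
    have hC : ∀ z, ConjClasses.mk z = C ↔ IsConj C.out z := fun z => by
      conv_lhs => rw [← Quotient.out_eq C]
      exact ⟨fun h => (ConjClasses.mk_eq_mk_iff_isConj.1 h).symm,
        fun h => ConjClasses.mk_eq_mk_iff_isConj.2 h.symm⟩
    rw [Finset.sum_congr rfl (g := fun _ => μ₁ x C.out * μ₂ y C.out⁻¹) fun z hz => by
        obtain ⟨g, hg⟩ := isConj_iff.1 ((hC z).1 (Finset.mem_filter.1 hz).2)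
        rw [← hg, hclass₁, hclass₂],
      Finset.sum_const, nsmul_eq_mul, Finset.filter_congr fun z _ => hC z,
      ← Fintype.card_subtype, ← Nat.card_eq_fintype_card, Chars.card_conjClass_eq_index,
      ← Subgroup.index_mul_card (Subgroup.centralizer ({C.out} : Set F))]
    have hc : (Nat.card (Subgroup.centralizer ({C.out} : Set F)) : ℂ) ≠ 0 := Chars.natCard_ne_zero
    push_cast
    field_simp
  rw [hcls, ← Finset.mul_sum, ← mul_assoc, inv_mul_cancel₀ hFne, one_mul]
  refine ⟨?_, ?_, ?_⟩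
  · rw [Finset.sum_div]
    refine Blocks.mem_localRing.1 (Subring.sum_mem _ fun C _ => ?_)
    have h1 := (hpI x C.out).1
    have h2 := (hpJ y C.out⁻¹).2.1
    rw [card_centralizer_inv] at h2
    rw [show μ₁ x C.out * μ₂ y C.out⁻¹ / (Nat.card (Subgroup.centralizer ({C.out} : Set F)) : ℂ) /
        (Nat.card (Subgroup.centralizer ({x} : Set G)) : ℂ) =
      (μ₁ x C.out / (Nat.card (Subgroup.centralizer ({x} : Set G)) : ℂ)) *
        (μ₂ y C.out⁻¹ / (Nat.card (Subgroup.centralizer ({C.out} : Set F)) : ℂ)) by ring]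
    exact mul_mem (Blocks.mem_localRing.2 h1) (Blocks.mem_localRing.2 h2)
  · rw [Finset.sum_div]
    refine Blocks.mem_localRing.1 (Subring.sum_mem _ fun C _ => ?_)
    have h1 := (hpI x C.out).2.1
    have h2 := (hpJ y C.out⁻¹).1
    rw [show μ₁ x C.out * μ₂ y C.out⁻¹ / (Nat.card (Subgroup.centralizer ({C.out} : Set F)) : ℂ) /
        (Nat.card (Subgroup.centralizer ({y} : Set H)) : ℂ) =
      (μ₁ x C.out / (Nat.card (Subgroup.centralizer ({C.out} : Set F)) : ℂ)) *
        (μ₂ y C.out⁻¹ / (Nat.card (Subgroup.centralizer ({y} : Set H)) : ℂ)) by ring]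
    exact mul_mem (Blocks.mem_localRing.2 h1) (Blocks.mem_localRing.2 h2)
  · by_cases hxy : IsPRegular p x ↔ IsPRegular p y
    · exact Or.inl hxy
    refine Or.inr (Finset.sum_eq_zero fun C _ => ?_)
    rcases (hpI x C.out).2.2 with h | h
    · rcases (hpJ y C.out⁻¹).2.2 with h' | h'
      · refine absurd (h.trans (Iff.trans ?_ h'.symm)) hxy
        simp only [IsPRegular, orderOf_inv]
      · change μ₂ y C.out⁻¹ = 0 at h'
        rw [h', mul_zero, zero_div]
    · change μ₁ x C.out = 0 at h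
      rw [h, zero_mul, zero_div]

end Cfsg.Agent.Lib.FreeInertia
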