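import Mathlib
import Cfsg.Agent.Lib.FreeInertia.CyclicIsometry
import Cfsg.Agent.Lib.BrauerPairs.KernelCore
import Cfsg.Agent.Lib.BrauerMap.BlockConj

/-!
# Blocks with cyclic defect groups and their correspondents
-/

set_option autoImplicit false
set_option linter.unusedSectionVars false

namespace Cfsg.Agent.Lib.FreeInertia

open Finset Cfsg Cfsg.Agent.Lib Cfsg.Agent.Lib.BrauerPairs

universe u

attribute [local instance] Classical.propDecidable

variable {G : Type u} [Group G] [Fintype G] {p : ℕ} {M : Ideal AlgInt} [Fact p.Prime] [M.IsPrime]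

/-- A pair and its image in the whole group have the same inertial index when the subgroup
contains the normalizer of the pair. -/
theorem relIndex_pairStab_push {H : Subgroup G} {Q : Subgroup G} {Q' : Subgroup H}
    (hQ : Q'.map H.subtype = Q) (hC : Subgroup.centralizer (Q : Set G) ≤ H)
    (hN : Subgroup.normalizer (Q : Set G) ≤ H)
    {e : Set (IrrCharacter (Subgroup.centralizer (Q' : Set H)))}
    (haB : IsPBlock M (KernelCore.pushPair hQ hC e).2)
    (hac : IsPBlock M (⟨Q', e⟩ : BrauerPairIdx H).2) :
    (Subgroup.centralizer (Q : Set G)).relIndex (pairStab haB) =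
      (Subgroup.centralizer (Q' : Set H)).relIndex (pairStab hac) := by
  set a : BrauerPairIdx G := KernelCore.pushPair hQ hC e with ha
  set a' : BrauerPairIdx H := ⟨Q', e⟩ with ha'
  have hcoeff : ∀ n : H, coeffFun a (n : G) = coeffFun a' n := by
    intro n
    by_cases hn : (n : G) ∈ Subgroup.centralizer (Q : Set G)
    · have e1 : coeffFun a (n : G) = blockCoeff a.2 ⟨(n : G), hn⟩ :=
        BrauerMap.subgroupBlockCoeff_of_mem (Subgroup.centralizer (Q : Set G)) a.2 ⟨(n : G), hn⟩
      have e2 : coeffFun a' n = blockCoeff a'.2 (KernelCore.centEquivSub hQ hC ⟨(n : G), hn⟩) :=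
        BrauerMap.subgroupBlockCoeff_of_mem _ a'.2 (KernelCore.centEquivSub hQ hC ⟨(n : G), hn⟩)
      rw [e1, e2]
      exact BrauerMap.blockCoeff_image_irrCongr _ _ _
    · rw [coeffFun_of_notMem (a := a) hn, coeffFun_of_notMem (a := a') fun h => hn ?_]
      exact ((KernelCore.centEquivSub hQ hC).symm ⟨n, h⟩).2
  have hle : pairStab haB ≤ H := fun x hx => hN ((mem_pairStab_iff haB).1 hx).1
  have hnorm : ∀ x : H, x ∈ Subgroup.normalizer (Q' : Set H) ↔
      (x : G) ∈ Subgroup.normalizer (Q : Set G) := by
    intro x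
    have hmem : ∀ y : H, y ∈ Q' ↔ (y : G) ∈ Q := fun y => by
      rw [← hQ]
      exact ⟨fun h => ⟨y, h, rfl⟩, fun ⟨z, hz, hzy⟩ => H.subtype_injective hzy ▸ hz⟩
    simp only [Subgroup.mem_normalizer_iff]
    constructor
    · intro h z
      by_cases hz : z ∈ H
      · have h1 := h ⟨z, hz⟩
        rw [hmem, hmem] at h1
        exact h1
      · refine ⟨fun hzQ => absurd ((Subgroup.map_subtype_le Q') (hQ.symm ▸ hzQ)) hz,
          fun hzQ => absurd ?_ hz⟩
        have h1 : (x : G) * z * (x : G)⁻¹ ∈ H := (Subgroup.map_subtype_le Q') (hQ.symm ▸ hzQ)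
        simpa [mul_assoc] using mul_mem (mul_mem (inv_mem x.2) h1) x.2
    · intro h y
      rw [hmem, hmem]
      exact h y
  have hstab : pairStab hac = (pairStab haB).subgroupOf H := by
    ext x
    rw [Subgroup.mem_subgroupOf, mem_pairStab_iff, mem_pairStab_iff]
    refine and_congr (hnorm x) ⟨fun h g => ?_, fun h n => ?_⟩
    · by_cases hg : g ∈ H
      · have h1 := h ⟨g, hg⟩
        rw [← hcoeff, ← hcoeff] at h1
        exact h1
      · rw [coeffFun_of_notMem (a := a) fun h' => hg ?_,
          coeffFun_of_notMem (a := a) fun h' => hg (hC h')]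
        have := mul_mem (mul_mem x.2 (hC h')) (inv_mem x.2)
        simpa [mul_assoc] using this
    · rw [← hcoeff, ← hcoeff]
      exact h n
  have hcent : Subgroup.centralizer (Q' : Set H) =
      (Subgroup.centralizer (Q : Set G)).subgroupOf H := by
    ext x
    exact ⟨fun h => ((KernelCore.centEquivSub hQ hC).symm ⟨x, h⟩).2,
      fun h => (KernelCore.centEquivSub hQ hC ⟨(x : G), h⟩).2⟩
  rw [hcent, hstab, Subgroup.relIndex_subgroupOf hle]

/-- The semidirect product of a group by a group of its automorphisms. -/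
theorem exists_model {P : Type u} [Group P] [Finite P] [IsCyclic P] (A : Subgroup (MulAut P)) :
    ∃ (F : Type u) (_ : Group F) (_ : Fintype F) (Q : Subgroup F), IsCyclic Q ∧
      Nat.card Q = Nat.card P ∧ Nat.card F = Nat.card P * Nat.card A ∧
      Subgroup.centralizer (Q : Set F) = Q := by
  haveI : Finite (MulAut P) := Finite.of_injective _ DFunLike.coe_injective
  haveI : Finite (P ⋊[A.subtype] A) := Finite.of_equiv _ SemidirectProduct.equivProd.symm
  refine ⟨P ⋊[A.subtype] A, inferInstance, Fintype.ofFinite _,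
    (SemidirectProduct.inl : P →* P ⋊[A.subtype] A).range, ?_, ?_, SemidirectProduct.card, ?_⟩
  · exact isCyclic_of_surjective _ (MonoidHom.rangeRestrict_surjective _)
  · exact Nat.card_congr (MonoidHom.ofInjective SemidirectProduct.inl_injective).toEquiv.symm
  · letI : CommGroup P := IsCyclic.commGroup
    refine Subgroup.ext fun x => ⟨fun hx => ?_, ?_⟩
    · have hr : x.right = 1 := Subtype.ext (MulEquiv.ext fun y => by
        have h := Subgroup.mem_centralizer_iff.1 hx _ ⟨y, rfl⟩
        have h' := congrArg SemidirectProduct.left h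
        simp only [SemidirectProduct.mul_left, SemidirectProduct.left_inl,
          SemidirectProduct.right_inl, map_one, MulAut.one_apply, Subgroup.subtype_apply] at h'
        rw [mul_comm y] at h'
        exact (mul_left_cancel h').symm)
      exact ⟨x.left, SemidirectProduct.ext (by simp) (by simp [hr])⟩
    · rintro ⟨y, rfl⟩
      refine Subgroup.mem_centralizer_iff.2 ?_
      rintro _ ⟨z, rfl⟩
      rw [← map_mul, ← map_mul, mul_comm]

/-- Blocks of `G` and of a subgroup with equal inertial index and cyclic defect groups of equal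
order have the same invariants and are perfectly isometric. -/
theorem exists_correspondent (hM : IsPModular p M) {B : Set (IrrCharacter G)} {P : Subgroup G}
    (hcyc : IsCyclic P) (hP1 : P ≠ ⊥) (hPD : IsDefectGroup p M B P) {H : Subgroup G}
    (hN : Subgroup.normalizer (P : Set G) ≤ H) {c : Set (IrrCharacter H)}
    (hcD : IsDefectGroup p M c (P.subgroupOf H)) (hc : IsInducedBlock M H c B) :
    Nat.card c = Nat.card B ∧ blockRank p c = blockRank p B ∧
      ∃ (I : IrrCharacter H → IrrCharacter G) (ε : IrrCharacter H → ℤ),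
        IsPerfectIsometry p M c B I ε := by
  haveI : Fintype H := Fintype.ofFinite _
  have hPN : P ≤ H := Subgroup.le_normalizer.trans hN
  have hCN : Subgroup.centralizer (P : Set G) ≤ H :=
    (Subgroup.centralizer_le_normalizer _).trans hN
  have hQ := Subgroup.map_subgroupOf_eq_of_le hPN
  obtain ⟨c0, hc0⟩ := KernelCore.exists_pair_at_defectGroup hM hc.1 hcD
  have hmaxc := KernelCore.isMaximal_of_defectGroup hM
    (a := (⟨_, c0⟩ : BrauerPairIdx H)) hc0 hcD
  have hpair := KernelCore.isBrauerPairOf_push hQ hCN hM hc hc0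
  have hmaxB := KernelCore.isMaximal_of_defectGroup hM
    (a := KernelCore.pushPair hQ hCN c0) hpair hPD
  have hcycc : IsCyclic (P.subgroupOf H) := (Subgroup.subgroupOfEquivOfLe hPN).isCyclic.2 hcyc
  have hne : P.subgroupOf H ≠ ⊥ := fun h => hP1 (by rw [← hQ, h, Subgroup.map_bot])
  have hcard : Nat.card (P.subgroupOf H) = Nat.card P :=
    Nat.card_congr (Subgroup.subgroupOfEquivOfLe hPN).toEquiv
  have he := relIndex_pairStab_push (M := M) hQ hCN hN (e := c0) hmaxB.1.1.2 hmaxc.1.1.2
  obtain ⟨hlB, hkB⟩ := CyclicDefect.rank_and_card (b := KernelCore.pushPair hQ hCN c0) hM hmaxB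
    hcyc hP1
  obtain ⟨hlc, hkc⟩ := CyclicDefect.rank_and_card (b := (⟨_, c0⟩ : BrauerPairIdx H)) hM hmaxc
    hcycc hne
  change blockRank p B = (Subgroup.centralizer (P : Set G)).relIndex _ at hlB
  change blockRank p c = (Subgroup.centralizer (P.subgroupOf H : Set H)).relIndex _ at hlc
  change Nat.card B = (Subgroup.centralizer (P : Set G)).relIndex _ + (Nat.card P - 1) /
    (Subgroup.centralizer (P : Set G)).relIndex _ at hkB
  change Nat.card c = (Subgroup.centralizer (P.subgroupOf H : Set H)).relIndex _ +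
    (Nat.card (P.subgroupOf H) - 1) /
    (Subgroup.centralizer (P.subgroupOf H : Set H)).relIndex _ at hkc
  refine ⟨by rw [hkc, hkB, hcard, he], by rw [hlc, hlB, he], ?_⟩
  haveI := hcyc
  haveI := hcycc
  haveI : IsCyclic (KernelCore.pushPair hQ hCN c0).1 := hcyc
  obtain ⟨F, _, _, Q, hQc, hQcard, hFcard, hQC⟩ :=
    exists_model (iner (b := KernelCore.pushPair hQ hCN c0) hmaxB.1.1.2)
  rw [CyclicDefect.card_iner] at hFcard
  haveI := hQc
  obtain ⟨I, ε, hI, -⟩ := exists_isometry_of_isCyclic (b := KernelCore.pushPair hQ hCN c0) hM hmaxB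
    hcyc hP1 hFcard hQcard hQC
  obtain ⟨J, η, hJ, -⟩ := exists_isometry_of_isCyclic (b := (⟨_, c0⟩ : BrauerPairIdx H)) hM hmaxc
    hcycc hne (F := F) (Q := Q)
    (hFcard.trans (by
      change Nat.card P * (Subgroup.centralizer (P : Set G)).relIndex _ =
        Nat.card (P.subgroupOf H) * (Subgroup.centralizer (P.subgroupOf H : Set H)).relIndex _
      rw [hcard, he]))
    (hQcard.trans hcard.symm) hQC
  exact exists_isometry_comp hM hI hJ

end Cfsg.Agent.Lib.FreeInertia
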